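import Cfsg.Agent.H115.HC.Rows

/-!
# `4` divides some degree of `G₂(q)` (`q ≥ 3`) and of `³D₄(q)` (helper115, for S5009)

* `im4_G2`, `im4_3D4` : `IM 4 S`.
-/

set_option autoImplicit false

open Cfsg Cfsg.Lie

namespace Cfsg.Agent.H115.HC.Rows

open Cfsg.Agent.H53.HC Cfsg.Agent.Nodes.RGDChev

/-- the Steinberg character in characteristic two -/
theorem im4_of_rgd {S : Type*} [Group S] [Finite S] (hR : HasRGD 2 S) (hd : 4 ∣ Nat.card S) : H33.IM 4 S := by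
  have := Fact.mk Nat.prime_two
  obtain ⟨χ, hχ, h1⟩ := H167.SteinbergRGD.steinberg_of_hasRGD hR
  have Q : Sylow 2 S := default
  exact H33.IM.of_apply_one hχ (h1 Q).1 (Q.pow_dvd_card_of_pow_dvd_card (n := 2) hd)

theorem two_ne_zero_of {K : Type} [Field K] {r : ℕ} (hr : r.Prime) [CharP K r] (h2 : r ≠ 2) : (2 : K) ≠ 0 := by
  intro h
  have h1 : ((2 : ℕ) : K) = 0 := by exact_mod_cast h
  rw [CharP.cast_eq_zero_iff K r] at h1
  exact h2 ((Nat.prime_dvd_prime_iff_eq hr Nat.prime_two).1 h1)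

/-- **`4` divides a degree of `G₂(q)`.** -/
theorem im4_G2 (S : Type*) [Group S] [Finite S] (h : Lie.IsoChevG2 S) (_hs : IsSimpleGroup S) : H33.IM 4 S := by
  classical
  obtain ⟨F, _, _, h3, ⟨e⟩⟩ := h
  obtain ⟨r, f, hr, hch, hf, hcard⟩ := exists_char F
  have hN : Nat.card S = (Fintype.card F) ^ 6 * ((Fintype.card F) ^ 2 - 1) * ((Fintype.card F) ^ 6 - 1) := by
    rw [Nat.card_congr e.toEquiv]
    exact Cfsg.Agent.S1059.result rfl
  by_cases h2 : r = 2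
  · subst h2
    refine im4_of_rgd ((hasRGD_G2 F 2).of_equiv e.symm) ?_
    rw [hN, hcard]
    refine Dvd.dvd.mul_right (Dvd.dvd.mul_right ?_ _) _
    rw [← pow_mul]
    exact (pow_dvd_pow 2 (show 2 ≤ f * 6 by omega) : 2 ^ 2 ∣ 2 ^ (f * 6))
  · refine H33.IM.of_equiv e ?_
    have h2F := two_ne_zero_of (K := F) hr h2
    have hodd : Fintype.card F % 2 = 1 := by
      rw [hcard, Nat.pow_mod, hr.eq_two_or_odd.resolve_left h2]
      simp
    rcases Nat.eq_or_lt_of_le h3 with h4 | h4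
    · have hch3 : CharP F 3 := by
        have h6 : r ∣ 3 := by
          rw [h4, hcard]
          exact dvd_pow_self r hf.ne'
        have h7 := (Nat.prime_dvd_prime_iff_eq hr Nat.prime_three).1 h6
        rwa [h7] at hch
      have e1 := (ZMod.ringEquivOfPrime F Nat.prime_three h4.symm).symm
      have e' := Cfsg.Agent.ChevStructure.FieldMap.groupEquivOfRingEquiv chevG2 e1
      refine H33.IM.of_equiv e' ?_
      obtain ⟨χ, hχ⟩ := GThree.char_three
      exact ⟨χ, (by norm_num : 4 ∣ 364).trans hχ⟩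
    · obtain ⟨χ, m, h5, -, h6⟩ := GTwo.char_four (K := F) h4
      refine ⟨χ, ?_⟩
      rw [h5]
      obtain ⟨k, hk⟩ := h6 h2F
      obtain ⟨j, hj⟩ : 2 ∣ Fintype.card F + 1 := by omega
      rw [hj, hk]
      exact ⟨j * (Fintype.card F ^ 4 + Fintype.card F ^ 2 + 1) * k, by ring⟩

/-- **`4` divides a degree of `³D₄(q)`.** -/
theorem im4_3D4 (S : Type*) [Group S] [Finite S] (h : Lie.Iso3D4 S) (_hs : IsSimpleGroup S) : H33.IM 4 S := by
  classical
  obtain ⟨K, _, _, q, hq, hK, ⟨e⟩⟩ := h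
  have hN : Nat.card S = _ := (Nat.card_congr e.toEquiv).trans (Cfsg.Agent.S1067.result hq hK)
  obtain ⟨r, f, hr, hf, hqf⟩ := id hq
  have hr := hr.nat_prime
  have hch : CharP K r := by
    obtain ⟨p, hch⟩ := CharP.exists K
    obtain ⟨⟨k, hk⟩, hpp, hcard⟩ := FiniteField.card K p
    have h1 : p ∣ r ^ (f * 3) := by
      rw [pow_mul, hqf, ← hK, hcard]
      exact dvd_pow_self p hk.ne'
    have h2 := (Nat.prime_dvd_prime_iff_eq hpp hr).1 (hpp.dvd_of_dvd_pow h1)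
    rwa [h2] at hch
  by_cases h2 : r = 2
  · subst h2
    refine im4_of_rgd ((Cfsg.Agent.Nodes.RGDTwD4.hasRGD hq hK 2).of_equiv e.symm) ?_
    rw [hN]
    refine Dvd.dvd.mul_right (Dvd.dvd.mul_right (Dvd.dvd.mul_right ?_ _) _) _
    rw [← hqf, ← pow_mul]
    exact (pow_dvd_pow 2 (show 2 ≤ f * 12 by omega) : 2 ^ 2 ∣ 2 ^ (f * 12))
  · refine H33.IM.of_equiv e ?_
    have h2K := two_ne_zero_of (K := K) hr h2
    have hodd : q ^ 3 % 2 = 1 := by
      rw [← hqf, ← pow_mul, Nat.pow_mod, hr.eq_two_or_odd.resolve_left h2]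
      simp
    obtain ⟨χ, m, h5, -, h6⟩ := TwDFour.char_all hq hK
    refine ⟨χ, ?_⟩
    rw [h5]
    obtain ⟨k, hk⟩ := h6 h2K
    obtain ⟨j, hj⟩ : 2 ∣ q ^ 3 + 1 := by omega
    rw [hj, hk]
    exact ⟨j * (q ^ 8 + q ^ 4 + 1) * k, by ring⟩

end Cfsg.Agent.H115.HC.Rows
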