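import Cfsg.Agent.CharactersDeep.MackeyLinear
import Cfsg.Agent.H53.HC.Mackey
import Cfsg.Agent.Blocks.Basic

/-!
# Two constituents of the character induced by a linear character (helper115)

`B ≤ P ≤ G`, `f` a linear character of `P` such that for all `x ∉ P` the restriction of `f` to `B` and its conjugate by
`x` differ, `|P : B| = q + 1` and `|B : B ∩ x B x⁻¹| = q` for `x ∈ P \ B`.

`exists_two` : `G` has irreducible characters of the degrees `|G : P|` and `|G : P| q`.
-/

set_option autoImplicit false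

open scoped ComplexConjugate
open Cfsg

namespace Cfsg.Agent.H115.HC.Two

open Cfsg.Agent.OddOrderCharacters.Clifford Cfsg.Agent.CharactersDeep.MackeyLinear Cfsg.Agent.Characters
  Cfsg.Agent.Characters.Core

universe u

variable {G : Type u} [Group G]

theorem twist_lin [Finite G] (B P : Subgroup G) (hBP : B ≤ P) [Fintype B] (f : P →* ℂˣ) {x : G} (hx : x ∈ P) :
    twist B (fun t => (f ⟨t, hBP t.2⟩ : ℂ)) (fun t => (f ⟨t, hBP t.2⟩ : ℂ)) x = Nat.card (dsub B x) := by
  classical
  have : Fintype (dsub B x) := Fintype.ofFinite _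
  rw [twist_def, sum_eq_sum_subgroup (dsub B x)]
  · have h1 : ∀ d : dsub B x, (f ⟨(d : B), hBP (d : B).2⟩ : ℂ) *
        conj (extendByZero B (fun t => (f ⟨t, hBP t.2⟩ : ℂ)) (x⁻¹ * ((d : B) : G) * x)) = 1 := by
      intro d
      rw [ext_apply_mem B _ _ ((mem_dsub B x d).1 d.2)]
      have h2 : f ⟨x⁻¹ * ((d : B) : G) * x, hBP ((mem_dsub B x d).1 d.2)⟩ = f ⟨(d : B), hBP (d : B).2⟩ := by
        have h3 : (⟨x⁻¹ * ((d : B) : G) * x, hBP ((mem_dsub B x d).1 d.2)⟩ : P) =
            (⟨x, hx⟩ : P)⁻¹ * ⟨(d : B), hBP (d : B).2⟩ * ⟨x, hx⟩ := Subtype.ext rfl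
        rw [h3, map_mul, map_mul, map_inv, mul_comm (f ⟨x, hx⟩)⁻¹, mul_assoc, inv_mul_cancel, mul_one]
      rw [h2]
      exact mul_conj_hom f _
    rw [Finset.sum_congr rfl fun d _ => h1 d, Finset.sum_const, Finset.card_univ, nsmul_eq_mul, mul_one,
      Nat.card_eq_fintype_card]
  · intro t ht
    rw [mem_dsub] at ht
    rw [ext_apply_not_mem B _ _ ht, map_zero, mul_zero]

theorem dsub_of_mem (B : Subgroup G) {x : G} (hx : x ∈ B) : dsub B x = ⊤ := by
  rw [eq_top_iff]
  intro t _
  rw [mem_dsub]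
  exact mul_mem (mul_mem (inv_mem hx) t.2) hx

/-- the norm of the induced character -/
theorem norm_two [Fintype G] (B P : Subgroup G) (hBP : B ≤ P) (f : P →* ℂˣ)
    (h1 : ∀ x : G, x ∉ P → ∃ (t : B) (hx : x⁻¹ * t * x ∈ B), f ⟨t, hBP t.2⟩ ≠ f ⟨x⁻¹ * t * x, hBP hx⟩)
    {q : ℕ} (hq : 0 < q) (h2 : ∀ x ∈ P, x ∉ B → q * Nat.card (dsub B x) = Nat.card B)
    (h3 : Nat.card P = (q + 1) * Nat.card B) :
    classInner (indFun B (fun t => (f ⟨t, hBP t.2⟩ : ℂ))) (indFun B (fun t => (f ⟨t, hBP t.2⟩ : ℂ))) = 2 := by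
  classical
  have : Fintype B := Fintype.ofFinite B
  have : Fintype P := Fintype.ofFinite P
  rw [classInner_indFun_indFun, sum_eq_sum_subgroup P]
  · have e1 : ∀ x : P, twist B (fun t => (f ⟨t, hBP t.2⟩ : ℂ)) (fun t => (f ⟨t, hBP t.2⟩ : ℂ)) x =
        ((Nat.card (dsub B (x : G)) : ℕ) : ℂ) := fun x => twist_lin B P hBP f x.2
    rw [Finset.sum_congr rfl fun x _ => e1 x, ← Nat.cast_sum]
    have e2 : ∑ x : P, Nat.card (dsub B (x : G)) = 2 * Nat.card B ^ 2 := by
      have hB : ∀ x : P, (x : G) ∈ B → Nat.card (dsub B (x : G)) = Nat.card B := by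
        intro x hx
        rw [dsub_of_mem B hx, Subgroup.card_top]
      have e3 : q * ∑ x : P, Nat.card (dsub B (x : G)) = q * (2 * Nat.card B ^ 2) := by
        rw [← Finset.sum_filter_add_sum_filter_not Finset.univ (fun x : P => (x : G) ∈ B), mul_add, Finset.mul_sum,
          Finset.mul_sum]
        have c1 : (Finset.univ.filter (fun x : P => (x : G) ∈ B)).card = Nat.card B := by
          have : (Finset.univ.filter (fun x : P => (x : G) ∈ B)).card = Nat.card (B.subgroupOf P) := by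
            rw [Nat.card_eq_fintype_card, Fintype.card_subtype]
            congr 1
          rw [this]
          exact Nat.card_congr (Subgroup.subgroupOfEquivOfLe hBP).toEquiv
        have c2 : (Finset.univ.filter (fun x : P => ¬ (x : G) ∈ B)).card = q * Nat.card B := by
          have h4 := Finset.card_filter_add_card_filter_not (s := (Finset.univ : Finset P)) (fun x : P => (x : G) ∈ B)
          rw [c1, Finset.card_univ, ← Nat.card_eq_fintype_card, h3] at h4
          have e : (q + 1) * Nat.card B = Nat.card B + q * Nat.card B := by ring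
          rw [e] at h4
          exact Nat.add_left_cancel h4
        have s1 : ∑ x ∈ Finset.univ.filter (fun x : P => (x : G) ∈ B), q * Nat.card (dsub B (x : G)) =
            Nat.card B * (q * Nat.card B) := by
          have e4 : ∀ x ∈ Finset.univ.filter (fun x : P => (x : G) ∈ B), q * Nat.card (dsub B (x : G)) =
              q * Nat.card B := fun x hx => by rw [hB x (Finset.mem_filter.1 hx).2]
          rw [Finset.sum_congr rfl e4, Finset.sum_const, c1, smul_eq_mul]
        have s2 : ∑ x ∈ Finset.univ.filter (fun x : P => ¬ (x : G) ∈ B), q * Nat.card (dsub B (x : G)) =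
            q * Nat.card B * Nat.card B := by
          have e4 : ∀ x ∈ Finset.univ.filter (fun x : P => ¬ (x : G) ∈ B), q * Nat.card (dsub B (x : G)) =
              Nat.card B := fun x hx => h2 x x.2 (Finset.mem_filter.1 hx).2
          rw [Finset.sum_congr rfl e4, Finset.sum_const, c2, smul_eq_mul]
        rw [s1, s2]
        ring
      exact Nat.eq_of_mul_eq_mul_left hq e3
    rw [e2]
    have hB : (Nat.card B : ℂ) ≠ 0 := card_ne_zero'
    push_cast
    field_simp
  · intro x hx
    obtain ⟨t, ht, hne⟩ := h1 x hx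
    exact twist_eq_zero B (f.comp (Subgroup.inclusion hBP)) x ⟨t, ht, hne⟩

/-- **Irreducible characters of the degrees `|G : P|` and `|G : P| q`.** -/
theorem exists_two [Fintype G] (B P : Subgroup G) (hBP : B ≤ P) (f : P →* ℂˣ)
    (h1 : ∀ x : G, x ∉ P → ∃ (t : B) (hx : x⁻¹ * t * x ∈ B), f ⟨t, hBP t.2⟩ ≠ f ⟨x⁻¹ * t * x, hBP hx⟩)
    {q : ℕ} (hq : 0 < q) (h2 : ∀ x ∈ P, x ∉ B → q * Nat.card (dsub B x) = Nat.card B)
    (h3 : Nat.card P = (q + 1) * Nat.card B) :
    ∃ χ₁ χ₂ : IrrCharacter G, charDegree (χ₁ : G → ℂ) = P.index ∧ charDegree (χ₂ : G → ℂ) = P.index * q := by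
  classical
  have : Fintype B := Fintype.ofFinite B
  have : Fintype P := Fintype.ofFinite P
  have hn := norm_two B P hBP f h1 hq h2 h3
  set θ : B → ℂ := fun t => (f ⟨t, hBP t.2⟩ : ℂ) with hθ
  have hθi : IsIrrCharacter B θ := Linear.isIrrCharacter_hom (f.comp (Subgroup.inclusion hBP))
  have hfi : IsIrrCharacter P (fun t => (f t : ℂ)) := Linear.isIrrCharacter_hom f
  set χ₁ := indFun P (fun t => (f t : ℂ)) with hχ₁
  have hi1 : IsIrrCharacter G χ₁ := isIrrCharacter_indFun P f fun x hx => by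
    obtain ⟨t, ht, hne⟩ := h1 x hx
    exact ⟨⟨t, hBP t.2⟩, hBP ht, hne⟩
  set Θ := indFun B θ with hΘ
  have hΘc : IsCharacter G Θ := Cfsg.Agent.S0148.result B θ (isIrr_isCharacter hθi)
  -- the multiplicity of `χ₁` in `Θ`
  have hres : IsCharacter P (fun t : P => χ₁ t) := isCharacter_comp P.subtype (isIrr_isCharacter hi1)
  have hm1 : classInner (fun t : P => χ₁ t) (fun t => (f t : ℂ)) = 1 := by
    have e1 := classInner_indFun P (fun t => (f t : ℂ)) χ₁ (isIrr_isClassFunction hi1)
    rw [← hχ₁, classInner_irr_self hi1] at e1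
    have e2 := classInner_conj_symm (fun t => (f t : ℂ)) (fun t : P => χ₁ t)
    rw [← e1, map_one] at e2
    exact e2.symm
  have hsub := isCharacter_sub_irr hres hfi (by rw [hm1]; exact one_ne_zero)
  have hsubB : IsCharacter B (fun t : B => ((fun t : P => χ₁ t) - (fun t => (f t : ℂ))) (Subgroup.inclusion hBP t)) :=
    isCharacter_comp (Subgroup.inclusion hBP) hsub
  obtain ⟨m, hm⟩ := classInner_isNat (isIrr_isCharacter hθi) hsubB
  have hc : classInner Θ χ₁ = 1 + (m : ℂ) := by
    rw [hΘ, classInner_indFun B θ χ₁ (isIrr_isClassFunction hi1)]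
    have e1 : (fun t : B => χ₁ t) =
        θ + (fun t : B => ((fun t : P => χ₁ t) - (fun t => (f t : ℂ))) (Subgroup.inclusion hBP t)) := by
      funext t
      change χ₁ t = θ t + (χ₁ t - (f ⟨t, hBP t.2⟩ : ℂ))
      rw [hθ]
      ring
    rw [e1, classInner_add_right, classInner_irr_self hθi, hm]
  have hcc : classInner χ₁ Θ = 1 + (m : ℂ) := by
    rw [← classInner_conj_symm, hc, map_add, map_one, Complex.conj_natCast]
  have hDc : IsCharacter G (Θ - χ₁) := isCharacter_sub_irr hΘc hi1 (by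
    rw [hc]
    exact_mod_cast (show (1 + m) ≠ 0 by omega))
  have hD : classInner (Θ - χ₁) (Θ - χ₁) = 1 - 2 * (m : ℂ) := by
    rw [classInner_sub_left, classInner_sub_right, classInner_sub_right, hn, hc, hcc, classInner_irr_self hi1]
    ring
  obtain ⟨k, hk⟩ := classInner_isNat hDc hDc
  have hm0 : m = 0 := by
    rw [hk] at hD
    have h4 : ((k + 2 * m : ℕ) : ℂ) = ((1 : ℕ) : ℂ) := by
      push_cast
      linear_combination hD
    have h5 : k + 2 * m = 1 := by exact_mod_cast h4
    omega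
  have hi2 : IsIrrCharacter G (Θ - χ₁) := by
    rw [isIrr_iff_classInner_self hDc, hD, hm0, Nat.cast_zero, mul_zero, sub_zero]
  have hBi : B.index = P.index * (q + 1) := by
    have h4 := Subgroup.relIndex_mul_index hBP
    have h5 : B.relIndex P = q + 1 := by
      have h6 := Subgroup.card_mul_index (B.subgroupOf P)
      rw [h3, Nat.card_congr (Subgroup.subgroupOfEquivOfLe hBP).toEquiv, mul_comm (q + 1)] at h6
      exact Nat.eq_of_mul_eq_mul_left Nat.card_pos h6
    rw [← h4, h5, mul_comm]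
  refine ⟨⟨χ₁, hi1⟩, ⟨Θ - χ₁, hi2⟩, ?_, ?_⟩
  · have e1 : χ₁ 1 = (charDegree χ₁ : ℂ) := Cfsg.Agent.Blocks.Basic.irr_one_eq_charDegree hi1
    rw [hχ₁, Cfsg.Agent.H53.HC.indFun_one, ← hχ₁, map_one, Units.val_one, mul_one] at e1
    exact_mod_cast e1.symm
  · have e1 : (Θ - χ₁) 1 = (charDegree (Θ - χ₁) : ℂ) := Cfsg.Agent.Blocks.Basic.irr_one_eq_charDegree hi2
    have e2 : θ 1 = 1 := by
      change (f ⟨(1 : B), _⟩ : ℂ) = 1
      have : (⟨((1 : B) : G), hBP (1 : B).2⟩ : P) = 1 := rfl
      rw [this, map_one, Units.val_one]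
    rw [Pi.sub_apply, hΘ, hχ₁, Cfsg.Agent.H53.HC.indFun_one, Cfsg.Agent.H53.HC.indFun_one, ← hχ₁, ← hΘ, map_one,
      Units.val_one, mul_one, e2, mul_one, hBi] at e1
    have e3 : ((P.index * q : ℕ) : ℂ) = (charDegree (Θ - χ₁) : ℂ) := by
      rw [← e1]
      push_cast
      ring
    exact_mod_cast e3.symm

end Cfsg.Agent.H115.HC.Two
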