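import Cfsg.Agent.H115.HC.TwoGTwo
import Cfsg.Agent.H115.HC.TwDFour

/-!
# `³D₄(q)`: two degrees divisible by `ℓ` (helper115)
-/

set_option autoImplicit false
set_option linter.unusedSectionVars false

open Cfsg

namespace Cfsg.Agent.H115.HC.TwDFour

open CoxeterSystem Cfsg.Agent.ChevalleyStructure.CoxeterGeom Cfsg.Agent.Tits.Roots Cfsg.Agent.Tits.Core
  Cfsg.Agent.Tits.RootComb Cfsg.Agent.Nodes.Comb Cfsg.Agent.Nodes.Reps Cfsg.Agent.Nodes.BNOf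
  Cfsg.Agent.Nodes.BNOf.RGD Cfsg.Agent.Nodes.RGDChev Cfsg.Agent.Nodes.RGDFold
open Cfsg.Agent.Nodes.Bruhat Cfsg.Agent.Nodes.LeviDec Cfsg.Agent.H53.HC Cfsg.Agent.H115.HC.Two
open Cfsg.Lie Cfsg.Agent.ChevalleyStructure Cfsg.Agent.ChevalleyStructure.TwistedU
  Cfsg.Agent.ChevalleyStructure.TwistedFix Cfsg.Agent.ChevalleyStructure.TwistedFixOrbit
open Cfsg.Agent.Nodes.RGDFoldSL
open Cfsg.Agent.ChevalleyStructure.SL2Hom (up lo mem_closure_SL2)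
open Cfsg.Agent.BiChar.TwDFour

theorem cls12 : ∀ k < chevD4.nroots, (V chevD4 Nodes.RGDTwD4.J k = ![1, 2] ↔ k ∈ [21, 17, 20]) := by decide +kernel

theorem cls12' : ∀ k < chevD4.nroots, (V chevD4 Nodes.RGDTwD4.J k = -![1, 2] ↔ k ∈ [2, 6, 3]) := by decide +kernel

theorem cls11 : ∀ k < chevD4.nroots, (V chevD4 Nodes.RGDTwD4.J k = ![1, 1] ↔ k ∈ [19, 16, 15]) := by decide +kernel

theorem comm_check2 : ∀ r ∈ [21, 17, 20, 2, 6, 3], ∀ s ∈ [14, 9], r < chevD4.nroots ∧ s < chevD4.nroots ∧ s ≠ r ∧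
    s ≠ chevD4.neg r ∧ chevD4.commTerms r s = [] := by decide +kernel

theorem tabD : (chevD4.simple 0 = 18 ∧ chevD4.simple 1 = 14 ∧ chevD4.simple 2 = 13 ∧ chevD4.simple 3 = 12) ∧
    chevD4.rank = 4 ∧ chevD4.nroots = 24 := by decide +kernel

theorem ctabD : (∀ s ∈ [21, 17, 20], chevD4.cartan 1 s = 0) ∧ (∀ s ∈ [19, 16, 15], chevD4.cartan 1 s = 1) ∧
    (∀ s ∈ [5, 10, 11], chevD4.cartan 1 s = 1) ∧ (chevD4.cartan 0 20 = 1 ∧ chevD4.cartan 2 20 = -1 ∧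
    chevD4.cartan 3 20 = 1) := by decide +kernel

theorem rho_tab : Nodes.RGDTwD4.rho 21 = 17 ∧ Nodes.RGDTwD4.rho 17 = 20 ∧ Nodes.RGDTwD4.rho 20 = 21 ∧
    Nodes.RGDTwD4.rho 19 = 16 ∧ Nodes.RGDTwD4.rho 16 = 15 ∧ Nodes.RGDTwD4.rho 15 = 19 := by decide +kernel

theorem lprod_conj {Γ K : Type*} [Group Γ] [Field K] {x : ℕ → K → Γ} {t : Γ} {c : ℕ → K} {o : List ℕ}
    (h : ∀ s ∈ o, ∀ r, t * x s r = x s (c s * r) * t) (r : ℕ → K) :
    t * lprod x o r = lprod x o (fun s => c s * r s) * t := by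
  induction o with
  | nil => rw [lprod_nil, lprod_nil, mul_one, one_mul]
  | cons s o ih =>
    rw [lprod_cons, lprod_cons, ← mul_assoc, h s List.mem_cons_self, mul_assoc, ih fun s' hs' =>
      h s' (List.mem_cons_of_mem _ hs'), ← mul_assoc]

variable {K : Type} [Field K] {q : ℕ} {φ : K →+* K}

theorem mem_X_cls {z : Fin 2 → ℤ} {o : List ℕ} (hcls : ∀ k < chevD4.nroots, (V chevD4 Nodes.RGDTwD4.J k = z ↔ k ∈ o))
    (hlt : ∀ k ∈ o, k < chevD4.nroots) {v : ↥(twistedD4 K q)} (hv : v ∈ Nodes.RGDTwD4.X φ q z) :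
    (v : GL chevD4.Idx K) ∈ rspan (Elts.xG (F := K) Nodes.RGDTwD4.hp.inList) {k | k ∈ o} ⊓
      fixS (D4Fixed.sig φ) := by
  have hv' : (v : GL chevD4.Idx K) ∈ R chevD4 Nodes.RGDTwD4.hp K Nodes.RGDTwD4.J (D4Fixed.sig φ) z :=
    Subgroup.mem_subgroupOf.1 hv
  rwa [R_eq hcls hlt] at hv'

/-- an element which centralises the root groups of the class -/
theorem cen_of {z : Fin 2 → ℤ} {o : List ℕ} (hcls : ∀ k < chevD4.nroots, (V chevD4 Nodes.RGDTwD4.J k = z ↔ k ∈ o))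
    (hlt : ∀ k ∈ o, k < chevD4.nroots) {t : ↥(twistedD4 K q)}
    (h : ∀ s ∈ o, ∀ r : K, (t : GL chevD4.Idx K) * Elts.xG Nodes.RGDTwD4.hp.inList s r =
      Elts.xG Nodes.RGDTwD4.hp.inList s r * (t : GL chevD4.Idx K)) :
    ∀ v ∈ Nodes.RGDTwD4.X φ q z, t * v = v * t := by
  intro v hv
  have h1 := (mem_X_cls hcls hlt hv).1
  have h2 : rspan (Elts.xG (F := K) Nodes.RGDTwD4.hp.inList) {k | k ∈ o} ≤
      Subgroup.centralizer {(t : GL chevD4.Idx K)} := by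
    refine (Subgroup.closure_le _).2 ?_
    rintro _ ⟨s, hs, r, rfl⟩
    rw [SetLike.mem_coe, Subgroup.mem_centralizer_singleton_iff]
    exact (h s hs r).symm
  exact Subtype.ext (Subgroup.mem_centralizer_singleton_iff.1 (h2 h1)).symm

section

variable (hφ : ∀ x, φ x = x ^ q) (hle : twistedD4 K q ≤ D4Fixed.fix φ)

theorem coords {z : Fin 2 → ℤ} {o : List ℕ} (ho : o ∈ Nodes.RGDTwD4.L)
    (hcls : ∀ k < chevD4.nroots, (V chevD4 Nodes.RGDTwD4.J k = z ↔ k ∈ o)) {v : ↥(twistedD4 K q)}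
    (hnd : o.Nodup) (hlt : ∀ k ∈ o, k < chevD4.nroots)
    (hfil : (Nodes.RGDTwD4.L.flatten.filter fun r => decide (r ∈ o)) = o)
    (hv : v ∈ Nodes.RGDTwD4.X φ q z) : ∃ r : ℕ → K,
      (∀ s ∈ o, r (Nodes.RGDTwD4.rho s) = ((Nodes.RGDTwD4.eps s : ℤ) : K) * φ (r s)) ∧
      (v : GL chevD4.Idx K) = lprod (Elts.xG Nodes.RGDTwD4.hp.inList) o r :=
  orbit_coords (Nodes.RGDTwD4.setup φ) ho hnd hfil (mem_X_cls hcls hlt hv)

/-- an element which acts nontrivially on a nontrivial coordinate -/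
theorem not_cen {z : Fin 2 → ℤ} {o : List ℕ} (ho : o ∈ Nodes.RGDTwD4.L)
    (hcls : ∀ k < chevD4.nroots, (V chevD4 Nodes.RGDTwD4.J k = z ↔ k ∈ o))
    (hnd : o.Nodup) (hlt : ∀ k ∈ o, k < chevD4.nroots)
    (hfil : (Nodes.RGDTwD4.L.flatten.filter fun r => decide (r ∈ o)) = o) {s₀ : ℕ} (hs₀ : s₀ ∈ o)
    (hrot : ∀ r : ℕ → K, (∀ s ∈ o, r (Nodes.RGDTwD4.rho s) = ((Nodes.RGDTwD4.eps s : ℤ) : K) * φ (r s)) →
      r s₀ = 0 → ∀ s ∈ o, r s = 0)
    {t : ↥(twistedD4 K q)} {c : ℕ → K}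
    (h : ∀ s ∈ o, ∀ r : K, (t : GL chevD4.Idx K) * Elts.xG Nodes.RGDTwD4.hp.inList s r =
      Elts.xG Nodes.RGDTwD4.hp.inList s (c s * r) * (t : GL chevD4.Idx K)) (hc : c s₀ ≠ 1)
    {v : ↥(twistedD4 K q)} (hv : v ∈ Nodes.RGDTwD4.X φ q z) (htv : t * v = v * t) : v = 1 := by
  obtain ⟨r, hr, hv'⟩ := coords ho hcls hnd hlt hfil hv
  have h1 := congrArg (Subtype.val : ↥(twistedD4 K q) → GL chevD4.Idx K) htv
  rw [Subgroup.coe_mul, Subgroup.coe_mul, hv', lprod_conj h, mul_left_inj] at h1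
  have h2 := inj_orbit (Nodes.RGDTwD4.setup φ) ho hfil h1 s₀ hs₀
  have h3 : r s₀ = 0 := by
    by_contra h0
    exact hc (mul_right_cancel₀ h0 (by rw [h2, one_mul]))
  have h4 := hrot r hr h3
  apply Subtype.ext
  rw [hv']
  have h5 : lprod (Elts.xG (F := K) Nodes.RGDTwD4.hp.inList) o r =
      lprod (Elts.xG (F := K) Nodes.RGDTwD4.hp.inList) o (fun _ => 0) :=
    lprod_congr _ fun s hs => h4 s hs
  rw [h5]
  change ((o.map fun s => Elts.xG Nodes.RGDTwD4.hp.inList s (0 : K))).prod = 1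
  rw [List.map_congr_left (g := fun _ => 1) (fun s _ => Elts.xG_zero Nodes.RGDTwD4.hp.inList s)]
  simp

/-- the action of `Ph 0 (hS c)` -/
theorem Ph0_xG {c : Fx φ ((Nodes.RGDTwNode.D4.rest 0).length + 1)} (hc : c ≠ 0) {s : ℕ} (hs : s < chevD4.nroots)
    (r : K) : ((Ph hφ hle 0 (hS c) : ↥(twistedD4 K q)) : GL chevD4.Idx K) * Elts.xG Nodes.RGDTwD4.hp.inList s r =
      Elts.xG Nodes.RGDTwD4.hp.inList s ((c : K) ^ (chevD4.cartan 1 s) * r) *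
        ((Ph hφ hle 0 (hS c) : ↥(twistedD4 K q)) : GL chevD4.Idx K) := by
  obtain ⟨⟨s0, s1, s2, s3⟩, hr, hn⟩ := tabD
  have hc' : (c : K) ≠ 0 := fun h => hc (Subtype.ext h)
  have := Cfsg.Agent.ETable.Exc.hG_xG Nodes.RGDTwD4.hp.inList (i := 1) (by rw [hr]; norm_num) hs hc' r
  rw [s1] at this
  rw [coe_hS0]
  exact this

/-- the action of `Ph 1 (hS c)` -/
theorem Ph1_xG {c : Fx φ ((Nodes.RGDTwNode.D4.rest 1).length + 1)} (hc : c ≠ 0) {s : ℕ} (hs : s < chevD4.nroots)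
    (r : K) : ((Ph hφ hle 1 (hS c) : ↥(twistedD4 K q)) : GL chevD4.Idx K) * Elts.xG Nodes.RGDTwD4.hp.inList s r =
      Elts.xG Nodes.RGDTwD4.hp.inList s (((c : K) ^ (chevD4.cartan 0 s) * (φ (c : K)) ^ (chevD4.cartan 2 s) *
        (φ (φ (c : K))) ^ (chevD4.cartan 3 s)) * r) *
        ((Ph hφ hle 1 (hS c) : ↥(twistedD4 K q)) : GL chevD4.Idx K) := by
  obtain ⟨⟨s0, s1, s2, s3⟩, hr, hn⟩ := tabD
  have hc' : (c : K) ≠ 0 := fun h => hc (Subtype.ext h)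
  have hc1 : φ (c : K) ≠ 0 := (map_ne_zero φ).2 hc'
  have hc2 : φ (φ (c : K)) ≠ 0 := (map_ne_zero φ).2 hc1
  have a0 := fun r : K => Cfsg.Agent.ETable.Exc.hG_xG Nodes.RGDTwD4.hp.inList (i := 0) (by rw [hr]; norm_num) hs hc' r
  have a2 := fun r : K => Cfsg.Agent.ETable.Exc.hG_xG Nodes.RGDTwD4.hp.inList (i := 2) (by rw [hr]; norm_num) hs hc1 r
  have a3 := fun r : K => Cfsg.Agent.ETable.Exc.hG_xG Nodes.RGDTwD4.hp.inList (i := 3) (by rw [hr]; norm_num) hs hc2 r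
  rw [s0] at a0
  rw [s2] at a2
  rw [s3] at a3
  rw [coe_hS1, mul_one, mul_assoc, mul_assoc, a3, ← mul_assoc (Elts.hG Nodes.RGDTwD4.hp.inList 13 _), a2,
    mul_assoc, ← mul_assoc (Elts.hG Nodes.RGDTwD4.hp.inList 18 _), a0, mul_assoc]
  congr 2
  ring

end

variable [Fintype K] {p : ℕ} [Fact p.Prime] [CharP K p] (hφ : ∀ x, φ x = x ^ q)
  (hle : twistedD4 K q ≤ D4Fixed.fix φ) (hK : Fintype.card K = q ^ 3)

include p hK in
/-- the torus acts on `X (sr 1)` by scalars -/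
theorem T_act {t : ↥(twistedD4 K q)} (ht : t ∈ Nodes.RGDTwD4.T K q) :
    ∃ c : Fx φ ((Nodes.RGDTwNode.D4.rest 1).length + 1), c ≠ 0 ∧
      ∀ r, t * Ph hφ hle 1 (up r) * t⁻¹ = Ph hφ hle 1 (up (c * r)) := by
  have Rg := Nodes.RGDTwD4.rgd (K := K) cs hK hφ p
  have ht' : (t : GL chevD4.Idx K) ∈ chevD4.diagonalSubgroup K := (Subgroup.mem_inf.1 (Subgroup.mem_subgroupOf.1 ht)).1
  have h1 : ∀ s : ℕ, ∃ c : K, s < chevD4.nroots → c ≠ 0 ∧ ∀ r : K, (t : GL chevD4.Idx K) *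
      Elts.xG Nodes.RGDTwD4.hp.inList s r = Elts.xG Nodes.RGDTwD4.hp.inList s (c * r) * (t : GL chevD4.Idx K) := by
    intro s
    by_cases hs : s < chevD4.nroots
    · obtain ⟨c, hc, h2⟩ := Cfsg.Agent.ChevalleyStructure.BNChev.diagonal_conj Nodes.RGDTwD4.hp.inList ht' hs
      exact ⟨c, fun _ => ⟨hc, fun r => by rw [← h2, inv_mul_cancel_right]⟩⟩
    · exact ⟨0, fun h => absurd h hs⟩
  choose c hc using h1
  have h18 : 18 < chevD4.nroots := by decide +kernel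
  have N := Nodes.RGDTwNode.D4.nodeOK 1
  refine ⟨⟨c 18, mem_Fx_three hK hφ _⟩, fun h => (hc 18 h18).1 (congrArg Subtype.val h), fun r => ?_⟩
  have hmem : t * Ph hφ hle 1 (up r) * t⁻¹ ∈ Nodes.RGDTwD4.X φ q (sr 1) := by
    rw [← Rg.tor _ (isRoot_sr cs Nodes.RGDTwD4.isCartan 1) t ht]
    exact conj_mem_cj.2 ((mem_X hφ hle 1 _).2 ⟨r, rfl⟩)
  obtain ⟨r', hr'⟩ := (mem_X hφ hle 1 _).1 hmem
  rw [hr']
  suffices h : r' = ⟨c 18, mem_Fx_three hK hφ _⟩ * r by rw [h]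
  apply Subtype.ext
  change (r' : K) = c 18 * (r : K)
  have e1 := coe_Phi_up (Nodes.RGDTwD4.foldGrp hφ hle) N (hf φ 1) r
  have e2 := coe_Phi_up (Nodes.RGDTwD4.foldGrp hφ hle) N (hf φ 1) r'
  obtain ⟨d, hd, hd1⟩ := exists_lprod_yv (x := Elts.xG (F := K) Nodes.RGDTwD4.hp.inList) (φ := φ) N.nodup (r : K)
  obtain ⟨d', hd', hd1'⟩ := exists_lprod_yv (x := Elts.xG (F := K) Nodes.RGDTwD4.hp.inList) (φ := φ) N.nodup (r' : K)
  rw [hd] at e1
  rw [hd'] at e2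
  have h3 := congrArg (Subtype.val : ↥(twistedD4 K q) → GL chevD4.Idx K) hr'
  have e1' : ((Ph hφ hle 1 (up r) : ↥(twistedD4 K q)) : GL chevD4.Idx K) =
    lprod (Elts.xG Nodes.RGDTwD4.hp.inList) (Nodes.RGDTwNode.D4.rep 1 :: Nodes.RGDTwNode.D4.rest 1) d := e1
  have e2' : ((Ph hφ hle 1 (up r') : ↥(twistedD4 K q)) : GL chevD4.Idx K) =
    lprod (Elts.xG Nodes.RGDTwD4.hp.inList) (Nodes.RGDTwNode.D4.rep 1 :: Nodes.RGDTwNode.D4.rest 1) d' := e2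
  rw [Subgroup.coe_mul, Subgroup.coe_mul, e2', e1', lprod_conj (c := c) (fun s hs r => (hc s (N.lt s hs)).2 r),
    Subgroup.coe_inv, mul_inv_cancel_right] at h3
  have h4 := inj_orbit (Nodes.RGDTwD4.setup φ) N.mem N.fil h3 _ List.mem_cons_self
  rw [hd1 _ _ rfl, hd1' _ _ rfl] at h4
  exact h4.symm

theorem r11 : rep cs Nodes.RGDTwD4.isCartan (cs.simple 0) (sr 1) = ![1, 1] := by
  rw [rep_zero, sr_one_eq]
  exact vec_ext (by simp [Nodes.RGDTwD4.A]) (by simp)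

theorem r12 : rep cs Nodes.RGDTwD4.isCartan (cs.simple 1 * cs.simple 0) (sr 1) = ![1, 2] := by
  rw [rep_mul_apply, r11, rep_one]
  exact vec_ext (by simp) (by simp [Nodes.RGDTwD4.A])

theorem r23 : rep cs Nodes.RGDTwD4.isCartan (cs.simple 0 * cs.simple 1) (sr 0) = ![2, 3] := by
  rw [rep_mul_apply, rep_one, sr_zero_eq, rep_zero]
  exact vec_ext (by simp [Nodes.RGDTwD4.A]) (by simp [Nodes.RGDTwD4.A])

theorem root12 : IsRoot cs Nodes.RGDTwD4.isCartan (![1, 2] : Fin 2 → ℤ) := by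
  rw [← r12]
  exact (isRoot_sr _ _ _).act _

theorem root11 : IsRoot cs Nodes.RGDTwD4.isCartan (![1, 1] : Fin 2 → ℤ) := by
  rw [← r11]
  exact (isRoot_sr _ _ _).act _

include p hφ hle hK in
/-- the linear character with kernel the centraliser of the root group -/
theorem theta : ∃ θ : Nodes.RGDTwD4.T K q →* ℂˣ, ∀ (t : ↥(twistedD4 K q)) (ht : t ∈ Nodes.RGDTwD4.T K q),
    θ ⟨t, ht⟩ = 1 ↔ ∀ v ∈ Nodes.RGDTwD4.X φ q ![1, 2], t * v = v * t := by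
  have Rg := Nodes.RGDTwD4.rgd (K := K) cs hK hφ p
  have hfin : Finite (Fx φ ((Nodes.RGDTwNode.D4.rest 1).length + 1)) := inferInstance
  obtain ⟨g, hgd⟩ : ∃ g, g = Nodes.RGDTwD4.n (K := K) hφ 1 * Nodes.RGDTwD4.n hφ 0 := ⟨_, rfl⟩
  have hg : Rp cs Rg.nsys (cs.simple 1 * cs.simple 0) g := by
    rw [hgd]
    exact (rp_simple cs Rg.nsys 1).mul (rp_simple cs Rg.nsys 0)
  obtain ⟨θ, hθ⟩ := exists_theta (Nodes.RGDTwD4.T K q) (fun r => g * Ph hφ hle 1 (up r) * g⁻¹)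
    (fun a b hab => up_inj hφ hle 1 (mul_left_cancel (mul_right_cancel hab))) (by
      intro t ht
      obtain ⟨c, hc, h1⟩ := T_act (p := p) hφ hle hK (conj_T Rg hg ht)
      refine ⟨c, hc, fun r => ?_⟩
      change t * (g * Ph hφ hle 1 (up r) * g⁻¹) * t⁻¹ = g * Ph hφ hle 1 (up (c * r)) * g⁻¹
      rw [← h1]
      group)
  refine ⟨θ, fun t ht => ?_⟩
  rw [hθ t ht]
  constructor
  · intro h1 v hv
    have h2 : g⁻¹ * v * g ∈ Nodes.RGDTwD4.X φ q (sr 1) := by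
      have := Rg.conj_mem' hg root12 hv
      rwa [← r12, ← rep_mul_apply, inv_mul_cancel, map_one, Module.End.one_apply] at this
    obtain ⟨r, hr⟩ := (mem_X hφ hle 1 _).1 h2
    have h3 : v = g * Ph hφ hle 1 (up r) * g⁻¹ := by
      rw [← hr]
      group
    rw [h3]
    exact h1 r
  · intro h1 r
    refine h1 _ ?_
    have := Rg.conj_mem hg (isRoot_sr cs Nodes.RGDTwD4.isCartan 1) ((mem_X hφ hle 1 _).2 ⟨r, rfl⟩)
    rwa [r12] at this

include p hφ hle hK in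
theorem hC {z : Fin 2 → ℤ} {o : List ℕ} (ho : ∀ r ∈ o, r ∈ [21, 17, 20, 2, 6, 3])
    (hcls : ∀ k < chevD4.nroots, (V chevD4 Nodes.RGDTwD4.J k = z ↔ k ∈ o)) :
    ∀ m ∈ MJ cs Nodes.RGDTwD4.isCartan (Nodes.RGDTwD4.X φ q) {0}, ∀ v ∈ Nodes.RGDTwD4.X φ q z, m * v = v * m := by
  have hlt : ∀ r ∈ o, r < chevD4.nroots := fun r hr => (comm_check2 r (ho r hr) 14 (by decide)).1
  have key : ∀ (s : ℕ), s ∈ [14, 9] → ∀ (z' : Fin 2 → ℤ),
      (∀ k < chevD4.nroots, (V chevD4 Nodes.RGDTwD4.J k = z' ↔ k ∈ [s])) →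
      ∀ u ∈ Nodes.RGDTwD4.X φ q z', ∀ v ∈ Nodes.RGDTwD4.X φ q z, u * v = v * u := by
    intro s hs z' hz' u hu
    refine cen_of hcls hlt fun r hr t => ?_
    obtain ⟨h1, h0, h2, h3, h4⟩ := comm_check2 r (ho r hr) s hs
    have h5 := (mem_X_cls hz' (by
      intro k hk
      rw [List.mem_singleton.1 hk]
      exact h0) hu).1
    have h6 : rspan (Elts.xG (F := K) Nodes.RGDTwD4.hp.inList) {k | k ∈ [s]} ≤
        Subgroup.centralizer {Elts.xG (F := K) Nodes.RGDTwD4.hp.inList r t} := by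
      refine (Subgroup.closure_le _).2 ?_
      rintro _ ⟨s', hs', u', rfl⟩
      have hs' : s' = s := by simpa using hs'
      subst hs'
      rw [SetLike.mem_coe, Subgroup.mem_centralizer_singleton_iff]
      exact (commute_of_nil Nodes.RGDTwD4.hp h1 h0 h2 h3 h4 t u').symm.eq
    exact Subgroup.mem_centralizer_singleton_iff.1 (h6 h5)
  intro m hm v hv
  have h1 : MJ cs Nodes.RGDTwD4.isCartan (Nodes.RGDTwD4.X φ q) {0} ≤ Subgroup.centralizer {v} := by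
    rw [MJ_single]
    refine sup_le ?_ ?_
    · intro u hu
      rw [Subgroup.mem_centralizer_singleton_iff]
      exact key 14 (by decide) _ Nodes.RGDTwD4.cls0 u hu v hv
    · intro u hu
      rw [Subgroup.mem_centralizer_singleton_iff]
      exact key 9 (by decide) _ Nodes.RGDTwD4.cls0' u hu v hv
  exact Subgroup.mem_centralizer_singleton_iff.1 (h1 hm)

include hφ hK in
theorem card_Fx0 (hq : 1 < q) : Nat.card (Fx φ ((Nodes.RGDTwNode.D4.rest 0).length + 1)) = q := by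
  rw [← ChevalleyStructure.D4U.card_fix_field hq hK hφ]
  refine Nat.card_congr (Equiv.subtypeEquivRight fun a => ?_)
  rw [mem_Fx]
  exact Iff.rfl

include hφ hK in
theorem card_Fx1 : Nat.card (Fx φ ((Nodes.RGDTwNode.D4.rest 1).length + 1)) = q ^ 3 := by
  rw [← hK, ← Nat.card_eq_fintype_card]
  exact Nat.card_congr (Equiv.subtypeUnivEquiv fun t => mem_Fx_three hK hφ t)

include p hφ hle hK in
theorem exists_v12 : ∃ v ∈ Nodes.RGDTwD4.X φ q ![1, 2], v ≠ 1 := by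
  have Rg := Nodes.RGDTwD4.rgd (K := K) cs hK hφ p
  obtain ⟨u, hu, hu1⟩ := exists_ne_one Rg 1
  have hg := (rp_simple cs Rg.nsys 1).mul (rp_simple cs Rg.nsys 0)
  have h1 := Rg.conj_mem hg (isRoot_sr cs Nodes.RGDTwD4.isCartan 1) hu
  rw [r12] at h1
  refine ⟨_, h1, fun h2 => hu1 ?_⟩
  have h3 := mul_inv_eq_one.1 h2
  exact (mul_eq_left.1 h3)

include p hφ hle hK in
theorem exists_v11 : ∃ v ∈ Nodes.RGDTwD4.X φ q ![1, 1], v ≠ 1 := by
  have Rg := Nodes.RGDTwD4.rgd (K := K) cs hK hφ p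
  obtain ⟨u, hu, hu1⟩ := exists_ne_one Rg 1
  have hg := rp_simple cs Rg.nsys 0
  have h1 := Rg.conj_mem hg (isRoot_sr cs Nodes.RGDTwD4.isCartan 1) hu
  rw [r11] at h1
  refine ⟨_, h1, fun h2 => hu1 ?_⟩
  have h3 := mul_inv_eq_one.1 h2
  exact (mul_eq_left.1 h3)

theorem coe_lo (d : Fx φ ((Nodes.RGDTwNode.D4.rest 1).length + 1)) :
    ((Ph hφ hle 1 (lo d) : ↥(twistedD4 K q)) : GL chevD4.Idx K) =
    Elts.xG Nodes.RGDTwD4.hp.inList 5 (d : K) * (Elts.xG Nodes.RGDTwD4.hp.inList 10 (φ (d : K)) *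
      (Elts.xG Nodes.RGDTwD4.hp.inList 11 (φ (φ (d : K))) * 1)) := by
  show hv (psi Nodes.RGDTwD4.hp.inList K) φ [18, 13, 12] (Matrix.SpecialLinearGroup.map (Fx φ _).subtype (lo d)) = _
  rw [map_lo]
  show psi Nodes.RGDTwD4.hp.inList K 18 (lo (d : K)) * (psi Nodes.RGDTwD4.hp.inList K 13
    (Matrix.SpecialLinearGroup.map φ (lo (d : K))) * (psi Nodes.RGDTwD4.hp.inList K 12
      (Matrix.SpecialLinearGroup.map φ (Matrix.SpecialLinearGroup.map φ (lo (d : K)))) * 1)) = _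
  have tab : chevD4.neg 18 = 5 ∧ chevD4.neg 13 = 10 ∧ chevD4.neg 12 = 11 := by decide +kernel
  obtain ⟨n1, n2, n3⟩ := tab
  rw [map_lo, map_lo, psi_lo _ (by decide +kernel), psi_lo _ (by decide +kernel), psi_lo _ (by decide +kernel),
    n1, n2, n3]

theorem lo_inj {a b : Fx φ ((Nodes.RGDTwNode.D4.rest 1).length + 1)}
    (h : Ph hφ hle 1 (lo a) = Ph hφ hle 1 (lo b)) : a = b := by
  rw [lo_eq, lo_eq, map_mul, map_mul, map_inv, map_mul, map_mul, map_inv, mul_left_inj, mul_right_inj] at h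
  exact neg_injective (up_inj hφ hle 1 h)

include p hφ hle hK in
theorem lo_mem (d : Fx φ ((Nodes.RGDTwNode.D4.rest 1).length + 1)) :
    Ph hφ hle 1 (lo d) ∈ Nodes.RGDTwD4.X φ q (-sr 1) := by
  have Rg := Nodes.RGDTwD4.rgd (K := K) cs hK hφ p
  have hcj : cj (Nodes.RGDTwD4.n hφ 1) (Nodes.RGDTwD4.X φ q (sr 1)) = Nodes.RGDTwD4.X φ q (-sr 1) := by
    rw [Rg.conj 1 _ (isRoot_sr cs Nodes.RGDTwD4.isCartan 1), rep_simple_sr]
  rw [lo_eq, map_mul, map_mul, map_inv, Cfsg.Agent.BiChar.TwDFour.Ph_wS, ← hcj]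
  exact conj_mem_cj.2 ((mem_X hφ hle 1 _).2 ⟨_, rfl⟩)

/-- `t₀` centralises the root group of `![1, 2]` -/
theorem t0_cen {a : Fx φ ((Nodes.RGDTwNode.D4.rest 0).length + 1)} (ha : a ≠ 0) :
    ∀ v ∈ Nodes.RGDTwD4.X φ q ![1, 2], Ph hφ hle 0 (hS a) * v = v * Ph hφ hle 0 (hS a) := by
  have hlt : ∀ s ∈ [21, 17, 20], s < chevD4.nroots := by decide +kernel
  refine cen_of cls12 hlt fun s hs r => ?_
  rw [Ph0_xG hφ hle ha (hlt s hs), ctabD.1 s hs, zpow_zero, one_mul]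

include p hK in
theorem t0_11 {a : Fx φ ((Nodes.RGDTwNode.D4.rest 0).length + 1)} (ha : a ≠ 0) (ha1 : a ≠ 1) :
    ∃ v ∈ Nodes.RGDTwD4.X φ q ![1, 1], Ph hφ hle 0 (hS a) * v ≠ v * Ph hφ hle 0 (hS a) := by
  have hlt : ∀ s ∈ [19, 16, 15], s < chevD4.nroots := by decide +kernel
  obtain ⟨v, hv, hv1⟩ := exists_v11 (p := p) hφ hle hK
  refine ⟨v, hv, fun h => hv1 ?_⟩
  refine not_cen (by decide) cls11 (by decide) hlt (by decide +kernel) (s₀ := 19) (by decide) ?_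
    (c := fun _ => (a : K)) ?_ (fun h1 => ha1 (Subtype.ext h1)) hv h
  · intro r hr h0 s hs
    obtain ⟨-, -, -, t1, t2, t3⟩ := rho_tab
    have h16 : r 16 = 0 := by
      rw [← t1, hr 19 (by decide), h0, map_zero, mul_zero]
    have h15 : r 15 = 0 := by
      rw [← t2, hr 16 (by decide), h16, map_zero, mul_zero]
    have hs' : s = 19 ∨ s = 16 ∨ s = 15 := by simpa using hs
    rcases hs' with rfl | rfl | rfl
    · exact h0
    · exact h16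
    · exact h15
  · intro s hs r
    rw [Ph0_xG hφ hle ha (hlt s hs), ctabD.2.1 s hs, zpow_one]

include p hK in
theorem t0_neg {a : Fx φ ((Nodes.RGDTwNode.D4.rest 0).length + 1)} (ha : a ≠ 0) (ha1 : a ≠ 1) :
    ∃ v ∈ Nodes.RGDTwD4.X φ q (-sr 1), Ph hφ hle 0 (hS a) * v ≠ v * Ph hφ hle 0 (hS a) := by
  refine ⟨Ph hφ hle 1 (lo 1), lo_mem (p := p) hφ hle hK 1, fun h => ha1 ?_⟩
  have hfix : φ (a : K) = a := by
    have := mem_Fx.1 a.2
    exact this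
  have hact : ∀ s ∈ [5, 10, 11], ∀ r : K, ((Ph hφ hle 0 (hS a) : ↥(twistedD4 K q)) : GL chevD4.Idx K) *
      Elts.xG Nodes.RGDTwD4.hp.inList s r = Elts.xG Nodes.RGDTwD4.hp.inList s ((a : K) * r) *
        ((Ph hφ hle 0 (hS a) : ↥(twistedD4 K q)) : GL chevD4.Idx K) := by
    intro s hs r
    have hlt : ∀ s ∈ [5, 10, 11], s < chevD4.nroots := by decide +kernel
    rw [Ph0_xG hφ hle ha (hlt s hs), ctabD.2.2.1 s hs, zpow_one]
  have h1 := congrArg (Subtype.val : ↥(twistedD4 K q) → GL chevD4.Idx K) h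
  have e1 : (((1 : Fx φ ((Nodes.RGDTwNode.D4.rest 1).length + 1))) : K) = 1 := rfl
  rw [Subgroup.coe_mul, Subgroup.coe_mul, coe_lo, e1, map_one, map_one, mul_one, ← mul_assoc, hact 5 (by decide),
    mul_assoc, ← mul_assoc ((Ph hφ hle 0 (hS a) : ↥(twistedD4 K q)) : GL chevD4.Idx K) (Elts.xG _ 10 1),
    hact 10 (by decide), mul_assoc, hact 11 (by decide), ← mul_assoc (Elts.xG _ 10 _), ← mul_assoc (Elts.xG _ 5 _),
    mul_left_inj, mul_one] at h1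
  have h2 : Ph hφ hle 1 (lo ⟨(a : K), mem_Fx_three hK hφ _⟩) = Ph hφ hle 1 (lo 1) := by
    apply Subtype.ext
    rw [coe_lo, coe_lo, e1, map_one, map_one, mul_one, mul_one, ← h1]
    change Elts.xG _ 5 (a : K) * (Elts.xG _ 10 (φ (a : K)) * Elts.xG _ 11 (φ (φ (a : K)))) = _
    rw [hfix, hfix]
  have h3 := congrArg Subtype.val (lo_inj hφ hle h2)
  exact Subtype.ext h3

include p hK in
theorem a_comm (c : Fx φ ((Nodes.RGDTwNode.D4.rest 1).length + 1)) :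
    (∀ u ∈ Nodes.RGDTwD4.X φ q ![2, 3], Ph hφ hle 1 (hS c) * u = u * Ph hφ hle 1 (hS c)) ∧
    (∀ u ∈ Nodes.RGDTwD4.X φ q (-![2, 3]), Ph hφ hle 1 (hS c) * u = u * Ph hφ hle 1 (hS c)) := by
  refine ⟨fun u hu => ?_, fun u hu => ?_⟩
  · have hu' : (u : GL chevD4.Idx K) ∈ R chevD4 Nodes.RGDTwD4.hp K Nodes.RGDTwD4.J (D4Fixed.sig φ) ![2, 3] :=
      Subgroup.mem_subgroupOf.1 hu
    rw [R_eq cls_hi (by decide +kernel)] at hu'
    exact comm_hi hφ hle (s := 23) (by decide) hu'.1 (p := p) hK _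
  · have hu' : (u : GL chevD4.Idx K) ∈ R chevD4 Nodes.RGDTwD4.hp K Nodes.RGDTwD4.J (D4Fixed.sig φ) (-![2, 3]) :=
      Subgroup.mem_subgroupOf.1 hu
    rw [R_eq cls_hi' (by decide +kernel)] at hu'
    exact comm_hi hφ hle (s := 0) (by decide) hu'.1 (p := p) hK _

theorem inv_a {c : Fx φ ((Nodes.RGDTwNode.D4.rest 1).length + 1)} (hc : c ≠ 0) :
    (Nodes.RGDTwD4.n hφ 1)⁻¹ * Ph hφ hle 1 (hS c) * Nodes.RGDTwD4.n hφ 1 = (Ph hφ hle 1 (hS c))⁻¹ := by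
  rw [← Cfsg.Agent.BiChar.TwDFour.Ph_wS hφ hle 1, ← map_inv, ← map_mul, ← map_mul, wS_hS hc, map_inv]

include hφ hK in
/-- an element of large order -/
theorem exists_gen : ∃ c : Fx φ ((Nodes.RGDTwNode.D4.rest 1).length + 1), c ≠ 0 ∧
    ∀ m : ℕ, 0 < m → m < q ^ 3 - 1 → c ^ m ≠ 1 := by
  have hfin : Finite (Fx φ ((Nodes.RGDTwNode.D4.rest 1).length + 1)) := inferInstance
  obtain ⟨g, hg⟩ := IsCyclic.exists_generator (α := (Fx φ ((Nodes.RGDTwNode.D4.rest 1).length + 1))ˣ)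
  have h2 : orderOf g = q ^ 3 - 1 := by
    rw [orderOf_eq_card_of_forall_mem_zpowers hg, Nat.card_units, card_Fx1 hφ hK]
  refine ⟨g, g.ne_zero, fun m hm0 hm h4 => ?_⟩
  have h5 : g ^ m = 1 := Units.ext (by rw [Units.val_pow_eq_pow_val, h4, Units.val_one])
  have h6 := Nat.le_of_dvd hm0 (orderOf_dvd_of_pow_eq_one h5)
  rw [h2] at h6
  omega

include p hK in
theorem aa_12 {c : Fx φ ((Nodes.RGDTwNode.D4.rest 1).length + 1)} (hc : c ≠ 0)
    (hcm : c ^ (2 * (q ^ 2 - q + 1)) ≠ 1) :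
    ∃ v ∈ Nodes.RGDTwD4.X φ q ![1, 2], Ph hφ hle 1 (hS c) * Ph hφ hle 1 (hS c) * v ≠
      v * (Ph hφ hle 1 (hS c) * Ph hφ hle 1 (hS c)) := by
  have hlt : ∀ s ∈ [21, 17, 20], s < chevD4.nroots := by decide +kernel
  obtain ⟨v, hv, hv1⟩ := exists_v12 (p := p) hφ hle hK
  refine ⟨v, hv, fun h => hv1 ?_⟩
  rw [← map_mul, hS_mul hc hc] at h
  have hcc : c * c ≠ 0 := mul_ne_zero hc hc
  refine not_cen (by decide) cls12 (by decide) hlt (by decide +kernel) (s₀ := 20) (by decide) ?_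
    (c := fun s => ((c * c : Fx φ ((Nodes.RGDTwNode.D4.rest 1).length + 1)) : K) ^ (chevD4.cartan 0 s) *
      (φ ((c * c : Fx φ ((Nodes.RGDTwNode.D4.rest 1).length + 1)) : K)) ^ (chevD4.cartan 2 s) *
      (φ (φ ((c * c : Fx φ ((Nodes.RGDTwNode.D4.rest 1).length + 1)) : K))) ^ (chevD4.cartan 3 s)) ?_ ?_ hv h
  · intro r hr h0 s hs
    obtain ⟨t1, t2, t3, -⟩ := rho_tab
    have h21 : r 21 = 0 := by
      rw [← t3, hr 20 (by decide), h0, map_zero, mul_zero]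
    have h17 : r 17 = 0 := by
      rw [← t1, hr 21 (by decide), h21, map_zero, mul_zero]
    have hs' : s = 21 ∨ s = 17 ∨ s = 20 := by simpa using hs
    rcases hs' with rfl | rfl | rfl
    · exact h21
    · exact h17
    · exact h0
  · intro s hs r
    exact Ph1_xG hφ hle hcc (hlt s hs) r
  · obtain ⟨-, -, -, c0, c2, c3⟩ := ctabD
    change ((c * c : Fx φ ((Nodes.RGDTwNode.D4.rest 1).length + 1)) : K) ^ (chevD4.cartan 0 20) *
      (φ ((c * c : Fx φ ((Nodes.RGDTwNode.D4.rest 1).length + 1)) : K)) ^ (chevD4.cartan 2 20) *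
      (φ (φ ((c * c : Fx φ ((Nodes.RGDTwNode.D4.rest 1).length + 1)) : K))) ^ (chevD4.cartan 3 20) ≠ 1
    rw [c0, c2, c3, zpow_one, zpow_one, zpow_neg, zpow_one, hφ, hφ]
    have e1 : ((c * c : Fx φ ((Nodes.RGDTwNode.D4.rest 1).length + 1)) : K) = (c : K) ^ 2 := by
      rw [sq]
      rfl
    rw [e1]
    intro h1
    apply hcm
    have hcK : (c : K) ≠ 0 := fun h => hc (Subtype.ext h)
    have h2 : (c : K) ^ 2 * (((c : K) ^ 2) ^ q) ^ q = ((c : K) ^ 2) ^ q := by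
      have h3 : ((c : K) ^ 2) ^ q ≠ 0 := pow_ne_zero _ (pow_ne_zero _ hcK)
      have gen : ∀ A B D : K, B ≠ 0 → A * B⁻¹ * D = 1 → A * D = B := by
        intro A B D hB h4
        calc A * D = A * B⁻¹ * D * B := by field_simp
          _ = B := by rw [h4, one_mul]
      exact gen _ _ _ h3 h1
    apply Subtype.ext
    change (c : K) ^ (2 * (q ^ 2 - q + 1)) = 1
    have h5 : (c : K) ^ (2 * q) ≠ 0 := pow_ne_zero _ hcK
    apply mul_right_cancel₀ h5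
    rw [one_mul, ← pow_add]
    obtain ⟨k, hk⟩ : ∃ k, q ^ 2 = q + k := ⟨q ^ 2 - q, by
      have : q ≤ q ^ 2 := Nat.le_self_pow (by norm_num) q
      omega⟩
    have e2 : 2 * (q ^ 2 - q + 1) + 2 * q = 2 + 2 * q * q := by
      have : q * q = q + k := by rw [← hk]; ring
      rw [mul_assoc 2 q q, this, hk, Nat.add_sub_cancel_left]
      ring
    rw [e2, pow_add, pow_mul, pow_mul]
    rw [h2, ← pow_mul]

/-- **The degrees `E` and `E q`** of `³D₄(q)`, `q ≥ 3`, `E = (q³ + 1)(q⁸ + q⁴ + 1)`. -/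
theorem exists_E (hq : IsPrimePow q) (h3 : 3 ≤ q) (hK : Fintype.card K = q ^ 3) :
    ∃ χ₁ χ₂ : IrrCharacter ↥(twistedD4 K q),
    charDegree (χ₁ : ↥(twistedD4 K q) → ℂ) = (q ^ 3 + 1) * (q ^ 8 + q ^ 4 + 1) ∧
    charDegree (χ₂ : ↥(twistedD4 K q) → ℂ) = (q ^ 3 + 1) * (q ^ 8 + q ^ 4 + 1) * q := by
  classical
  obtain ⟨p, hch⟩ := CharP.exists K
  have : Fact p.Prime := ⟨CharP.char_is_prime K p⟩
  obtain ⟨φ, hφ⟩ := D4Fixed.exists_frob hq hK
  have hle := D4Fixed.twisted_le_fix hK hφ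
  have : Finite CoxeterMatrix.G₂.Group := Nodes.RGDChev.finite_W Cfsg.Agent.BiChar.GTwo.isType cs
  have Rg := Nodes.RGDTwD4.rgd (K := K) cs hK hφ p
  have hfin : Finite (Fx φ ((Nodes.RGDTwNode.D4.rest 0).length + 1)) := inferInstance
  obtain ⟨θ, hθ⟩ := theta (p := p) hφ hle hK
  obtain ⟨c, hc0, hcm⟩ := exists_gen (φ := φ) hφ hK
  obtain ⟨a, ha1⟩ : ∃ a : (Fx φ ((Nodes.RGDTwNode.D4.rest 0).length + 1))ˣ, a ≠ 1 := by
    have h4 : 1 < Nat.card (Fx φ ((Nodes.RGDTwNode.D4.rest 0).length + 1))ˣ := by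
      rw [Nat.card_units, card_Fx0 hφ hK hq.one_lt]
      omega
    have := (Finite.one_lt_card_iff_nontrivial).1 h4
    exact exists_ne 1
  have ha1' : (a : Fx φ ((Nodes.RGDTwNode.D4.rest 0).length + 1)) ≠ 1 := fun h => ha1 (Units.ext h)
  have harith : 0 < 2 * (q ^ 2 - q + 1) ∧ 2 * (q ^ 2 - q + 1) < q ^ 3 - 1 := by
    refine ⟨by positivity, ?_⟩
    obtain ⟨k, rfl⟩ := Nat.exists_eq_add_of_le h3
    have e1 : (3 + k) ^ 2 - (3 + k) = k ^ 2 + 5 * k + 6 := by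
      rw [show (3 + k) ^ 2 = (k ^ 2 + 5 * k + 6) + (3 + k) by ring, Nat.add_sub_cancel]
    have e2 : (3 + k) ^ 3 - 1 = k ^ 3 + 9 * k ^ 2 + 27 * k + 26 := by
      rw [show (3 + k) ^ 3 = (k ^ 3 + 9 * k ^ 2 + 27 * k + 26) + 1 by ring, Nat.add_sub_cancel]
    rw [e1, e2]
    nlinarith
  obtain ⟨χ₁, χ₂, h1, h2⟩ := Two.exists_E Rg (GG_top hφ hK) T_comm (d := 0) (e := 1) (y := ![1, 2]) root12 hθ
    (hC (p := p) hφ hle hK (o := [21, 17, 20]) (by decide) cls12) (by decide) (by decide) r12.symm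
    (Cfsg.Agent.BiChar.TwDFour.Ph_hS hφ hle 0 a.ne_zero) (t0_cen hφ hle a.ne_zero)
    (by
      rw [r11]
      exact t0_11 (p := p) hφ hle hK a.ne_zero ha1')
    (t0_neg (p := p) hφ hle hK a.ne_zero ha1')
    (a := Ph hφ hle 1 (hS c)) (Cfsg.Agent.BiChar.TwDFour.Ph_hS hφ hle 1 hc0) (inv_a hφ hle hc0)
    (by
      rw [r23]
      exact (a_comm (p := p) hφ hle hK c).1)
    (by
      rw [r23]
      exact (a_comm (p := p) hφ hle hK c).2)
    (aa_12 (p := p) hφ hle hK hc0 (hcm _ harith.1 harith.2))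
  rw [index_eq' (p := p) hφ hle hq hK] at h1 h2
  rw [card_X0 hφ hle hq.one_lt hK] at h2
  exact ⟨χ₁, χ₂, h1, h2⟩

/-- **Two degrees divisible by a prime `ℓ ≥ 5` dividing `q - 1`.** -/
theorem exists_reg (hq : IsPrimePow q) (hK : Fintype.card K = q ^ 3) {ℓ : ℕ} (hℓ : ℓ.Prime) (h5 : 5 ≤ ℓ)
    (hd : ℓ ∣ q - 1) :
    ∃ χ χ' : IrrCharacter ↥(twistedD4 K q), ℓ ∣ charDegree (χ : ↥(twistedD4 K q) → ℂ) ∧
      ℓ ∣ charDegree (χ' : ↥(twistedD4 K q) → ℂ) ∧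
      charDegree (χ' : ↥(twistedD4 K q) → ℂ) < charDegree (χ : ↥(twistedD4 K q) → ℂ) := by
  classical
  obtain ⟨p, hch⟩ := CharP.exists K
  have hpp : Fact p.Prime := ⟨CharP.char_is_prime K p⟩
  obtain ⟨φ, hφ⟩ := D4Fixed.exists_frob hq hK
  have hle := D4Fixed.twisted_le_fix hK hφ
  have : Finite CoxeterMatrix.G₂.Group := Nodes.RGDChev.finite_W Cfsg.Agent.BiChar.GTwo.isType cs
  have Rg := Nodes.RGDTwD4.rgd (K := K) cs hK hφ p
  have hfin : Finite (Fx φ ((Nodes.RGDTwNode.D4.rest 0).length + 1)) := inferInstance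
  have hfin1 : Finite (Fx φ ((Nodes.RGDTwNode.D4.rest 1).length + 1)) := inferInstance
  have hℓf := Fact.mk hℓ
  have hℓp : ℓ ≠ p := by
    rintro rfl
    have h1 : ℓ ∣ q := by
      have h2 : ℓ ∣ q ^ 3 := by
        rw [← hK]
        obtain ⟨m, -, hm⟩ := FiniteField.card K ℓ
        rw [hm]
        exact dvd_pow_self _ m.ne_zero
      exact hℓ.dvd_of_dvd_pow h2
    have h2 : ℓ ∣ 1 := by
      have := Nat.dvd_sub h1 hd
      rwa [Nat.sub_sub_self hq.one_lt.le] at this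
    have := Nat.le_of_dvd one_pos h2
    omega
  obtain ⟨θ, hθ⟩ := theta (p := p) hφ hle hK
  have hd0 : ℓ ∣ Nat.card (Fx φ ((Nodes.RGDTwNode.D4.rest 0).length + 1))ˣ := by
    rwa [Nat.card_units, card_Fx0 hφ hK hq.one_lt]
  have hd1 : ℓ ∣ Nat.card (Fx φ ((Nodes.RGDTwNode.D4.rest 1).length + 1))ˣ := by
    rw [Nat.card_units, card_Fx1 hφ hK]
    refine hd.trans ?_
    have := Nat.sub_dvd_pow_sub_pow q 1 3
    rwa [one_pow] at this
  obtain ⟨d, hd⟩ := exists_prime_orderOf_dvd_card' (G := (Fx φ ((Nodes.RGDTwNode.D4.rest 0).length + 1))ˣ) ℓ hd0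
  obtain ⟨d', hd'⟩ := exists_prime_orderOf_dvd_card' (G := (Fx φ ((Nodes.RGDTwNode.D4.rest 1).length + 1))ˣ) ℓ hd1
  have hpow : ∀ {k : ℕ} (u : (Fx φ k)ˣ), orderOf u = ℓ → ∀ m : ℕ, 0 < m → m < 5 → (u : Fx φ k) ^ m ≠ 1 := by
    intro k u hu m hm hm5 h6
    have h7 : u ^ m = 1 := Units.ext (by rw [Units.val_pow_eq_pow_val, h6, Units.val_one])
    have h8 := orderOf_dvd_of_pow_eq_one h7
    rw [hu] at h8
    have := Nat.le_of_dvd hm h8
    omega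
  have h1S : ∀ i : Fin 2, hS (1 : Fx φ ((Nodes.RGDTwNode.D4.rest i).length + 1)) = 1 := by
    intro i
    apply Subtype.ext
    rw [coe_hS one_ne_zero, inv_one]
    exact Matrix.one_fin_two.symm
  have key : ∀ (i : Fin 2) (u : (Fx φ ((Nodes.RGDTwNode.D4.rest i).length + 1))ˣ) (k : ℕ),
      hS (u : Fx φ ((Nodes.RGDTwNode.D4.rest i).length + 1)) ^ k =
        hS ((u : Fx φ ((Nodes.RGDTwNode.D4.rest i).length + 1)) ^ k) := by
    intro i u k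
    induction k with
    | zero => rw [pow_zero, pow_zero, h1S]
    | succ k ih => rw [pow_succ, ih, hS_mul (pow_ne_zero _ u.ne_zero) u.ne_zero, ← pow_succ]
  have hone : ∀ (i : Fin 2) (u : (Fx φ ((Nodes.RGDTwNode.D4.rest i).length + 1))ˣ), orderOf u = ℓ →
      Ph hφ hle i (hS (u : Fx φ ((Nodes.RGDTwNode.D4.rest i).length + 1))) ^ ℓ = 1 := by
    intro i u hu
    rw [← map_pow, key, ← Units.val_pow_eq_pow_val, ← hu, pow_orderOf_eq_one, Units.val_one, h1S, map_one]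
  have hup : ∀ i : Fin 2, (up 0 : Matrix.SpecialLinearGroup (Fin 2)
      (Fx φ ((Nodes.RGDTwNode.D4.rest i).length + 1))) = 1 := by
    intro i
    apply Subtype.ext
    exact Matrix.one_fin_two.symm
  have hfree : ∀ (i : Fin 2) (u : (Fx φ ((Nodes.RGDTwNode.D4.rest i).length + 1))ˣ), orderOf u = ℓ →
      ∀ v ∈ Nodes.RGDTwD4.X φ q (sr i), Ph hφ hle i (hS (u : Fx φ ((Nodes.RGDTwNode.D4.rest i).length + 1))) * v =
        v * Ph hφ hle i (hS (u : Fx φ ((Nodes.RGDTwNode.D4.rest i).length + 1))) → v = 1 := by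
    intro i u hu v hv hvc
    obtain ⟨t, rfl⟩ := (mem_X hφ hle i v).1 hv
    have ht := free hφ hle u.ne_zero (hpow u hu 2 (by norm_num) (by norm_num)) hvc
    subst ht
    rw [hup, map_one]
  refine Two.exists_reg Rg (GG_top hφ hK) T_comm hpp.out (by decide)
    (by
      rw [card_X0 hφ hle hq.one_lt hK]
      exact hq.two_le) r12.symm (hC (p := p) hφ hle hK (o := [21, 17, 20]) (by decide) cls12)
    (hC (p := p) hφ hle hK (o := [2, 6, 3]) (by decide) cls12') hθ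
    (a := Ph hφ hle 1 (hS (d' : Fx φ ((Nodes.RGDTwNode.D4.rest 1).length + 1))))
    (Cfsg.Agent.BiChar.TwDFour.Ph_hS hφ hle 1 d'.ne_zero) (inv_a hφ hle d'.ne_zero)
    (a_comm (p := p) hφ hle hK _).1 (a_comm (p := p) hφ hle hK _).2 ?_ hℓ hℓp
    (x₀ := Ph hφ hle 0 (hS (d : Fx φ ((Nodes.RGDTwNode.D4.rest 0).length + 1))))
    (Cfsg.Agent.BiChar.TwDFour.Ph_hS hφ hle 0 d.ne_zero) ?_ (hfree 0 d hd)
    ⟨_, Cfsg.Agent.BiChar.TwDFour.Ph_hS hφ hle 1 d'.ne_zero, hone 1 d' hd', hfree 1 d' hd'⟩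
  · refine ⟨Ph hφ hle 1 (up 1), (mem_X hφ hle 1 _).2 ⟨1, rfl⟩, fun h => ?_⟩
    rw [← map_mul, hS_mul d'.ne_zero d'.ne_zero] at h
    have h6 := free hφ hle (mul_ne_zero d'.ne_zero d'.ne_zero) (by
      have e : ((d' : Fx φ ((Nodes.RGDTwNode.D4.rest 1).length + 1)) * d') ^ 2 =
        (d' : Fx φ ((Nodes.RGDTwNode.D4.rest 1).length + 1)) ^ 4 := by ring
      rw [e]
      exact hpow d' hd' 4 (by norm_num) (by norm_num)) h
    exact one_ne_zero h6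
  · refine orderOf_eq_prime (hone 0 d hd) fun h1 => ?_
    have h6 := free hφ hle d.ne_zero (hpow d hd 2 (by norm_num) (by norm_num)) (t := 1) (by rw [h1, one_mul, mul_one])
    exact one_ne_zero h6

end Cfsg.Agent.H115.HC.TwDFour
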