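import Cfsg.Agent.H115.HC.TwoReg
import Cfsg.Agent.H115.HC.GTwo

/-!
# `G₂(q)`, `q ≥ 4`: two degrees divisible by `ℓ` (helper115)
-/

set_option autoImplicit false

open Cfsg

namespace Cfsg.Agent.H115.HC.Two

open CoxeterSystem Cfsg.Agent.ChevalleyStructure.CoxeterGeom Cfsg.Agent.Tits.Roots Cfsg.Agent.Tits.Core
  Cfsg.Agent.Nodes.Reps Cfsg.Agent.Nodes.BNOf Cfsg.Agent.Nodes.Bruhat Cfsg.Agent.Nodes.LeviDec Cfsg.Agent.H53.HC

universe u

/-- a faithful character of a finite cyclic group -/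
theorem exists_faithful (A : Type*) [CommGroup A] [Finite A] [IsCyclic A] : ∃ χ : A →* ℂˣ, Function.Injective χ := by
  obtain ⟨g, hg⟩ := IsCyclic.exists_generator (α := A)
  have hn : Nat.card A ≠ 0 := Nat.card_pos.ne'
  have hz := Complex.isPrimitiveRoot_exp (Nat.card A) hn
  have hu := hz.isUnit hn
  have hz' : IsPrimitiveRoot hu.unit (Nat.card A) := by
    rw [← IsPrimitiveRoot.coe_units_iff]
    exact hz
  have ho : orderOf g = Nat.card A := orderOf_eq_card_of_forall_mem_zpowers hg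
  have ho' : orderOf hu.unit = Nat.card A := hz'.eq_orderOf.symm
  refine ⟨monoidHomOfForallMemZpowers hg (g' := hu.unit) (by rw [ho, ho']), ?_⟩
  rw [injective_iff_map_eq_one]
  intro x hx
  obtain ⟨k, rfl⟩ := Subgroup.mem_zpowers_iff.1 (hg x)
  rw [map_zpow, monoidHomOfForallMemZpowers_apply_gen, ← orderOf_dvd_iff_zpow_eq_one, ho', ← ho] at hx
  exact orderOf_dvd_iff_zpow_eq_one.1 hx

/-- the linear character with kernel the centraliser of a root group -/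
theorem exists_theta {Y : Type*} [Group Y] {K : Type*} [Field K] [Finite K] (T : Subgroup Y) (φ : K → Y)
    (hφ : Function.Injective φ) (h : ∀ t ∈ T, ∃ c : K, c ≠ 0 ∧ ∀ r, t * φ r * t⁻¹ = φ (c * r)) :
    ∃ θ : T →* ℂˣ, ∀ (t : Y) (ht : t ∈ T), θ ⟨t, ht⟩ = 1 ↔ ∀ r, t * φ r = φ r * t := by
  choose c hc0 hc using h
  have hmul : ∀ (s t : Y) (hs : s ∈ T) (ht : t ∈ T), c (s * t) (mul_mem hs ht) = c s hs * c t ht := by
    intro s t hs ht
    have h1 := hc (s * t) (mul_mem hs ht) 1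
    have h2 : s * t * φ 1 * (s * t)⁻¹ = φ (c s hs * (c t ht * 1)) := by
      rw [← hc s hs, ← hc t ht]
      group
    have h3 := hφ (h1.symm.trans h2)
    rw [mul_one, mul_one] at h3
    exact h3
  let κ : T →* Kˣ :=
    { toFun := fun t => Units.mk0 (c t t.2) (hc0 t t.2)
      map_one' := by
        have h1 := hmul 1 1 (one_mem _) (one_mem _)
        apply Units.ext
        change c ((1 : T) : Y) _ = 1
        have h2 : c (1 : Y) (one_mem T) = c (1 : Y) (one_mem T) * c (1 : Y) (one_mem T) := by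
          rw [← h1]
          congr 1
          rw [mul_one]
        exact (mul_eq_left₀ (hc0 1 (one_mem T))).1 h2.symm
      map_mul' := fun s t => Units.ext (hmul s t s.2 t.2) }
  obtain ⟨χ, hχ⟩ := exists_faithful Kˣ
  refine ⟨χ.comp κ, fun t ht => ?_⟩
  rw [MonoidHom.comp_apply]
  constructor
  · intro h1 r
    have h2 : κ ⟨t, ht⟩ = 1 := hχ (by rw [h1, map_one])
    have h3 : c t ht = 1 := congrArg Units.val h2
    have h4 := hc t ht r
    rw [h3, one_mul, mul_inv_eq_iff_eq_mul] at h4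
    exact h4
  · intro h1
    have h4 := hc t ht 1
    rw [h1 1, mul_assoc, mul_inv_cancel, mul_one] at h4
    have h5 : c t ht = 1 := by
      have := hφ h4
      rw [mul_one] at this
      exact this.symm
    have h2 : κ ⟨t, ht⟩ = 1 := Units.ext h5
    rw [h2, map_one]

end Cfsg.Agent.H115.HC.Two

namespace Cfsg.Agent.H115.HC.GTwo

open CoxeterSystem Cfsg.Agent.ChevalleyStructure.CoxeterGeom Cfsg.Agent.Tits.Roots Cfsg.Agent.Tits.Core
  Cfsg.Agent.Nodes.Reps Cfsg.Agent.Nodes.BNOf Cfsg.Agent.Nodes.Bruhat Cfsg.Agent.Nodes.LeviDec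
open Cfsg.Lie Cfsg.Agent.ChevalleyStructure Cfsg.Agent.ChevalleyStructure.Elts
  Cfsg.Agent.ChevalleyStructure.RootVec Cfsg.Agent.ChevalleyStructure.RootVecTab
  Cfsg.Agent.ChevalleyStructure.NPerm Cfsg.Agent.ChevalleyStructure.CoxeterGeomTypes
open Cfsg.Agent.Nodes.RGDChev Cfsg.Agent.H35.ExcIdx Cfsg.Agent.H35.PoinNum Cfsg.Agent.H53.HC Cfsg.Agent.H115.HC.Two

universe u

theorem tab : vec chevG2 2 9 = ![2, 1] ∧ vec chevG2 2 2 = -![2, 1] ∧ vec chevG2 2 11 = ![3, 2] ∧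
    vec chevG2 2 0 = -![3, 2] ∧ vec chevG2 2 8 = ![1, 1] ∧ vec chevG2 2 4 = -sr 0 ∧ vec chevG2 2 7 = sr 0 ∧
    vec chevG2 2 6 = sr 1 ∧ vec chevG2 2 5 = -sr 1 := by
  refine ⟨?_, ?_, ?_, ?_, ?_, ?_, ?_, ?_, ?_⟩ <;> (funext i; revert i; decide +kernel)

theorem ctab : chevG2.cartan 0 9 = 1 ∧ chevG2.cartan 1 9 = 0 ∧ chevG2.cartan 1 2 = 0 ∧ chevG2.cartan 0 11 = 0 ∧
    chevG2.cartan 0 0 = 0 ∧ chevG2.cartan 1 8 = 1 ∧ chevG2.cartan 1 4 = 1 ∧ chevG2.cartan 1 6 = 2 ∧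
    chevG2.cartan 0 7 = 2 := by
  decide +kernel

theorem comm_tab : ∀ z ∈ [(6, 9), (5, 9), (7, 11), (4, 11), (7, 0), (4, 0)], z.1 < chevG2.nroots ∧
    z.2 < chevG2.nroots ∧ z.1 ≠ z.2 ∧ z.1 ≠ chevG2.neg z.2 ∧ chevG2.commTerms z.2 z.1 = [] := by decide +kernel

variable {K : Type u} [Field K]

theorem comm_XX {r s : ℕ} (hrs : (r, s) ∈ [(6, 9), (5, 9), (7, 11), (4, 11), (7, 0), (4, 0)]) {x y : Fin 2 → ℤ}
    (hx : vec chevG2 2 r = x) (hy : vec chevG2 2 s = y) :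
    ∀ u ∈ XX chevG2 2 K x, ∀ v ∈ XX chevG2 2 K y, u * v = v * u := by
  obtain ⟨h1, h0, h2, h3, h4⟩ := comm_tab _ hrs
  intro u hu v hv
  obtain ⟨a, rfl⟩ := (mem_XX h1 hx).1 hu
  obtain ⟨b, rfl⟩ := (mem_XX h0 hy).1 hv
  apply Subtype.ext
  have h5 := Nodes.RGDChev.comm_xG (K := K) hpG2 h0 h1 h2 h3 (-b) (-a)
  have h6 : chevG2.commWord K s r (-b) (-a) = [] := by
    show (chevG2.commTerms s r).map _ = []
    rw [h4, List.map_nil]
  rw [h6, Elts.wordG_nil, commutatorElement_eq_one_iff_mul_comm, Elts.xG_inv, Elts.xG_inv, _root_.neg_neg,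
    _root_.neg_neg] at h5
  exact h5

theorem theta {s : ℕ} (hs : s < chevG2.nroots) {y : Fin 2 → ℤ} (hy : vec chevG2 2 s = y) [Finite K] :
    ∃ θ : TT chevG2 K →* ℂˣ, ∀ (t : ↥(chevG2.group K)) (ht : t ∈ TT chevG2 K),
      θ ⟨t, ht⟩ = 1 ↔ ∀ v ∈ XX chevG2 2 K y, t * v = v * t := by
  obtain ⟨θ, hθ⟩ := exists_theta (K := K) (TT chevG2 K)
    (fun r => (⟨xG hpG2.inList s r, xG_mem_group hpG2.inList s r⟩ : ↥(chevG2.group K)))
    (fun a b hab => xG_injective hpG2.inList hs (congrArg Subtype.val hab)) (by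
      intro t ht
      obtain ⟨c, hc, h1⟩ := Cfsg.Agent.ChevalleyStructure.BNChev.diagonal_conj hpG2.inList
        (Subgroup.mem_subgroupOf.1 ht) hs
      exact ⟨c, hc, fun r => Subtype.ext (h1 r)⟩)
  refine ⟨θ, fun t ht => ?_⟩
  rw [hθ t ht]
  constructor
  · intro h1 v hv
    obtain ⟨r, rfl⟩ := (mem_XX hs hy).1 hv
    exact h1 r
  · intro h1 r
    exact h1 _ ((mem_XX hs hy).2 ⟨r, rfl⟩)

/-- `hh i c` centralises the root groups `s` with `⟨s, α_i⟩ = 0` -/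
theorem hh_comm {i : Fin 2} {s : ℕ} (hs : s < chevG2.nroots) (h0 : chevG2.cartan i s = 0) {y : Fin 2 → ℤ}
    (hy : vec chevG2 2 s = y) {c : K} (hc : c ≠ 0) : ∀ v ∈ XX chevG2 2 K y, hh K i c * v = v * hh K i c := by
  intro v hv
  obtain ⟨t, rfl⟩ := (mem_XX hs hy).1 hv
  rw [hh_xG i hs hc]
  simp only [h0, zpow_zero, one_mul]

theorem hh_not_comm {i : Fin 2} {s : ℕ} (hs : s < chevG2.nroots) {y : Fin 2 → ℤ}
    (hy : vec chevG2 2 s = y) {c : K} (hc : c ≠ 0) (hcs : c ^ (chevG2.cartan i s) ≠ 1) :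
    ∃ v ∈ XX chevG2 2 K y, hh K i c * v ≠ v * hh K i c :=
  ⟨_, (mem_XX hs hy).2 ⟨1, rfl⟩, fun h1 => one_ne_zero (free hs hc hcs h1)⟩

variable [Fintype K]

/-- the index of the parabolic subgroups -/
theorem index_eq'' (i : Fin 2) :
    (PJ CoxeterMatrix.G₂.toCoxeterSystem hpG2.isCartan (TT chevG2 K) (XX chevG2 2 K) {i}).index =
    (Fintype.card K + 1) * (Fintype.card K ^ 4 + Fintype.card K ^ 2 + 1) := by
  obtain ⟨p, hch⟩ := CharP.exists K
  obtain ⟨⟨f, hf⟩, hpp, hcard⟩ := FiniteField.card K p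
  have : Fact p.Prime := ⟨hpp⟩
  have hfin := finite_W hpG2 CoxeterMatrix.G₂.toCoxeterSystem
  have R := rgd (K := K) hpG2 CoxeterMatrix.G₂.toCoxeterSystem p
  rw [← index_eq']
  have hc : ∀ j : Fin 2, Nat.card ↥(PJ CoxeterMatrix.G₂.toCoxeterSystem hpG2.isCartan (TT chevG2 K)
      (XX chevG2 2 K) {j}) = (Nat.card K + 1) *
      Nat.card ↥(RGD.B CoxeterMatrix.G₂.toCoxeterSystem hpG2.isCartan (TT chevG2 K) (XX chevG2 2 K)) := by
    intro j
    rw [card_PJ R j, card_XX hpG2 K CoxeterMatrix.G₂.toCoxeterSystem (isRoot_sr _ hpG2.isCartan j)]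
  have h1 := Subgroup.card_mul_index (PJ CoxeterMatrix.G₂.toCoxeterSystem hpG2.isCartan (TT chevG2 K)
    (XX chevG2 2 K) {i})
  have h2 := Subgroup.card_mul_index (PJ CoxeterMatrix.G₂.toCoxeterSystem hpG2.isCartan (TT chevG2 K)
    (XX chevG2 2 K) {0})
  rw [hc] at h1 h2
  exact Nat.eq_of_mul_eq_mul_left (Nat.mul_pos (Nat.succ_pos _) Nat.card_pos) (h1.trans h2.symm)

/-- **The degrees `E` and `E q`** of `G₂(q)`, `q ≥ 4`, `E = (q + 1)(q⁴ + q² + 1)`. -/
theorem exists_E (h4 : 4 ≤ Fintype.card K) : ∃ χ₁ χ₂ : IrrCharacter ↥(chevG2.group K),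
    charDegree (χ₁ : ↥(chevG2.group K) → ℂ) = (Fintype.card K + 1) * (Fintype.card K ^ 4 + Fintype.card K ^ 2 + 1) ∧
    charDegree (χ₂ : ↥(chevG2.group K) → ℂ) =
      (Fintype.card K + 1) * (Fintype.card K ^ 4 + Fintype.card K ^ 2 + 1) * Fintype.card K := by
  classical
  obtain ⟨p, hch⟩ := CharP.exists K
  obtain ⟨⟨f, hf⟩, hpp, hcard⟩ := FiniteField.card K p
  have : Fact p.Prime := ⟨hpp⟩
  have hfin := finite_W hpG2 CoxeterMatrix.G₂.toCoxeterSystem
  have R := rgd (K := K) hpG2 CoxeterMatrix.G₂.toCoxeterSystem p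
  obtain ⟨c, hc0, hc2⟩ := Cfsg.Agent.ETable.Exc.exists_sq_ne_one K (by
    rw [Nat.card_eq_fintype_card]
    omega)
  have hc1 : c ≠ 1 := by
    rintro rfl
    exact hc2 (one_pow 2)
  obtain ⟨x9, x2, x11, x0, x8, x4, x7, x6, x5⟩ := tab
  obtain ⟨c09, c19, c12, c011, c00, c18, c14, c16, c07⟩ := ctab
  obtain ⟨k1, k2⟩ := cart
  have lt : ∀ r, r < 12 → r < chevG2.nroots := fun r hr => by
    have : chevG2.nroots = 12 := by decide +kernel
    rw [this]
    exact hr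
  obtain ⟨θ, hθ⟩ := theta (K := K) (lt 9 (by norm_num)) x9
  have r0 : rep CoxeterMatrix.G₂.toCoxeterSystem hpG2.isCartan (CoxeterMatrix.G₂.toCoxeterSystem.simple 1) (sr 0) =
      ![1, 1] := by
    rw [rep_one, sr_zero_eq, k2]
    exact vec_ext (by simp) (by simp)
  have r1 : rep CoxeterMatrix.G₂.toCoxeterSystem hpG2.isCartan (CoxeterMatrix.G₂.toCoxeterSystem.simple 0 *
      CoxeterMatrix.G₂.toCoxeterSystem.simple 1) (sr 0) = ![2, 1] := by
    rw [rep_mul_apply, r0, rep_zero, k1]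
    exact vec_ext (by simp) (by simp)
  have r2 : rep CoxeterMatrix.G₂.toCoxeterSystem hpG2.isCartan (CoxeterMatrix.G₂.toCoxeterSystem.simple 1 *
      CoxeterMatrix.G₂.toCoxeterSystem.simple 0) (sr 1) = ![3, 2] := by
    rw [rep_mul_apply, sr_one_eq, rep_zero, rep_one, k1, k2]
    exact vec_ext (by simp) (by simp)
  have hroot : IsRoot CoxeterMatrix.G₂.toCoxeterSystem hpG2.isCartan (![2, 1] : Fin 2 → ℤ) := by
    rw [← r1]
    exact (isRoot_sr _ _ _).act _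
  obtain ⟨χ₁, χ₂, h1, h2⟩ := Two.exists_E R (GG_eq_top hpG2 K _) TT_comm (d := 1) (e := 0) (y := ![2, 1]) hroot hθ
    (by
      intro m hm v hv
      have h1 : MJ CoxeterMatrix.G₂.toCoxeterSystem hpG2.isCartan (XX chevG2 2 K) {1} ≤ Subgroup.centralizer {v} := by
        rw [MJ_single]
        refine sup_le ?_ ?_
        · intro u hu
          rw [Subgroup.mem_centralizer_singleton_iff]
          exact comm_XX (by decide) x6 x9 u hu v hv
        · intro u hu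
          rw [Subgroup.mem_centralizer_singleton_iff]
          exact comm_XX (by decide) x5 x9 u hu v hv
      exact Subgroup.mem_centralizer_singleton_iff.1 (h1 hm))
    (by decide) (by decide) r1.symm (hh_mem 1 hc0) (hh_comm (lt 9 (by norm_num)) c19 x9 hc0)
    (by
      rw [r0]
      refine hh_not_comm (lt 8 (by norm_num)) x8 hc0 ?_
      change c ^ (chevG2.cartan 1 8) ≠ 1
      rw [c18, zpow_one]
      exact hc1)
    (by
      refine hh_not_comm (lt 4 (by norm_num)) x4 hc0 ?_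
      change c ^ (chevG2.cartan 1 4) ≠ 1
      rw [c14, zpow_one]
      exact hc1)
    (a := hh K 0 c) (hh_mem 0 hc0) (Subtype.ext (nn_inv_hG hpG2 K 0 hc0))
    (by
      rw [r2]
      exact hh_comm (lt 11 (by norm_num)) c011 x11 hc0)
    (by
      rw [r2]
      exact hh_comm (lt 0 (by norm_num)) c00 x0 hc0)
    (by
      rw [hh_mul 0 hc0 hc0]
      refine hh_not_comm (lt 9 (by norm_num)) x9 (mul_ne_zero hc0 hc0) ?_
      change (c * c) ^ (chevG2.cartan 0 9) ≠ 1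
      rw [c09, zpow_one, ← sq]
      exact hc2)
  rw [index_eq''] at h1 h2
  rw [card_XX hpG2 K CoxeterMatrix.G₂.toCoxeterSystem (isRoot_sr _ hpG2.isCartan 1), Nat.card_eq_fintype_card] at h2
  exact ⟨χ₁, χ₂, h1, h2⟩

/-- **Two degrees divisible by a prime `ℓ ≥ 5` dividing `q - 1`.** -/
theorem exists_reg {ℓ : ℕ} (hℓ : ℓ.Prime) (h5 : 5 ≤ ℓ) (hd : ℓ ∣ Fintype.card K - 1) :
    ∃ χ χ' : IrrCharacter ↥(chevG2.group K), ℓ ∣ charDegree (χ : ↥(chevG2.group K) → ℂ) ∧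
      ℓ ∣ charDegree (χ' : ↥(chevG2.group K) → ℂ) ∧
      charDegree (χ' : ↥(chevG2.group K) → ℂ) < charDegree (χ : ↥(chevG2.group K) → ℂ) := by
  classical
  obtain ⟨p, hch⟩ := CharP.exists K
  obtain ⟨⟨f, hf⟩, hpp, hcard⟩ := FiniteField.card K p
  have hcard' : Fintype.card K = p ^ f := hcard
  have : Fact p.Prime := ⟨hpp⟩
  have hfin := finite_W hpG2 CoxeterMatrix.G₂.toCoxeterSystem
  have R := rgd (K := K) hpG2 CoxeterMatrix.G₂.toCoxeterSystem p
  have h2K : 2 ≤ Fintype.card K := by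
    rw [hcard']
    exact two_le hpp hf.ne'
  have hℓp : ℓ ≠ p := by
    rintro rfl
    have h1 : ℓ ∣ Fintype.card K := by
      rw [hcard']
      exact dvd_pow_self _ hf.ne'
    have h2 : ℓ ∣ 1 := by
      have := Nat.dvd_sub h1 hd
      rwa [Nat.sub_sub_self (by omega)] at this
    have := Nat.le_of_dvd one_pos h2
    omega
  have := Fact.mk hℓ
  obtain ⟨d, hd⟩ := exists_prime_orderOf_dvd_card (G := Kˣ) ℓ (by rwa [Fintype.card_units])
  have hpow : ∀ m : ℕ, 0 < m → m < 5 → (d : K) ^ m ≠ 1 := by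
    intro m hm hm5 h6
    have h7 : d ^ m = 1 := Units.ext (by rw [Units.val_pow_eq_pow_val, h6, Units.val_one])
    have h8 := orderOf_dvd_of_pow_eq_one h7
    rw [hd] at h8
    have := Nat.le_of_dvd hm h8
    omega
  obtain ⟨x9, x2, x11, x0, x8, x4, x7, x6, x5⟩ := tab
  obtain ⟨c09, c19, c12, c011, c00, c18, c14, c16, c07⟩ := ctab
  obtain ⟨k1, k2⟩ := cart
  have lt : ∀ r, r < 12 → r < chevG2.nroots := fun r hr => by
    have : chevG2.nroots = 12 := by decide +kernel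
    rw [this]
    exact hr
  obtain ⟨θ, hθ⟩ := theta (K := K) (lt 11 (by norm_num)) x11
  have r2 : rep CoxeterMatrix.G₂.toCoxeterSystem hpG2.isCartan (CoxeterMatrix.G₂.toCoxeterSystem.simple 1 *
      CoxeterMatrix.G₂.toCoxeterSystem.simple 0) (sr 1) = ![3, 2] := by
    rw [rep_mul_apply, sr_one_eq, rep_zero, rep_one, k1, k2]
    exact vec_ext (by simp) (by simp)
  have hcomm : ∀ s ∈ [11, 0], ∀ y : Fin 2 → ℤ, vec chevG2 2 s = y →
      ∀ m ∈ MJ CoxeterMatrix.G₂.toCoxeterSystem hpG2.isCartan (XX chevG2 2 K) {0},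
      ∀ v ∈ XX chevG2 2 K y, m * v = v * m := by
    intro s hs y hy m hm v hv
    have hs' : s = 11 ∨ s = 0 := by simpa using hs
    have h1 : MJ CoxeterMatrix.G₂.toCoxeterSystem hpG2.isCartan (XX chevG2 2 K) {0} ≤ Subgroup.centralizer {v} := by
      rw [MJ_single]
      refine sup_le ?_ ?_
      · intro u hu
        rw [Subgroup.mem_centralizer_singleton_iff]
        refine comm_XX (r := 7) (s := s) ?_ x7 hy u hu v hv
        rcases hs' with rfl | rfl <;> decide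
      · intro u hu
        rw [Subgroup.mem_centralizer_singleton_iff]
        refine comm_XX (r := 4) (s := s) ?_ x4 hy u hu v hv
        rcases hs' with rfl | rfl <;> decide
    exact Subgroup.mem_centralizer_singleton_iff.1 (h1 hm)
  have hpowh : ∀ (i : Fin 2) (k : ℕ), hh K i (d : K) ^ k = hh K i ((d : K) ^ k) := by
    intro i k
    induction k with
    | zero => rw [pow_zero, pow_zero, hh_one]
    | succ k ih => rw [pow_succ, ih, hh_mul i (pow_ne_zero _ d.ne_zero) d.ne_zero, ← pow_succ]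
  have hone : ∀ i : Fin 2, hh K i (d : K) ^ ℓ = 1 := by
    intro i
    rw [hpowh, ← Units.val_pow_eq_pow_val, ← hd, pow_orderOf_eq_one, Units.val_one, hh_one]
  have hfree0 : (d : K) ^ (chevG2.cartan (0 : Fin 2) 7) ≠ 1 := by
    change (d : K) ^ (chevG2.cartan 0 7) ≠ 1
    rw [c07]
    exact_mod_cast hpow 2 (by norm_num) (by norm_num)
  have hfree1 : (d : K) ^ (chevG2.cartan (1 : Fin 2) 6) ≠ 1 := by
    change (d : K) ^ (chevG2.cartan 1 6) ≠ 1
    rw [c16]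
    exact_mod_cast hpow 2 (by norm_num) (by norm_num)
  refine Two.exists_reg R (GG_eq_top hpG2 K _) TT_comm hpp (by rw [k1, k2]; norm_num)
    (by
      rw [card_XX hpG2 K CoxeterMatrix.G₂.toCoxeterSystem (isRoot_sr _ hpG2.isCartan 0), Nat.card_eq_fintype_card]
      exact h2K) r2.symm (hcomm 11 (by decide) _ x11) (hcomm 0 (by decide) _ x0) hθ (a := hh K 1 d)
    (hh_mem 1 d.ne_zero) (Subtype.ext (nn_inv_hG hpG2 K 1 d.ne_zero)) ?_ ?_ ?_ hℓ hℓp (x₀ := hh K 0 d)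
    (hh_mem 0 d.ne_zero) ?_ ?_ ⟨hh K 1 d, hh_mem 1 d.ne_zero, hone 1, ?_⟩
  · rw [k2, _root_.neg_neg]
    exact hh_comm (lt 9 (by norm_num)) c19 x9 d.ne_zero
  · rw [k2, _root_.neg_neg]
    exact hh_comm (lt 2 (by norm_num)) c12 x2 d.ne_zero
  · rw [hh_mul 1 d.ne_zero d.ne_zero]
    refine hh_not_comm (lt 6 (by norm_num)) x6 (mul_ne_zero d.ne_zero d.ne_zero) ?_
    change ((d : K) * d) ^ (chevG2.cartan 1 6) ≠ 1
    rw [c16]
    have e : ((d : K) * d) ^ (2 : ℤ) = (d : K) ^ 4 := by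
      rw [zpow_ofNat]
      ring
    rw [e]
    exact hpow 4 (by norm_num) (by norm_num)
  · exact orderOf_eq_prime (hone 0) (hh_ne_one (lt 7 (by norm_num)) d.ne_zero hfree0)
  · intro u hu huc
    obtain ⟨t, rfl⟩ := (mem_XX (lt 7 (by norm_num)) x7).1 hu
    have ht := free (lt 7 (by norm_num)) d.ne_zero hfree0 huc
    subst ht
    exact Subtype.ext (xG_zero hpG2.inList 7)
  · intro u hu huc
    obtain ⟨t, rfl⟩ := (mem_XX (lt 6 (by norm_num)) x6).1 hu
    have ht := free (lt 6 (by norm_num)) d.ne_zero hfree1 huc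
    subst ht
    exact Subtype.ext (xG_zero hpG2.inList 6)

end Cfsg.Agent.H115.HC.GTwo
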