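import Cfsg.Agent.H115.HC.TwoAbs
import Cfsg.Agent.H53.HC.Rgd
import Cfsg.Agent.CharactersDeep.ScalarIndex
import Cfsg.Agent.Blocks.Orthogonality

/-!
# The two constituents of an induced linear character of norm two (helper115)

`P ≤ G`, `f` a linear character of `P`, `g ∉ P` such that `f` and its conjugate by `x` agree on `P ∩ x P x⁻¹` exactly
for `x ∈ P ∪ P g P`.

`exists_pair` : the induced character is the sum of two irreducible characters of degrees `d`, `d'` with `d ∣ b d'`,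
`d' ∣ b d`, `b = |P : P ∩ g P g⁻¹|`.
-/

set_option autoImplicit false

open scoped ComplexConjugate
open Cfsg Module

namespace Cfsg.Agent.H115.HC.Two

open Cfsg.Agent.OddOrderCharacters.Clifford Cfsg.Agent.CharactersDeep.MackeyLinear Cfsg.Agent.Characters
  Cfsg.Agent.Characters.Core

universe u

/-- the double coset `P g P` -/
def DC {G : Type*} [Group G] (P : Subgroup G) (g : G) : Set G := {x | ∃ a ∈ P, ∃ b ∈ P, x = a * g * b}

/-- the number of elements of a double coset -/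
theorem card_DC {G : Type*} [Group G] [Finite G] (P : Subgroup G) (g : G) :
    Nat.card (DC P g) * Nat.card (dsub P g) = Nat.card P * Nat.card P := by
  classical
  have h : ∀ x : DC P g, ∃ a : P, ∃ b : P, (x : G) = a * g * b := by
    rintro ⟨x, a, ha, b, hb, rfl⟩
    exact ⟨⟨a, ha⟩, ⟨b, hb⟩, rfl⟩
  choose A B hAB using h
  rw [← Nat.card_prod, ← Nat.card_prod]
  have hmem : ∀ k : dsub P g, g⁻¹ * (((k : P) : G))⁻¹ * g ∈ P := by
    intro k
    have h1 := (mem_dsub P g _).1 (inv_mem k.2)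
    exact h1
  refine Nat.card_congr (Equiv.ofBijective (fun z : DC P g × dsub P g =>
    (A z.1 * (z.2 : P), (⟨g⁻¹ * (((z.2 : P) : G))⁻¹ * g, hmem z.2⟩ : P) * B z.1)) ⟨?_, ?_⟩)
  · rintro ⟨x, k⟩ ⟨x', k'⟩ h
    have h1 : (A x : G) * (k : P) = (A x' : G) * (k' : P) := congrArg Subtype.val (congrArg Prod.fst h)
    have h2 : g⁻¹ * (((k : P) : G))⁻¹ * g * B x = g⁻¹ * (((k' : P) : G))⁻¹ * g * B x' :=
      congrArg Subtype.val (congrArg Prod.snd h)
    have h3 : x = x' := by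
      apply Subtype.ext
      calc (x : G) = A x * g * B x := hAB x
        _ = (A x * (k : P)) * g * (g⁻¹ * (((k : P) : G))⁻¹ * g * B x) := by group
        _ = (A x' * (k' : P)) * g * (g⁻¹ * (((k' : P) : G))⁻¹ * g * B x') := by rw [h1, h2]
        _ = A x' * g * B x' := by group
        _ = x' := (hAB x').symm
    subst h3
    have h4 : (k : P) = k' := Subtype.ext (mul_left_cancel h1)
    rw [Subtype.ext h4]
  · rintro ⟨a, b⟩
    let x : DC P g := ⟨a * g * b, a, a.2, b, b.2, rfl⟩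
    have hx : (A x : G) * g * B x = a * g * b := (hAB x).symm
    have hk : g⁻¹ * ((((A x)⁻¹ * a : P)) : G) * g = B x * (b : G)⁻¹ := by
      rw [Subgroup.coe_mul, Subgroup.coe_inv]
      have h1 : (a : G) * g = A x * g * B x * (b : G)⁻¹ := by rw [hx]; group
      calc g⁻¹ * ((A x : G)⁻¹ * a) * g = g⁻¹ * (A x : G)⁻¹ * (a * g) := by group
        _ = _ := by rw [h1]; group
    have hkm : (A x)⁻¹ * a ∈ dsub P g := by
      rw [mem_dsub, hk]
      exact mul_mem (B x).2 (inv_mem b.2)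
    refine ⟨(x, ⟨(A x)⁻¹ * a, hkm⟩), Prod.ext ?_ (Subtype.ext ?_)⟩
    · change A x * ((A x)⁻¹ * a) = a
      group
    · change g⁻¹ * ((((A x)⁻¹ * a : P)) : G)⁻¹ * g * B x = b
      have h1 : g⁻¹ * ((((A x)⁻¹ * a : P)) : G)⁻¹ * g = (g⁻¹ * ((((A x)⁻¹ * a : P)) : G) * g)⁻¹ := by group
      rw [h1, hk]
      group

/-- A complex number by which an algebraic integer combination of the operators of a finite group acts on a nonzero
vector is an algebraic integer. -/
theorem isIntegral_of_vec {G : Type*} [Group G] [Finite G] {V : Type*} [AddCommGroup V]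
    [Module ℂ V] (ρ : Representation ℂ G V) {v : V} (hv : v ≠ 0) {ι : Type*} [Fintype ι]
    (a : ι → ℂ) (x : ι → G) (ha : ∀ i, IsIntegral ℤ (a i)) (s : ℂ)
    (hs : ∑ i, a i • ρ (x i) v = s • v) : IsIntegral ℤ s := by
  classical
  let R := integralClosure ℤ ℂ
  let L : Submodule R V := Submodule.span R (Set.range fun g : G => ρ g v)
  have hmem : ∀ g : G, ρ g v ∈ L := fun g => Submodule.subset_span ⟨g, rfl⟩
  have hfg : L.FG := Submodule.fg_span (Set.finite_range _)
  have hne : L ≠ ⊥ := by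
    intro h
    have h1 := hmem 1
    rw [h, Submodule.mem_bot] at h1
    apply hv
    simpa using h1
  have hstab : ∀ n ∈ L, s • n ∈ L := by
    intro n hn
    induction hn using Submodule.span_induction with
    | mem y hy =>
      obtain ⟨g, rfl⟩ := hy
      have h1 : s • ρ g v = ∑ i, (⟨a i, ha i⟩ : R) • ρ (g * x i) v := by
        rw [← map_smul, ← hs, map_sum]
        refine Finset.sum_congr rfl fun i _ => ?_
        rw [map_smul, map_mul, Module.End.mul_apply]
        rfl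
      change s • ρ g v ∈ L
      rw [h1]
      exact Submodule.sum_mem _ fun i _ => L.smul_mem _ (hmem _)
    | zero => rw [smul_zero]; exact L.zero_mem
    | add y z _ _ hy hz => rw [smul_add]; exact L.add_mem hy hz
    | smul r y _ hy =>
      rw [smul_comm]
      exact L.smul_mem _ hy
  have h1 : IsIntegral R s := isIntegral_of_smul_mem_submodule L hne hfg s hstab
  exact isIntegral_trans s h1

/-- sums over the cosets -/
theorem sum_cosets {G V : Type*} [Group G] [Fintype G] [AddCommGroup V] [Module ℂ V] (K : Subgroup G)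
    [Fintype (G ⧸ K)] (F : G → V) (hF : ∀ g, ∀ k ∈ K, F (g * k) = F g) :
    ∑ g : G, F g = (Nat.card K : ℂ) • ∑ q : G ⧸ K, F q.out := by
  classical
  have := Fintype.ofFinite K
  have h1 : ∑ g : G, F g = ∑ q : G ⧸ K, ∑ g ∈ Finset.univ.filter (fun g : G => (g : G ⧸ K) = q), F g := by
    rw [Finset.sum_fiberwise]
  rw [h1, Finset.smul_sum]
  refine Finset.sum_congr rfl fun q _ => ?_
  have h2 : ∀ g ∈ Finset.univ.filter (fun g : G => (g : G ⧸ K) = q), F g = F q.out := by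
    intro g hg
    rw [Finset.mem_filter] at hg
    have h3 : (q.out : G ⧸ K) = (g : G ⧸ K) := by rw [hg.2]; exact Quotient.out_eq q
    rw [QuotientGroup.eq] at h3
    have h4 := hF q.out _ h3
    rw [mul_inv_cancel_left] at h4
    exact h4
  rw [Finset.sum_congr rfl h2, Finset.sum_const, ← Nat.cast_smul_eq_nsmul ℂ]
  congr 2
  obtain ⟨x, rfl⟩ := QuotientGroup.mk_surjective q
  have hinj : Function.Injective (fun k : K => x * (k : G)) :=
    fun a b hab => Subtype.ext (mul_left_cancel hab)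
  have h5 : Finset.univ.filter (fun g : G => (g : G ⧸ K) = (x : G ⧸ K)) =
      (Finset.univ : Finset K).map ⟨fun k : K => x * (k : G), hinj⟩ := by
    ext g
    simp only [Finset.mem_filter, Finset.mem_univ, true_and, Finset.mem_map,
      Function.Embedding.coeFn_mk]
    rw [eq_comm, QuotientGroup.eq]
    constructor
    · intro hg
      exact ⟨⟨_, hg⟩, by simp⟩
    · rintro ⟨k, rfl⟩
      simp
  rw [h5, Finset.card_map, Finset.card_univ, Nat.card_eq_fintype_card]

section lam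

variable {G : Type u} [Group G] (P : Subgroup G) (f : P →* ℂˣ)

/-- the spherical function (times `|P|`) -/
noncomputable def Lam [Fintype P] (χ : G → ℂ) (x : G) : ℂ := ∑ p : P, (((f p)⁻¹ : ℂˣ) : ℂ) * χ (p * x)

variable [Fintype P]

theorem Lam_mul_left (χ : G → ℂ) {a : G} (ha : a ∈ P) (x : G) :
    Lam P f χ (a * x) = f ⟨a, ha⟩ * Lam P f χ x := by
  unfold Lam
  rw [Finset.mul_sum]
  refine Fintype.sum_equiv (Equiv.mulRight ⟨a, ha⟩) _ _ fun p => ?_
  rw [Equiv.coe_mulRight, map_mul, mul_inv, Units.val_mul, Subgroup.coe_mul, ← mul_assoc (p : G) a x, ← mul_assoc]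
  congr 1
  rw [mul_left_comm, Units.mul_inv, mul_one]

theorem Lam_mul_right {χ : G → ℂ} (hχ : IsClassFunction G χ) {a : G} (ha : a ∈ P) (x : G) :
    Lam P f χ (x * a) = f ⟨a, ha⟩ * Lam P f χ x := by
  unfold Lam
  rw [Finset.mul_sum]
  refine Fintype.sum_equiv (Equiv.mulLeft ⟨a, ha⟩) _ _ fun p => ?_
  rw [Equiv.coe_mulLeft, map_mul, mul_inv, Units.val_mul, Subgroup.coe_mul]
  have h1 : χ ((p : G) * (x * a)) = χ (a * (p : G) * x) := by
    rw [← hχ ((p : G) * (x * a)) a]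
    congr 1
    group
  rw [h1, ← mul_assoc ((f ⟨a, ha⟩ : ℂˣ) : ℂ), ← mul_assoc ((f ⟨a, ha⟩ : ℂˣ) : ℂ), Units.mul_inv, one_mul]

theorem Lam_one (χ : G → ℂ) (h1 : classInner (fun p : P => χ p) (fun p => (f p : ℂ)) = 1) :
    Lam P f χ 1 = Nat.card P := by
  rw [classInner_apply, inv_mul_eq_one₀ card_ne_zero'] at h1
  rw [h1]
  unfold Lam
  refine Finset.sum_congr rfl fun p _ => ?_
  rw [mul_one, mul_comm]
  congr 1
  have h2 := mul_conj_hom f p
  rw [Units.val_inv_eq_inv_val]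
  exact (eq_inv_of_mul_eq_one_right h2).symm

/-- the sum of the squares -/
theorem sum_Lam [Fintype G] {χ : G → ℂ} (hχ : IsIrrCharacter G χ) :
    ∑ x : G, Lam P f χ x * Lam P f χ x⁻¹ = Nat.card P * (Nat.card G / χ 1) * Lam P f χ 1 := by
  classical
  have hcl := isIrr_isClassFunction hχ
  have h1 : ∀ p q : P, ∑ x : G, χ (p * x) * χ (q * x⁻¹) = (Nat.card G : ℂ) * χ ((p : G) * q) / χ 1 := by
    intro p q
    rw [← Cfsg.Agent.Characters.Central.sum_char_mul_char_inv_mul hχ]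
    refine Fintype.sum_equiv (Equiv.mulLeft (p : G)) _ _ fun x => ?_
    rw [Equiv.coe_mulLeft]
    congr 1
    rw [← hcl ((q : G) * x⁻¹) (q : G)⁻¹]
    congr 1
    group
  have h2 : ∑ x : G, Lam P f χ x * Lam P f χ x⁻¹ =
      ∑ p : P, ∑ q : P, (((f p)⁻¹ : ℂˣ) : ℂ) * (((f q)⁻¹ : ℂˣ) : ℂ) * ((Nat.card G : ℂ) * χ ((p : G) * q) / χ 1) := by
    have h3 : ∀ x : G, Lam P f χ x * Lam P f χ x⁻¹ =
        ∑ p : P, ∑ q : P, (((f p)⁻¹ : ℂˣ) : ℂ) * (((f q)⁻¹ : ℂˣ) : ℂ) * (χ (p * x) * χ (q * x⁻¹)) := by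
      intro x
      unfold Lam
      rw [Finset.sum_mul]
      refine Finset.sum_congr rfl fun p _ => ?_
      rw [Finset.mul_sum]
      refine Finset.sum_congr rfl fun q _ => ?_
      ring
    rw [Finset.sum_congr rfl fun x _ => h3 x, Finset.sum_comm]
    refine Finset.sum_congr rfl fun p _ => ?_
    rw [Finset.sum_comm]
    refine Finset.sum_congr rfl fun q _ => ?_
    rw [← Finset.mul_sum, h1]
  rw [h2]
  have h4 : ∀ p : P, ∑ q : P, (((f p)⁻¹ : ℂˣ) : ℂ) * (((f q)⁻¹ : ℂˣ) : ℂ) *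
      ((Nat.card G : ℂ) * χ ((p : G) * q) / χ 1) = (Nat.card G / χ 1) * Lam P f χ 1 := by
    intro p
    unfold Lam
    rw [Finset.mul_sum]
    refine Fintype.sum_equiv (Equiv.mulLeft p) _ _ fun q => ?_
    rw [Equiv.coe_mulLeft, map_mul, mul_inv, Units.val_mul, Subgroup.coe_mul, mul_one]
    ring
  rw [Finset.sum_congr rfl fun p _ => h4 p, Finset.sum_const, Finset.card_univ, nsmul_eq_mul,
    Nat.card_eq_fintype_card (α := P), mul_assoc]

/-- the integrality of the eigenvalue -/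
theorem isIntegral_Lam [Finite G] {χ : G → ℂ} (hχ : IsIrrCharacter G χ)
    (h1 : classInner (fun p : P => χ p) (fun p => (f p : ℂ)) = 1) {g : G}
    (hst : ∀ (t : P) (ht : g⁻¹ * t * g ∈ P), f t = f ⟨g⁻¹ * t * g, ht⟩) :
    IsIntegral ℤ (Lam P f χ g / Nat.card (dsub P g)) := by
  classical
  have hL1 := Lam_one P f χ h1
  obtain ⟨n, ρ, hρ, h⟩ := hχ
  have hcP : (Nat.card P : ℂ) ≠ 0 := card_ne_zero'
  have hcK : (Nat.card (dsub P g) : ℂ) ≠ 0 := card_ne_zero'
  set E : Module.End ℂ (Fin n → ℂ) := ∑ p : P, (((f p)⁻¹ : ℂˣ) : ℂ) • ρ p with hE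
  have hl : ∀ q : P, ρ q * E = (f q : ℂ) • E := by
    intro q
    rw [hE, Finset.mul_sum, Finset.smul_sum]
    refine Fintype.sum_equiv (Equiv.mulLeft q) _ _ fun p => ?_
    rw [Equiv.coe_mulLeft, map_mul, mul_inv, Units.val_mul, mul_smul_comm, smul_smul, ← mul_assoc, Units.mul_inv,
      one_mul, Subgroup.coe_mul, map_mul]
  have hEE : E * E = (Nat.card P : ℂ) • E := by
    conv_lhs => rw [hE, Finset.sum_mul]
    have h2 : ∀ p : P, ((((f p)⁻¹ : ℂˣ) : ℂ) • ρ p) * E = E := by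
      intro p
      rw [smul_mul_assoc, hl, smul_smul, Units.inv_mul, one_smul]
    rw [Finset.sum_congr rfl fun p _ => h2 p, Finset.sum_const, Finset.card_univ, ← Nat.cast_smul_eq_nsmul ℂ,
      Nat.card_eq_fintype_card]
  have htr : ∀ x : G, LinearMap.trace ℂ (Fin n → ℂ) (E * ρ x) = Lam P f χ x := by
    intro x
    rw [hE, Finset.sum_mul, map_sum]
    unfold Lam
    refine Finset.sum_congr rfl fun p _ => ?_
    rw [smul_mul_assoc, map_smul, smul_eq_mul, ← map_mul, ← h]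
    rfl
  have htr1 : LinearMap.trace ℂ (Fin n → ℂ) E = Nat.card P := by
    have := htr 1
    rwa [map_one, mul_one, hL1] at this
  have hrk : finrank ℂ (LinearMap.range E) = 1 := by
    set Q : Module.End ℂ (Fin n → ℂ) := (Nat.card P : ℂ)⁻¹ • E with hQ
    have h1 : Q * Q = Q := by
      rw [hQ, smul_mul_smul_comm, hEE, smul_smul]
      congr 1
      field_simp
    have h3 : IsIdempotentElem Q := h1
    have h4 := LinearMap.IsProj.trace (LinearMap.IsIdempotentElem.isProj_range Q h3)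
    rw [hQ, map_smul, htr1, smul_eq_mul, inv_mul_cancel₀ hcP] at h4
    have h5 : finrank ℂ (LinearMap.range Q) = 1 := by exact_mod_cast h4.symm
    rwa [hQ, LinearMap.range_smul _ _ (inv_ne_zero hcP)] at h5
  obtain ⟨⟨v, hvm⟩, hv0, hv⟩ := finrank_eq_one_iff'.1 hrk
  have hv0' : v ≠ 0 := fun h => hv0 (Subtype.ext h)
  have hmem : ∀ y, E y ∈ Submodule.span ℂ {v} := by
    intro y
    obtain ⟨c, hc⟩ := hv ⟨E y, ⟨y, rfl⟩⟩
    rw [Submodule.mem_span_singleton]
    exact ⟨c, congrArg Subtype.val hc⟩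
  let ℓ : (Fin n → ℂ) →ₗ[ℂ] ℂ := (LinearEquiv.toSpanNonzeroSingleton ℂ (Fin n → ℂ) v hv0').symm.toLinearMap.comp
    (LinearMap.codRestrict (Submodule.span ℂ {v}) E hmem)
  have hℓ : ∀ y, E y = ℓ y • v := by
    intro y
    have h2 := (LinearEquiv.toSpanNonzeroSingleton ℂ (Fin n → ℂ) v hv0').apply_symm_apply
      (LinearMap.codRestrict (Submodule.span ℂ {v}) E hmem y)
    have h3 := congrArg Subtype.val h2
    exact h3.symm
  have hEg : ∀ x : G, E (ρ x v) = Lam P f χ x • v := by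
    intro x
    have h2 : E * ρ x = (ℓ.comp (ρ x)).smulRight v := by
      refine LinearMap.ext fun y => ?_
      rw [Module.End.mul_apply, hℓ]
      rfl
    rw [hℓ, ← htr x, h2, LinearMap.trace_smulRight]
    rfl
  have hpv : ∀ p : P, ρ p v = (f p : ℂ) • v := by
    intro p
    obtain ⟨w, hw⟩ := hvm
    rw [← hw]
    have := LinearMap.congr_fun (hl p) w
    exact this
  have := Fintype.ofFinite (P ⧸ dsub P g)
  let F : P → (Fin n → ℂ) := fun p => (((f p)⁻¹ : ℂˣ) : ℂ) • ρ ((p : G) * g) v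
  have hF : ∀ p, ∀ k ∈ dsub P g, F (p * k) = F p := by
    intro p k hk
    have hk' := (mem_dsub P g k).1 hk
    have e1 : (((p * k : P)) : G) * g = (p : G) * g * (g⁻¹ * k * g) := by
      rw [Subgroup.coe_mul]
      group
    change (((f (p * k))⁻¹ : ℂˣ) : ℂ) • ρ ((((p * k : P)) : G) * g) v = (((f p)⁻¹ : ℂˣ) : ℂ) • ρ ((p : G) * g) v
    rw [e1, map_mul ρ, Module.End.mul_apply, hpv ⟨g⁻¹ * k * g, hk'⟩, map_smul, smul_smul, map_mul, mul_inv,
      Units.val_mul, ← hst k hk', mul_assoc, Units.inv_mul, mul_one]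
  have h2 := sum_cosets (dsub P g) F hF
  have h3 : ∑ p : P, F p = Lam P f χ g • v := by
    rw [← hEg g, hE, LinearMap.sum_apply]
    refine Finset.sum_congr rfl fun p _ => ?_
    rw [LinearMap.smul_apply, ← Module.End.mul_apply, ← map_mul]
  rw [h3] at h2
  refine isIntegral_of_vec ρ hv0' (fun q : P ⧸ dsub P g => (((f q.out)⁻¹ : ℂˣ) : ℂ)) (fun q => (q.out : G) * g)
    (fun q => ?_) _ ?_
  · have h4 : ((((f q.out)⁻¹ : ℂˣ) : ℂ)) ^ Nat.card P = 1 := by
      rw [← Units.val_pow_eq_pow_val, inv_pow, ← map_pow, pow_card_eq_one', map_one, inv_one, Units.val_one]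
    exact IsIntegral.of_pow Nat.card_pos (by rw [h4]; exact isIntegral_one)
  · apply smul_right_injective _ hcK
    change (Nat.card (dsub P g) : ℂ) • ∑ q : P ⧸ dsub P g, F q.out =
      (Nat.card (dsub P g) : ℂ) • (Lam P f χ g / Nat.card (dsub P g)) • v
    rw [← h2, smul_smul, mul_div_cancel₀ _ hcK]

end lam

/-- sums of functions supported on `P ∪ P g P` -/
theorem sum_split {G : Type*} [Group G] [Fintype G] (P : Subgroup G) {g : G} (hg : g ∉ P) (F : G → ℂ) (A C : ℂ)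
    (hP : ∀ x ∈ P, F x = A) (hD : ∀ x ∈ DC P g, F x = C) (h0 : ∀ x, x ∉ P → x ∉ DC P g → F x = 0) :
    ∑ x, F x = Nat.card P * A + Nat.card (DC P g) * C := by
  classical
  have hdis : ∀ x ∈ P, x ∉ DC P g := by
    rintro x hx ⟨a, ha, b, hb, rfl⟩
    apply hg
    have h1 := mul_mem (mul_mem (inv_mem ha) hx) (inv_mem hb)
    have e : a⁻¹ * (a * g * b) * b⁻¹ = g := by group
    rwa [e] at h1
  have h1 : ∀ x, F x = (if x ∈ P then A else 0) + (if x ∈ DC P g then C else 0) := by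
    intro x
    by_cases hx : x ∈ P
    · rw [if_pos hx, if_neg (hdis x hx), add_zero, hP x hx]
    · by_cases hx' : x ∈ DC P g
      · rw [if_neg hx, if_pos hx', zero_add, hD x hx']
      · rw [if_neg hx, if_neg hx', add_zero, h0 x hx hx']
  have h2 : ∀ (S : Set G) (B : ℂ), ∑ x, (if x ∈ S then B else 0) = Nat.card S * B := by
    intro S B
    rw [← Finset.sum_filter, Finset.sum_const, nsmul_eq_mul]
    congr 2
    rw [Nat.card_eq_fintype_card, Fintype.card_subtype]
  rw [Finset.sum_congr rfl fun x _ => h1 x, Finset.sum_add_distrib, h2 (DC P g) C]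
  congr 1
  exact h2 (P : Set G) A

section pair

variable {G : Type u} [Group G] [Fintype G] (P : Subgroup G) (f : P →* ℂˣ) {g : G}

/-- the norm of the induced character -/
theorem norm_pair [Fintype P] (hgP : g ∉ P) (hst : ∀ (t : P) (ht : g⁻¹ * t * g ∈ P), f t = f ⟨g⁻¹ * t * g, ht⟩)
    (hun : ∀ x : G, x ∉ P → x ∉ DC P g → ∃ (t : P) (hx : x⁻¹ * t * x ∈ P), f t ≠ f ⟨x⁻¹ * t * x, hx⟩) :
    classInner (indFun P (fun t => (f t : ℂ))) (indFun P (fun t => (f t : ℂ))) = 2 := by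
  classical
  have hcl : IsClassFunction P (fun t => (f t : ℂ)) := isIrr_isClassFunction (Linear.isIrrCharacter_hom f)
  have hg : twist P (fun t => (f t : ℂ)) (fun t => (f t : ℂ)) g = Nat.card (dsub P g) := by
    have : Fintype (dsub P g) := Fintype.ofFinite _
    rw [twist_def, sum_eq_sum_subgroup (dsub P g)]
    · have h1 : ∀ d : dsub P g, (f (d : P) : ℂ) *
          conj (extendByZero P (fun t => (f t : ℂ)) (g⁻¹ * ((d : P) : G) * g)) = 1 := by
        intro d
        rw [ext_apply_mem P _ _ ((mem_dsub P g d).1 d.2), ← hst]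
        exact mul_conj_hom f _
      rw [Finset.sum_congr rfl fun d _ => h1 d, Finset.sum_const, Finset.card_univ, nsmul_eq_mul, mul_one,
        Nat.card_eq_fintype_card]
    · intro t ht
      rw [mem_dsub] at ht
      rw [ext_apply_not_mem P _ _ ht, map_zero, mul_zero]
  rw [classInner_indFun_indFun, sum_split P hgP _ (Nat.card P) (Nat.card (dsub P g))]
  · have h1 := card_DC P g
    have h2 : (Nat.card (DC P g) : ℂ) * Nat.card (dsub P g) = Nat.card P * Nat.card P := by exact_mod_cast h1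
    have hP : (Nat.card P : ℂ) ≠ 0 := card_ne_zero'
    rw [h2]
    field_simp
    norm_num
  · intro x hx
    have h1 := twist_lin P P le_rfl f hx
    rw [dsub_of_mem P hx, Subgroup.card_top] at h1
    exact h1
  · rintro x ⟨a, ha, b, hb, rfl⟩
    rw [Cfsg.Agent.H53.HC.twist_mul P hcl hcl ha hb, hg]
  · intro x hx hx'
    exact twist_eq_zero P f x (hun x hx hx')

theorem Lam_conj [Fintype P] {χ : G → ℂ} (hχ : IsIrrCharacter G χ) (x : G) :
    Lam P f χ x⁻¹ = conj (Lam P f χ x) := by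
  unfold Lam
  rw [map_sum]
  refine Fintype.sum_equiv (Equiv.inv P) _ _ fun p => ?_
  have h2 := mul_conj_hom f p
  have h3 : conj (f p : ℂ) = (((f p)⁻¹ : ℂˣ) : ℂ) := by
    rw [Units.val_inv_eq_inv_val]
    exact eq_inv_of_mul_eq_one_right h2
  rw [map_mul, Equiv.inv_apply, map_inv, inv_inv, h3, ← isCharacter_apply_inv (isIrr_isCharacter hχ)]
  congr 1
  rw [← isIrr_isClassFunction hχ ((p : G) * x⁻¹) (p : G)⁻¹]
  congr 1
  rw [Subgroup.coe_inv]
  group

theorem dvd_of_inner [Fintype P] (hgP : g ∉ P) (hst : ∀ (t : P) (ht : g⁻¹ * t * g ∈ P), f t = f ⟨g⁻¹ * t * g, ht⟩)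
    (hun : ∀ x : G, x ∉ P → x ∉ DC P g → ∃ (t : P) (hx : x⁻¹ * t * x ∈ P), f t ≠ f ⟨x⁻¹ * t * x, hx⟩)
    {χ : G → ℂ} (hχ : IsIrrCharacter G χ) (h1 : classInner (fun p : P => χ p) (fun p => (f p : ℂ)) = 1) {d' : ℕ}
    (hd : charDegree χ + d' = P.index) : charDegree χ ∣ (dsub P g).index * d' := by
  classical
  have hcl := isIrr_isClassFunction hχ
  have hd0 : charDegree χ ≠ 0 := (Cfsg.Agent.Blocks.Basic.charDegree_pos hχ).ne'
  have hχ1 : χ 1 = (charDegree χ : ℂ) := Cfsg.Agent.Blocks.Basic.irr_one_eq_charDegree hχ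
  have hL1 := Lam_one P f χ h1
  have hint := isIntegral_Lam P f hχ h1 hst
  have hint' : IsIntegral ℤ (conj (Lam P f χ g / Nat.card (dsub P g))) := map_isIntegral_int (starRingEnd ℂ) hint
  refine Cfsg.Agent.CharactersDeep.ScalarIndex.dvd_of_isIntegral_div _ _ hd0 ?_
  have hsum := sum_Lam P f hχ
  rw [sum_split P hgP _ (Nat.card P * Nat.card P) (Lam P f χ g * Lam P f χ g⁻¹), hL1] at hsum
  · have e : (((dsub P g).index * d' : ℕ) : ℂ) / (charDegree χ : ℂ) =
        Lam P f χ g / Nat.card (dsub P g) * conj (Lam P f χ g / Nat.card (dsub P g)) := by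
      rw [map_div₀, Complex.conj_natCast, ← Lam_conj P f hχ]
      have hP : (Nat.card P : ℂ) ≠ 0 := card_ne_zero'
      have hK : (Nat.card (dsub P g) : ℂ) ≠ 0 := card_ne_zero'
      have hdc : (charDegree χ : ℂ) ≠ 0 := by exact_mod_cast hd0
      have c1 : (Nat.card (DC P g) : ℂ) * Nat.card (dsub P g) = Nat.card P * Nat.card P := by
        exact_mod_cast card_DC P g
      have c2 : (Nat.card (dsub P g) : ℂ) * (dsub P g).index = Nat.card P := by
        exact_mod_cast Subgroup.card_mul_index (dsub P g)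
      have c3 : (Nat.card P : ℂ) * ((charDegree χ : ℂ) + d') = Nat.card G := by
        exact_mod_cast (by rw [hd, Subgroup.card_mul_index] : Nat.card P * (charDegree χ + d') = Nat.card G)
      rw [hχ1] at hsum
      set N := (Nat.card P : ℂ)
      set k := (Nat.card (dsub P g) : ℂ)
      set c := (charDegree χ : ℂ)
      set Q := Lam P f χ g * Lam P f χ g⁻¹
      set D := (Nat.card (DC P g) : ℂ)
      rw [Nat.cast_mul, div_mul_div_comm, div_eq_div_iff hdc (mul_ne_zero hK hK)]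
      change (((dsub P g).index : ℂ)) * (d' : ℂ) * (k * k) = Q * c
      -- `N³ + D Q = N (|G| / c) N`
      have h5 : N * (N * N) + D * Q = N * ((N * (c + d')) / c) * N := by
        rw [c3]
        exact hsum
      have h7 : c * (N * (N * N) + D * Q) = N * (N * (c + d')) * N := by
        rw [h5]
        field_simp
      have h8 : c * (D * k) * Q = N * N * N * d' * k := by
        linear_combination k * h7
      rw [c1] at h8
      have h9 : N * N * (Q * c) = N * N * (N * d' * k) := by linear_combination h8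
      have h10 := mul_left_cancel₀ (mul_ne_zero hP hP) h9
      rw [h10, ← c2]
      ring
    rw [e]
    exact hint.mul hint'
  · intro x hx
    have h2 : Lam P f χ x = f ⟨x, hx⟩ * Nat.card P := by
      have := Lam_mul_left P f χ hx 1
      rwa [mul_one, hL1] at this
    have h3 : Lam P f χ x⁻¹ = (((f ⟨x, hx⟩)⁻¹ : ℂˣ) : ℂ) * Nat.card P := by
      have := Lam_mul_left P f χ (inv_mem hx) 1
      rw [mul_one, hL1] at this
      rw [this]
      have e : (⟨x⁻¹, inv_mem hx⟩ : P) = (⟨x, hx⟩ : P)⁻¹ := rfl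
      rw [e, map_inv]
    rw [h2, h3]
    calc (f ⟨x, hx⟩ : ℂ) * Nat.card P * ((((f ⟨x, hx⟩)⁻¹ : ℂˣ) : ℂ) * Nat.card P) =
          ((f ⟨x, hx⟩ : ℂ) * (((f ⟨x, hx⟩)⁻¹ : ℂˣ) : ℂ)) * (Nat.card P * Nat.card P) := by ring
      _ = _ := by rw [Units.mul_inv, one_mul]
  · rintro x ⟨a, ha, b, hb, rfl⟩
    have e1 : (a * g * b)⁻¹ = b⁻¹ * (g⁻¹ * a⁻¹) := by group
    rw [e1, Lam_mul_left P f χ (inv_mem hb), Lam_mul_right P f hcl (inv_mem ha), mul_assoc a g b,
      Lam_mul_left P f χ ha, Lam_mul_right P f hcl hb]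
    have e2 : (⟨a⁻¹, inv_mem ha⟩ : P) = (⟨a, ha⟩ : P)⁻¹ := rfl
    have e3 : (⟨b⁻¹, inv_mem hb⟩ : P) = (⟨b, hb⟩ : P)⁻¹ := rfl
    rw [e2, e3, map_inv, map_inv]
    calc (f ⟨a, ha⟩ : ℂ) * ((f ⟨b, hb⟩ : ℂ) * Lam P f χ g) *
          ((((f ⟨b, hb⟩)⁻¹ : ℂˣ) : ℂ) * ((((f ⟨a, ha⟩)⁻¹ : ℂˣ) : ℂ) * Lam P f χ g⁻¹)) =
          ((f ⟨a, ha⟩ : ℂ) * (((f ⟨a, ha⟩)⁻¹ : ℂˣ) : ℂ)) * ((f ⟨b, hb⟩ : ℂ) * (((f ⟨b, hb⟩)⁻¹ : ℂˣ) : ℂ)) *
            (Lam P f χ g * Lam P f χ g⁻¹) := by ring
      _ = _ := by rw [Units.mul_inv, Units.mul_inv, one_mul, one_mul]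
  · intro x hx hx'
    obtain ⟨t, ht, hne⟩ := hun x hx hx'
    have h2 := Lam_mul_left P f χ t.2 x
    have h3 := Lam_mul_right P f hcl ht x
    have e : x * (x⁻¹ * t * x) = t * x := by group
    rw [e, h2] at h3
    have h4 : ((f ⟨t, t.2⟩ : ℂ) - (f ⟨x⁻¹ * t * x, ht⟩ : ℂ)) * Lam P f χ x = 0 := by
      rw [sub_mul, h3, sub_self]
    rcases mul_eq_zero.1 h4 with h5 | h5
    · exact absurd (Units.ext (sub_eq_zero.1 h5)) hne
    · rw [h5, zero_mul]

/-- **The two constituents.** -/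
theorem exists_pair (hgP : g ∉ P) (hst : ∀ (t : P) (ht : g⁻¹ * t * g ∈ P), f t = f ⟨g⁻¹ * t * g, ht⟩)
    (hun : ∀ x : G, x ∉ P → x ∉ DC P g → ∃ (t : P) (hx : x⁻¹ * t * x ∈ P), f t ≠ f ⟨x⁻¹ * t * x, hx⟩) :
    ∃ χ χ' : IrrCharacter G, charDegree (χ : G → ℂ) + charDegree (χ' : G → ℂ) = P.index ∧
      charDegree (χ : G → ℂ) ∣ (dsub P g).index * charDegree (χ' : G → ℂ) ∧
      charDegree (χ' : G → ℂ) ∣ (dsub P g).index * charDegree (χ : G → ℂ) := by
  classical
  have : Fintype P := Fintype.ofFinite P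
  have hn := norm_pair P f hgP hst hun
  set Θ := indFun P (fun t => (f t : ℂ)) with hΘ
  have hΘc : IsCharacter G Θ := Cfsg.Agent.S0148.result P _ (Linear.isCharacter_hom f)
  obtain ⟨χ, hχ, hne, -⟩ := Cfsg.Agent.H53.HC.exists_common hΘc hΘc (by
    rw [hn]
    exact two_ne_zero)
  obtain ⟨m, hm⟩ := classInner_isNat hΘc (isIrr_isCharacter hχ)
  have hDc := isCharacter_sub_irr hΘc hχ hne
  have hcc : classInner χ Θ = (m : ℂ) := by
    rw [← classInner_conj_symm, hm, Complex.conj_natCast]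
  obtain ⟨k, hk⟩ := classInner_isNat hDc hDc
  have hD : classInner (Θ - χ) (Θ - χ) = 3 - 2 * (m : ℂ) := by
    rw [classInner_sub_left, classInner_sub_right, classInner_sub_right, hn, hm, hcc, classInner_irr_self hχ]
    ring
  have hm1 : m = 1 := by
    have h0 : m ≠ 0 := by
      rintro rfl
      exact hne (by rw [hm, Nat.cast_zero])
    rw [hk] at hD
    have h4 : ((k + 2 * m : ℕ) : ℂ) = ((3 : ℕ) : ℂ) := by
      push_cast
      linear_combination hD
    have h5 : k + 2 * m = 3 := by exact_mod_cast h4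
    omega
  subst hm1
  have hi2 : IsIrrCharacter G (Θ - χ) := by
    rw [isIrr_iff_classInner_self hDc, hD]
    norm_num
  have hΘD : classInner Θ (Θ - χ) = 1 := by
    rw [classInner_sub_right, hn, hm]
    norm_num
  have key : ∀ {ξ : G → ℂ}, IsIrrCharacter G ξ → classInner Θ ξ = 1 →
      classInner (fun p : P => ξ p) (fun p => (f p : ℂ)) = 1 := by
    intro ξ hξ h1
    rw [hΘ, classInner_indFun P _ ξ (isIrr_isClassFunction hξ)] at h1
    rw [← classInner_conj_symm, h1, map_one]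
  have hdeg : charDegree χ + charDegree (Θ - χ) = P.index := by
    have e1 : χ 1 = (charDegree χ : ℂ) := Cfsg.Agent.Blocks.Basic.irr_one_eq_charDegree hχ
    have e2 : (Θ - χ) 1 = (charDegree (Θ - χ) : ℂ) := Cfsg.Agent.Blocks.Basic.irr_one_eq_charDegree hi2
    have e3 : Θ 1 = (P.index : ℂ) := by
      rw [hΘ, Cfsg.Agent.H53.HC.indFun_one, map_one, Units.val_one, mul_one]
    have h4 : ((charDegree χ + charDegree (Θ - χ) : ℕ) : ℂ) = (P.index : ℂ) := by
      rw [← e3]
      push_cast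
      rw [← e1, ← e2, Pi.sub_apply]
      ring
    exact_mod_cast h4
  refine ⟨⟨χ, hχ⟩, ⟨Θ - χ, hi2⟩, hdeg, ?_, ?_⟩
  · exact dvd_of_inner P f hgP hst hun hχ (key hχ (by rw [hm, Nat.cast_one])) hdeg
  · exact dvd_of_inner P f hgP hst hun hi2 (key hi2 hΘD) (by rw [add_comm]; exact hdeg)

end pair

end Cfsg.Agent.H115.HC.Two
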