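import Cfsg.Agent.H115.HC.TwoAbs
import Cfsg.Agent.H115.HC.RgdCusp
import Cfsg.Agent.H554.RG

/-!
# Root group data of type `G₂`: the principal series characters of the degrees `|G : P_d|`, `|G : P_d| |X_d|` (helper115)
-/

set_option autoImplicit false

open scoped ComplexConjugate
open Cfsg

namespace Cfsg.Agent.H115.HC.Two

open CoxeterSystem Cfsg.Agent.ChevalleyStructure.CoxeterGeom Cfsg.Agent.Tits.Roots Cfsg.Agent.Tits.Core
  Cfsg.Agent.Tits.Exchange Cfsg.Agent.Nodes.Reps Cfsg.Agent.Nodes.BNOf Cfsg.Agent.Nodes.StabComb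
  Cfsg.Agent.Nodes.Bruhat Cfsg.Agent.Nodes.OppDec Cfsg.Agent.Nodes.LeviDec Cfsg.Agent.H53.HC
  Cfsg.Agent.LieRecognition.RankOneAbstract Cfsg.Agent.Characters Cfsg.Agent.OddOrderCharacters.Clifford

section words

variable {W : Type*} [Group W]

theorem mem_zp {s : W} (ss : s * s = 1) {x : W} (hx : x ∈ Subgroup.zpowers s) : x = 1 ∨ x = s := by
  obtain ⟨k, rfl⟩ := hx
  rcases Int.even_or_odd k with ⟨m, rfl⟩ | ⟨m, rfl⟩
  · left
    dsimp only
    rw [zpow_add, ← (Commute.refl s).mul_zpow, ss, one_zpow]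
  · right
    dsimp only
    rw [zpow_add, zpow_one, two_mul, zpow_add, ← (Commute.refl s).mul_zpow, ss, one_zpow, one_mul]

variable {I : Type*} {M : CoxeterMatrix I} (cs : CoxeterSystem M W)

/-- the double cosets of `⟨s⟩` in the dihedral group of order `12` -/
theorem exists_dc {i j : I} (hI : ∀ k : I, k = i ∨ k = j) (hM : M i j = 6) (w : W) :
    ∃ a ∈ WJ cs {i}, ∃ b ∈ WJ cs {i}, ∃ r ∈ ({1, cs.simple j, cs.simple j * cs.simple i * cs.simple j,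
      cs.simple j * cs.simple i * cs.simple j * cs.simple i * cs.simple j} : Set W), w = a * r * b := by
  obtain ⟨s, hs⟩ : ∃ s, s = cs.simple i := ⟨_, rfl⟩
  obtain ⟨t, ht⟩ : ∃ t, t = cs.simple j := ⟨_, rfl⟩
  have hWJ : WJ cs {i} = Subgroup.zpowers s := by
    unfold WJ
    rw [Set.image_singleton, Subgroup.zpowers_eq_closure, hs]
  rw [hWJ, ← hs, ← ht]
  have ss : s * s = 1 := by rw [hs, cs.simple_mul_simple_self]
  have tt : t * t = 1 := by rw [ht, cs.simple_mul_simple_self]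
  have br : t * s * t * s * t * s = s * t * s * t * s * t := by
    have h1 := cs.simple_mul_simple_pow i j
    rw [hM, ← hs, ← ht] at h1
    have h2 : (s * t) ^ 3 * (s * t) ^ 3 = 1 := by rw [← pow_add]; exact h1
    have h3 : (s * t) ^ 3 = ((s * t) ^ 3)⁻¹ := mul_eq_one_iff_eq_inv.1 h2
    have si : s⁻¹ = s := inv_eq_of_mul_eq_one_left ss
    have ti : t⁻¹ = t := inv_eq_of_mul_eq_one_left tt
    have h4 : ((s * t) ^ 3)⁻¹ = (t * s) ^ 3 := by rw [← inv_pow, mul_inv_rev, si, ti]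
    rw [h4] at h3
    have e1 : (s * t) ^ 3 = s * t * s * t * s * t := by
      rw [pow_succ, pow_two]; simp only [mul_assoc]
    have e2 : (t * s) ^ 3 = t * s * t * s * t * s := by
      rw [pow_succ, pow_two]; simp only [mul_assoc]
    rw [← e1, ← e2, h3]
  have key : ∀ w : W, ∃ k : Fin 4, ∃ a ∈ Subgroup.zpowers s, ∃ b ∈ Subgroup.zpowers s,
      w = a * (![1, t, t * s * t, t * s * t * s * t] : Fin 4 → W) k * b := by
    intro w
    induction w using cs.simple_induction_right with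
    | one => exact ⟨0, 1, one_mem _, 1, one_mem _, by simp⟩
    | mul_simple_right w k ih =>
      obtain ⟨m, a, ha, b, hb, rfl⟩ := ih
      have hsm := Subgroup.mem_zpowers s
      rcases hI k with rfl | rfl
      · rw [← hs]
        exact ⟨m, a, ha, b * s, mul_mem hb hsm, by group⟩
      · rw [← ht]
        rcases mem_zp ss hb with rfl | rfl
        · fin_cases m
          · exact ⟨1, a, ha, 1, one_mem _, by simp⟩
          · refine ⟨0, a, ha, 1, one_mem _, ?_⟩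
            show a * t * 1 * t = a * 1 * 1
            rw [mul_one, mul_one, mul_one, mul_assoc, tt, mul_one]
          · refine ⟨1, a, ha, s, hsm, ?_⟩
            show a * (t * s * t) * 1 * t = a * t * s
            rw [mul_one, mul_assoc, mul_assoc (t * s), tt, mul_one, mul_assoc]
          · refine ⟨2, a, ha, s, hsm, ?_⟩
            show a * (t * s * t * s * t) * 1 * t = a * (t * s * t) * s
            rw [mul_one, mul_assoc, mul_assoc (t * s * t * s), tt, mul_one, mul_assoc a (t * s * t)]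
        · fin_cases m
          · refine ⟨1, a * b, mul_mem ha hsm, 1, one_mem _, ?_⟩
            show a * 1 * b * t = a * b * t * 1
            rw [mul_one, mul_one]
          · refine ⟨2, a, ha, 1, one_mem _, ?_⟩
            show a * t * b * t = a * (t * b * t) * 1
            group
          · refine ⟨3, a, ha, 1, one_mem _, ?_⟩
            show a * (t * b * t) * b * t = a * (t * b * t * b * t) * 1
            group
          · refine ⟨2, a * b, mul_mem ha hsm, b, hsm, ?_⟩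
            show a * (t * b * t * b * t) * b * t = a * b * (t * b * t) * b
            calc a * (t * b * t * b * t) * b * t = a * (t * b * t * b * t * b) * t := by group
              _ = a * (b * t * b * t * b * t) * t := by rw [br]
              _ = a * b * (t * b * t) * b * (t * t) := by group
              _ = _ := by rw [tt, mul_one]
  obtain ⟨k, a, ha, b, hb, e⟩ := key w
  refine ⟨a, ha, b, hb, _, ?_, e⟩
  fin_cases k
  · exact Or.inl rfl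
  · exact Or.inr (Or.inl rfl)
  · exact Or.inr (Or.inr (Or.inl rfl))
  · exact Or.inr (Or.inr (Or.inr rfl))

end words

variable {I W Y : Type*} [Fintype I] [DecidableEq I] [Group W] [Group Y] {M : CoxeterMatrix I}
  {cs : CoxeterSystem M W} {A : I → I → ℤ} {h : IsCartan M A} {p : ℕ} {T : Subgroup Y} {n : I → Y}
  {X : (I → ℤ) → Subgroup Y}

theorem MJ_single (i : I) : MJ cs h X {i} = X (sr i) ⊔ X (-sr i) := by
  unfold MJ
  apply le_antisymm
  · refine RGD.Sup_le fun x hx => ?_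
    rcases hx.1.pos_or_neg with h0 | h0
    · have h2 : x ∈ PosJ cs h {i} := ⟨hx.1, h0, hx.2⟩
      rw [PosJ_single] at h2
      rw [Set.mem_singleton_iff.1 h2]
      exact le_sup_left
    · have h2 : -x ∈ PosJ cs h {i} := ⟨hx.1.neg, neg_nonneg.2 h0, fun k hk => by
        rw [Pi.neg_apply, hx.2 k hk, neg_zero]⟩
      rw [PosJ_single] at h2
      rw [← Set.mem_singleton_iff.1 h2, neg_neg]
      exact le_sup_right
  · have h1 : (sr i : I → ℤ) ∈ RootsJ cs h {i} := PosJ_subset _ (sr_mem_PosJ (Set.mem_singleton i))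
    exact sup_le (RGD.le_Sup h1) (RGD.le_Sup (RootsJ.neg h1))

variable (R : RGD cs h p T n X)

include R

/-- a representative of the simple reflection in `⟨X_i, X_{-i}⟩` -/
theorem exists_rp_mem (i : I) : ∃ k ∈ MJ cs h X {i}, Rp cs R.nsys (cs.simple i) k := by
  obtain ⟨u, hu, hu1⟩ := exists_ne_one R i
  have h1 : n i * u * (n i)⁻¹ ∈ X (-sr i) := by
    have := R.conj_mem (rp_simple cs R.nsys i) (isRoot_sr cs h i) hu
    rwa [rep_simple_sr] at this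
  have h2 : n i * u * (n i)⁻¹ ≠ 1 := by
    intro h3
    exact hu1 (mul_eq_left.1 (mul_inv_eq_one.1 h3))
  obtain ⟨a, ha, t, ht, b, hb, e⟩ := R.rk1 i _ h1 h2
  refine ⟨a⁻¹ * (n i * u * (n i)⁻¹) * b⁻¹, ?_, ?_⟩
  · rw [MJ_single]
    exact mul_mem (mul_mem (inv_mem (Subgroup.mem_sup_left ha)) (Subgroup.mem_sup_right h1))
      (inv_mem (Subgroup.mem_sup_left hb))
  · have h3 : a⁻¹ * (n i * u * (n i)⁻¹) * b⁻¹ = t * n i := by
      rw [e]
      group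
    rw [h3]
    have := (rp_of_mem (cs := cs) (hN := R.nsys) ht).mul (rp_simple cs R.nsys i)
    rwa [one_mul] at this

theorem conj_T {w : W} {g : Y} (hg : Rp cs R.nsys w g) {t : Y} (ht : t ∈ T) : g⁻¹ * t * g ∈ T := by
  have h1 := (mem_normalizer_iff_cj.1 hg.inv.mem_normalizer)
  have h2 : g⁻¹ * t * g⁻¹⁻¹ ∈ cj g⁻¹ T := conj_mem_cj.2 ht
  rwa [h1, inv_inv] at h2

theorem conj_T' {w : W} {g : Y} (hg : Rp cs R.nsys w g) {t : Y} (ht : t ∈ T) : g * t * g⁻¹ ∈ T := by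
  have := conj_T R hg.inv ht
  rwa [inv_inv] at this

/-- the index of `B ∩ k B k⁻¹` in `B` -/
theorem card_dsub [Finite W] [Finite Y] {i : I} {k : Y} (hk : Rp cs R.nsys (cs.simple i) k) :
    Nat.card (X (sr i)) * Nat.card (dsub (RGD.B cs h T X) k) = Nat.card (RGD.B cs h T X) := by
  rw [← Nat.card_prod]
  have hX : ∀ u ∈ X (sr i), u ∈ RGD.B cs h T X := fun u hu => RGD.X_le_B (isRoot_sr cs h i) (sr_nonneg i) hu
  refine Nat.card_congr (Equiv.ofBijective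
    (fun z : X (sr i) × dsub (RGD.B cs h T X) k => (⟨(z.1 : Y) * ((z.2 : RGD.B cs h T X) : Y),
      mul_mem (hX _ z.1.2) (z.2 : RGD.B cs h T X).2⟩ : RGD.B cs h T X)) ⟨?_, ?_⟩)
  · rintro ⟨u, s⟩ ⟨v, t⟩ e
    have e1 : (u : Y) * ((s : RGD.B cs h T X) : Y) = (v : Y) * ((t : RGD.B cs h T X) : Y) := congrArg Subtype.val e
    have hs := (mem_dsub (RGD.B cs h T X) k s).1 s.2
    have ht := (mem_dsub (RGD.B cs h T X) k t).1 t.2
    have h2 : ((k⁻¹) : Y) * ((v : Y)⁻¹ * u) * (k⁻¹)⁻¹ ∈ RGD.B cs h T X := by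
      have e2 : (v : Y)⁻¹ * u = ((t : RGD.B cs h T X) : Y) * ((s : RGD.B cs h T X) : Y)⁻¹ := by
        rw [inv_mul_eq_iff_eq_mul, ← mul_assoc, ← e1, mul_assoc, mul_inv_cancel, mul_one]
      rw [e2, inv_inv]
      have e3 : k⁻¹ * (((t : RGD.B cs h T X) : Y) * ((s : RGD.B cs h T X) : Y)⁻¹) * k =
          (k⁻¹ * ((t : RGD.B cs h T X) : Y) * k) * (k⁻¹ * ((s : RGD.B cs h T X) : Y) * k)⁻¹ := by group
      rw [e3]
      exact mul_mem ht (inv_mem hs)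
    have h3 : Rp cs R.nsys (cs.simple i) k⁻¹ := by
      have := hk.inv
      rwa [cs.inv_simple] at this
    have h4 := eq_one_of_conj_mem_B R (mul_mem (inv_mem v.2) u.2) h3 h2
    have h5 : (v : Y) = u := inv_mul_eq_one.1 h4
    have h6 : v = u := Subtype.ext h5
    subst h6
    rw [mul_right_inj] at e1
    rw [Subtype.ext (Subtype.ext e1 : (s : RGD.B cs h T X) = t)]
  · rintro ⟨b, hb⟩
    obtain ⟨v, hv, u, hu, t, ht, e⟩ := R.mem_B' i (inv_mem hb)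
    have hut : t⁻¹ * u⁻¹ * t ∈ X (sr i) := by
      have h1 := R.tor (sr i) (isRoot_sr cs h i) t⁻¹ (inv_mem ht)
      have h2 : t⁻¹ * u⁻¹ * t⁻¹⁻¹ ∈ cj t⁻¹ (X (sr i)) := conj_mem_cj.2 (inv_mem hu)
      rwa [h1, inv_inv] at h2
    have hvU : v ∈ RGD.Sup X (RGD.Pos cs h) :=
      RGD.Sup_mono (S := RGD.PosNe cs h i) (S' := RGD.Pos cs h) (fun y hy => ⟨hy.1, hy.2.1⟩) hv
    have hsB : t⁻¹ * v⁻¹ ∈ RGD.B cs h T X :=
      mul_mem (RGD.T_le_B (inv_mem ht)) (RGD.U_le_B (inv_mem hvU))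
    refine ⟨(⟨_, hut⟩, ⟨⟨_, hsB⟩, (mem_dsub _ _ _).2 ?_⟩), Subtype.ext ?_⟩
    · have h1 : k⁻¹ * v⁻¹ * k ∈ RGD.Sup X (RGD.Pos cs h) := by
        refine conj_mem_Sup' R hk (S' := RGD.Pos cs h) (fun x hx => hx.1) (fun x hx => ?_) (inv_mem hv)
        rw [inv_simple]
        exact ⟨hx.1.act _, hx.1.simple_nonneg hx.2.1 i hx.2.2⟩
      have e3 : k⁻¹ * (t⁻¹ * v⁻¹) * k = (k⁻¹ * t⁻¹ * k) * (k⁻¹ * v⁻¹ * k) := by group
      change k⁻¹ * (t⁻¹ * v⁻¹) * k ∈ _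
      rw [e3]
      exact mul_mem (RGD.T_le_B (conj_T R hk (inv_mem ht))) (RGD.U_le_B h1)
    · change t⁻¹ * u⁻¹ * t * (t⁻¹ * v⁻¹) = b
      have e4 : b = (v * u * t)⁻¹ := by rw [← e, inv_inv]
      rw [e4]
      group

omit [Fintype I] [DecidableEq I] R in
theorem card_dsub_mul (B : Subgroup Y) {a b : Y} (ha : a ∈ B) (hb : b ∈ B) (k : Y) :
    Nat.card (dsub B (a * k * b)) = Nat.card (dsub B k) := by
  refine Nat.card_congr ⟨fun t => ⟨⟨a⁻¹ * ((t : B) : Y) * a, mul_mem (mul_mem (inv_mem ha) (t : B).2) ha⟩, ?_⟩,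
    fun t => ⟨⟨a * ((t : B) : Y) * a⁻¹, mul_mem (mul_mem ha (t : B).2) (inv_mem ha)⟩, ?_⟩, ?_, ?_⟩
  · rw [mem_dsub]
    have h1 := (mem_dsub B _ t).1 t.2
    have e : k⁻¹ * (a⁻¹ * ((t : B) : Y) * a) * k = b * ((a * k * b)⁻¹ * ((t : B) : Y) * (a * k * b)) * b⁻¹ := by group
    change k⁻¹ * (a⁻¹ * ((t : B) : Y) * a) * k ∈ B
    rw [e]
    exact mul_mem (mul_mem hb h1) (inv_mem hb)
  · rw [mem_dsub]
    have h1 := (mem_dsub B _ t).1 t.2
    have e : (a * k * b)⁻¹ * (a * ((t : B) : Y) * a⁻¹) * (a * k * b) = b⁻¹ * (k⁻¹ * ((t : B) : Y) * k) * b := by group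
    change (a * k * b)⁻¹ * (a * ((t : B) : Y) * a⁻¹) * (a * k * b) ∈ B
    rw [e]
    exact mul_mem (mul_mem (inv_mem hb) h1) hb
  · intro t
    apply Subtype.ext
    apply Subtype.ext
    change a * (a⁻¹ * ((t : B) : Y) * a) * a⁻¹ = _
    group
  · intro t
    apply Subtype.ext
    apply Subtype.ext
    change a⁻¹ * (a * ((t : B) : Y) * a⁻¹) * a = _
    group

theorem card_dsub_PJ [Finite W] [Finite Y] (i : I) {x : Y} (hx : x ∈ PJ cs h T X {i}) (hxB : x ∉ RGD.B cs h T X) :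
    Nat.card (X (sr i)) * Nat.card (dsub (RGD.B cs h T X) x) = Nat.card (RGD.B cs h T X) := by
  obtain ⟨w, hw, hc⟩ := (mem_PJ_iff_cell R).1 hx
  rcases mem_WJ_single cs hw with rfl | rfl
  · exact absurd hc.mem_of_one hxB
  · obtain ⟨b₁, hb₁, k, hk, b₂, hb₂, rfl⟩ := hc
    rw [card_dsub_mul _ hb₁ hb₂]
    exact card_dsub R hk

theorem card_PJ [Finite W] [Finite Y] (i : I) :
    Nat.card (PJ cs h T X {i}) = (Nat.card (X (sr i)) + 1) * Nat.card (RGD.B cs h T X) := by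
  have h1 := Cfsg.Agent.H554.RG.relIndex_B_PJ_singleton R i
  rw [← h1, mul_comm]
  have h2 := Subgroup.relIndex_mul_relIndex ⊥ _ _ bot_le (B_le_PJ (cs := cs) (h := h) (T := T) (X := X) (J := {i}))
  rw [Subgroup.relIndex_bot_left, Subgroup.relIndex_bot_left] at h2
  exact h2.symm

/-- **Extension of linear characters of `T`** to the minimal parabolic subgroup. -/
theorem exists_ext_PJ [Finite W] (i : I) (θ : T →* ℂˣ)
    (hθ : ∀ (t : Y) (ht : t ∈ T), t ∈ MJ cs h X {i} → θ ⟨t, ht⟩ = 1) :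
    ∃ f : ↥(PJ cs h T X {i}) →* ℂˣ, (∀ (t : Y) (ht : t ∈ T), f ⟨t, T_le_PJ _ ht⟩ = θ ⟨t, ht⟩) ∧
      (∀ (m : Y) (hm : m ∈ MJ cs h X {i}), f ⟨m, LJ_le_PJ (MJ_le_LJ _ hm)⟩ = 1) ∧
      ∀ (v : Y) (hv : v ∈ VJ cs h X {i}), f ⟨v, VJ_le_PJ hv⟩ = 1 := by
  obtain ⟨π, hπ1, hπ2⟩ := exists_projL R ({i} : Set I)
  let N := (MJ cs h X {i}).subgroupOf (LJ cs h T X {i})
  have hN : N.Normal := (Subgroup.normal_subgroupOf_iff_le_normalizer (MJ_le_LJ _)).2 (LJ_le_normalizer_MJ R _)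
  let g : T →* ↥(LJ cs h T X {i}) ⧸ N := (QuotientGroup.mk' N).comp (Subgroup.inclusion T_le_LJ)
  have hsurj : Function.Surjective g := by
    intro q
    obtain ⟨⟨l, hl⟩, rfl⟩ := QuotientGroup.mk'_surjective N q
    obtain ⟨t, ht, m, hm, rfl⟩ := (mem_LJ_iff_mul R _).1 hl
    refine ⟨⟨t, ht⟩, ?_⟩
    refine (QuotientGroup.eq (s := N)).2 ?_
    rw [Subgroup.mem_subgroupOf]
    have e : ((((Subgroup.inclusion (T_le_LJ (cs := cs) (h := h) (T := T) (X := X) (J := {i})) ⟨t, ht⟩)⁻¹ *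
      ⟨t * m, hl⟩ : ↥(LJ cs h T X {i}))) : Y) = m := by
      change t⁻¹ * (t * m) = m
      group
    rw [e]
    exact hm
  have hker : g.ker ≤ θ.ker := by
    rintro ⟨t, ht⟩ h1
    rw [MonoidHom.mem_ker] at h1 ⊢
    refine hθ t ht ?_
    have h2 := (QuotientGroup.eq_one_iff _).1 h1
    rw [Subgroup.mem_subgroupOf] at h2
    exact h2
  let e := QuotientGroup.quotientKerEquivOfSurjective g hsurj
  let θ' : T ⧸ g.ker →* ℂˣ := QuotientGroup.lift g.ker θ hker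
  let fL : ↥(LJ cs h T X {i}) →* ℂˣ := θ'.comp (e.symm.toMonoidHom.comp (QuotientGroup.mk' N))
  have hfT : ∀ (t : Y) (ht : t ∈ T), fL ⟨t, T_le_LJ ht⟩ = θ ⟨t, ht⟩ := by
    intro t ht
    have h1 : e.symm (QuotientGroup.mk' N ⟨t, T_le_LJ ht⟩) = QuotientGroup.mk (⟨t, ht⟩ : T) := by
      rw [MulEquiv.symm_apply_eq]
      rfl
    change θ' (e.symm (QuotientGroup.mk' N ⟨t, T_le_LJ ht⟩)) = _
    rw [h1]
    rfl
  have hfM : ∀ (m : Y) (hm : m ∈ MJ cs h X {i}), fL ⟨m, MJ_le_LJ _ hm⟩ = 1 := by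
    intro m hm
    have h1 : QuotientGroup.mk' N ⟨m, MJ_le_LJ _ hm⟩ = 1 := by
      refine (QuotientGroup.eq_one_iff _).2 ?_
      rw [Subgroup.mem_subgroupOf]
      exact hm
    change θ' (e.symm (QuotientGroup.mk' N ⟨m, MJ_le_LJ _ hm⟩)) = 1
    rw [h1, map_one, map_one]
  refine ⟨fL.comp π, fun t ht => ?_, fun m hm => ?_, fun v hv => ?_⟩
  · rw [MonoidHom.comp_apply, hπ1 t (T_le_LJ ht), hfT]
  · rw [MonoidHom.comp_apply, hπ1 m (MJ_le_LJ _ hm), hfM m hm]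
  · rw [MonoidHom.comp_apply, hπ2 v hv, map_one]


section lin

variable {θ : T →* ℂˣ} {d : I} {y : I → ℤ}

omit [Fintype I] [DecidableEq I] R in
open Classical in
/-- extension of a function on `T` by one -/
noncomputable def th (θ : T →* ℂˣ) (t : Y) : ℂˣ := if ht : t ∈ T then θ ⟨t, ht⟩ else 1

omit [Fintype I] [DecidableEq I] R in
theorem th_of (θ : T →* ℂˣ) {t : Y} (ht : t ∈ T) : th θ t = θ ⟨t, ht⟩ := by
  unfold th
  rw [dif_pos ht]

omit [Fintype I] [DecidableEq I] R in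
theorem th_mul (θ : T →* ℂˣ) {s t : Y} (hs : s ∈ T) (ht : t ∈ T) : th θ (s * t) = th θ s * th θ t := by
  rw [th_of θ (mul_mem hs ht), th_of θ hs, th_of θ ht, ← map_mul]
  rfl

omit [Fintype I] [DecidableEq I] R in
theorem th_inv (θ : T →* ℂˣ) {t : Y} (ht : t ∈ T) : th θ t⁻¹ = (th θ t)⁻¹ := by
  rw [th_of θ (inv_mem ht), th_of θ ht, ← map_inv]
  rfl

/-- two representatives conjugate `T` in the same way -/
theorem conj_eq (hTc : ∀ a ∈ T, ∀ b ∈ T, a * b = b * a) {w : W} {g k : Y} (hg : Rp cs R.nsys w g)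
    (hk : Rp cs R.nsys w k) {t : Y} (ht : t ∈ T) : g⁻¹ * t * g = k⁻¹ * t * k := by
  have h1 : k⁻¹ * g ∈ T := hk.unique hg
  have h2 := hTc _ (conj_T R hk ht) _ h1
  calc g⁻¹ * t * g = (k⁻¹ * g)⁻¹ * ((k⁻¹ * t * k) * (k⁻¹ * g)) := by group
    _ = (k⁻¹ * g)⁻¹ * ((k⁻¹ * g) * (k⁻¹ * t * k)) := by rw [h2]
    _ = _ := by group

omit [Fintype I] [DecidableEq I] R in
theorem th_eq_one_iff (hθ : ∀ t (ht : t ∈ T), θ ⟨t, ht⟩ = 1 ↔ ∀ v ∈ X y, t * v = v * t) {t : Y} (ht : t ∈ T) :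
    th θ t = 1 ↔ ∀ v ∈ X y, t * v = v * t := by
  rw [th_of θ ht]
  exact hθ t ht

/-- `θ` is invariant under the simple reflection of `d` -/
theorem th_conj_mem (hTc : ∀ a ∈ T, ∀ b ∈ T, a * b = b * a) (hy : IsRoot cs h y)
    (hθ : ∀ t (ht : t ∈ T), θ ⟨t, ht⟩ = 1 ↔ ∀ v ∈ X y, t * v = v * t)
    (hC : ∀ m ∈ MJ cs h X {d}, ∀ v ∈ X y, m * v = v * m) {w : W} (hw : w ∈ WJ cs {d}) {g : Y}
    (hg : Rp cs R.nsys w g) {t : Y} (ht : t ∈ T) : th θ (g⁻¹ * t * g) = th θ t := by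
  rcases mem_WJ_single cs hw with rfl | rfl
  · have hgT : g ∈ T := hg.mem_of_one
    have e : g⁻¹ * t * g = t := by
      rw [mul_assoc, hTc t ht g hgT]
      group
    rw [e]
  · obtain ⟨k, hk, hkr⟩ := exists_rp_mem R d
    rw [conj_eq R hTc hg hkr ht]
    have hkT := conj_T R hkr ht
    have h1 : th θ (t⁻¹ * (k⁻¹ * t * k)) = 1 := by
      rw [th_eq_one_iff hθ (mul_mem (inv_mem ht) hkT)]
      intro v hv
      have h2 : t * v * t⁻¹ ∈ X y := by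
        have := conj_mem_cj (g := t) |>.2 hv
        rwa [R.tor _ hy t ht] at this
      have h3 := hC k hk _ hv
      have h4 := hC k hk _ h2
      calc t⁻¹ * (k⁻¹ * t * k) * v = t⁻¹ * k⁻¹ * t * (k * v) := by group
        _ = t⁻¹ * k⁻¹ * t * (v * k) := by rw [h3]
        _ = t⁻¹ * k⁻¹ * ((t * v * t⁻¹) * k) * k⁻¹ * t * k := by group
        _ = t⁻¹ * k⁻¹ * (k * (t * v * t⁻¹)) * k⁻¹ * t * k := by rw [h4]
        _ = v * (t⁻¹ * (k⁻¹ * t * k)) := by group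
    rw [th_mul θ (inv_mem ht) hkT, th_inv θ ht, inv_mul_eq_one] at h1
    exact h1.symm

/-- an element of `T` centralising `X y` but not `X (w y)` -/
theorem th_conj_ne (hy : IsRoot cs h y) (hθ : ∀ t (ht : t ∈ T), θ ⟨t, ht⟩ = 1 ↔ ∀ v ∈ X y, t * v = v * t)
    {w : W} {g : Y} (hg : Rp cs R.nsys w g) {t : Y} (ht : t ∈ T) (h0 : ∀ v ∈ X y, t * v = v * t)
    (h1 : ∃ v ∈ X (rep cs h w y), t * v ≠ v * t) : th θ (g⁻¹ * t * g) ≠ th θ t := by
  rw [(th_eq_one_iff hθ ht).2 h0]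
  intro h2
  rw [th_eq_one_iff hθ (conj_T R hg ht)] at h2
  obtain ⟨v, hv, hne⟩ := h1
  apply hne
  have h3 : g⁻¹ * v * g ∈ X y := by
    have := R.conj_mem' hg (hy.act w) hv
    rwa [rep_inv_apply] at this
  have h4 := h2 _ h3
  calc t * v = g * (g⁻¹ * t * g * (g⁻¹ * v * g)) * g⁻¹ := by group
    _ = g * (g⁻¹ * v * g * (g⁻¹ * t * g)) * g⁻¹ := by rw [h4]
    _ = v * t := by group

/-- the reflection `s_e s_d s_e s_d s_e` -/
theorem th_conj_inv (hTc : ∀ a ∈ T, ∀ b ∈ T, a * b = b * a) (hy : IsRoot cs h y)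
    (hθ : ∀ t (ht : t ∈ T), θ ⟨t, ht⟩ = 1 ↔ ∀ v ∈ X y, t * v = v * t)
    (hC : ∀ m ∈ MJ cs h X {d}, ∀ v ∈ X y, m * v = v * m) {e : I} {a : Y} (ha : a ∈ T)
    (hinv : (n e)⁻¹ * a * n e = a⁻¹)
    (hac : ∀ u ∈ X (rep cs h (cs.simple d * cs.simple e) (sr d)), a * u = u * a)
    (hac' : ∀ u ∈ X (-rep cs h (cs.simple d * cs.simple e) (sr d)), a * u = u * a) {g : Y}
    (hg : Rp cs R.nsys (cs.simple e * cs.simple d * cs.simple e * cs.simple d * cs.simple e) g) :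
    th θ (g⁻¹ * a * g) = (th θ a)⁻¹ := by
  obtain ⟨k, hk, hkr⟩ := exists_rp_mem R d
  have hm : Rp cs R.nsys (cs.simple d * cs.simple e) (n d * n e) :=
    (rp_simple cs R.nsys d).mul (rp_simple cs R.nsys e)
  set m := n d * n e with hm0
  -- `a` commutes with the conjugate of `⟨X_d, X_{-d}⟩`
  have h1 : a * (m * k * m⁻¹) = m * k * m⁻¹ * a := by
    have h2 : MJ cs h X {d} ≤ Subgroup.centralizer {m⁻¹ * a * m} := by
      rw [MJ_single]
      refine sup_le ?_ ?_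
      · intro u hu
        rw [Subgroup.mem_centralizer_singleton_iff]
        have h3 := hac _ (R.conj_mem hm (isRoot_sr cs h d) hu)
        calc u * (m⁻¹ * a * m) = m⁻¹ * ((m * u * m⁻¹) * a) * m := by group
          _ = m⁻¹ * (a * (m * u * m⁻¹)) * m := by rw [h3]
          _ = m⁻¹ * a * m * u := by group
      · intro u hu
        rw [Subgroup.mem_centralizer_singleton_iff]
        have h4 := R.conj_mem hm (isRoot_sr cs h d).neg hu
        rw [map_neg] at h4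
        have h3 := hac' _ h4
        calc u * (m⁻¹ * a * m) = m⁻¹ * ((m * u * m⁻¹) * a) * m := by group
          _ = m⁻¹ * (a * (m * u * m⁻¹)) * m := by rw [h3]
          _ = m⁻¹ * a * m * u := by group
    have h3 := Subgroup.mem_centralizer_singleton_iff.1 (h2 hk)
    calc a * (m * k * m⁻¹) = m * ((m⁻¹ * a * m) * k) * m⁻¹ := by group
      _ = m * (k * (m⁻¹ * a * m)) * m⁻¹ := by rw [h3]
      _ = m * k * m⁻¹ * a := by group
  have hg1 : Rp cs R.nsys (cs.simple e * cs.simple d * cs.simple e * cs.simple d * cs.simple e)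
      (n e * (m * k * m⁻¹) * n d) := by
    have h2 := (((rp_simple cs R.nsys e).mul ((hm.mul hkr).mul hm.inv)).mul (rp_simple cs R.nsys d))
    have e1 : cs.simple e * (cs.simple d * cs.simple e * cs.simple d * (cs.simple d * cs.simple e)⁻¹) * cs.simple d =
        cs.simple e * cs.simple d * cs.simple e * cs.simple d * cs.simple e := by
      rw [mul_inv_rev, cs.inv_simple, cs.inv_simple]
      simp only [mul_assoc, cs.simple_mul_simple_self, mul_one]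
    rwa [e1] at h2
  rw [conj_eq R hTc hg hg1 ha]
  have h2 : (n e * (m * k * m⁻¹) * n d)⁻¹ * a * (n e * (m * k * m⁻¹) * n d) = (n d)⁻¹ * a⁻¹ * n d := by
    have h3 : (m * k * m⁻¹)⁻¹ * a⁻¹ * (m * k * m⁻¹) = a⁻¹ := by
      have h4 : a⁻¹ * (m * k * m⁻¹) = m * k * m⁻¹ * a⁻¹ := by
        have : Commute a (m * k * m⁻¹) := h1
        exact this.inv_left
      rw [mul_assoc, h4]
      group
    calc (n e * (m * k * m⁻¹) * n d)⁻¹ * a * (n e * (m * k * m⁻¹) * n d) =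
          (n d)⁻¹ * ((m * k * m⁻¹)⁻¹ * ((n e)⁻¹ * a * n e) * (m * k * m⁻¹)) * n d := by group
      _ = _ := by rw [hinv, h3]
  rw [h2, th_conj_mem R hTc hy hθ hC (w := cs.simple d) ?_ (rp_simple cs R.nsys d) (inv_mem ha), th_inv θ ha]
  exact Subgroup.subset_closure ⟨d, rfl, rfl⟩

/-- **The stabiliser of `θ`.** -/
theorem exists_ne (hTc : ∀ a ∈ T, ∀ b ∈ T, a * b = b * a) (hy : IsRoot cs h y)
    (hθ : ∀ t (ht : t ∈ T), θ ⟨t, ht⟩ = 1 ↔ ∀ v ∈ X y, t * v = v * t)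
    (hC : ∀ m ∈ MJ cs h X {d}, ∀ v ∈ X y, m * v = v * m) {e : I} (hI : ∀ k : I, k = d ∨ k = e)
    (hM : M d e = 6) (hye : y = rep cs h (cs.simple e * cs.simple d) (sr e))
    {t₀ : Y} (ht₀ : t₀ ∈ T) (h0 : ∀ v ∈ X y, t₀ * v = v * t₀)
    (h1 : ∃ v ∈ X (rep cs h (cs.simple d) (sr e)), t₀ * v ≠ v * t₀) (h2 : ∃ v ∈ X (-sr e), t₀ * v ≠ v * t₀)
    {a : Y} (ha : a ∈ T) (hinv : (n e)⁻¹ * a * n e = a⁻¹)
    (hac : ∀ u ∈ X (rep cs h (cs.simple d * cs.simple e) (sr d)), a * u = u * a)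
    (hac' : ∀ u ∈ X (-rep cs h (cs.simple d * cs.simple e) (sr d)), a * u = u * a)
    (ha2 : ∃ v ∈ X y, a * a * v ≠ v * (a * a)) {w : W} (hw : w ∉ WJ cs {d}) {g : Y} (hg : Rp cs R.nsys w g) :
    ∃ t ∈ T, th θ (g⁻¹ * t * g) ≠ th θ t := by
  obtain ⟨α, hα, β, hβ, r, hr, rfl⟩ := exists_dc cs hI hM w
  -- the three double cosets
  have key : ∀ k, Rp cs R.nsys r k → ∃ t ∈ T, th θ (k⁻¹ * t * k) ≠ th θ t := by
    intro k hk
    rcases hr with rfl | rfl | rfl | rfl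
    · exact absurd (mul_mem (mul_mem hα (one_mem _)) hβ) hw
    · refine ⟨t₀, ht₀, th_conj_ne R hy hθ hk ht₀ h0 ?_⟩
      have e1 : rep cs h (cs.simple e) y = rep cs h (cs.simple d) (sr e) := by
        rw [hye, ← rep_mul_apply, ← mul_assoc, cs.simple_mul_simple_self, one_mul]
      rwa [e1]
    · refine ⟨t₀, ht₀, th_conj_ne R hy hθ hk ht₀ h0 ?_⟩
      have e1 : rep cs h (cs.simple e * cs.simple d * cs.simple e) y = -sr e := by
        rw [hye, ← rep_mul_apply, ← rep_simple_sr (cs := cs) (h := h) e]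
        congr 2
        simp only [mul_assoc, cs.simple_mul_simple_cancel_left, cs.simple_mul_simple_self, mul_one]
      rwa [e1]
    · refine ⟨a, ha, ?_⟩
      rw [th_conj_inv R hTc hy hθ hC ha hinv hac hac' hk]
      intro h3
      have h4 : th θ (a * a) = 1 := by
        rw [th_mul θ ha ha]
        nth_rw 1 [← h3]
        exact inv_mul_cancel _
      rw [th_eq_one_iff hθ (mul_mem ha ha)] at h4
      obtain ⟨v, hv, hne⟩ := ha2
      exact hne (h4 v hv)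
  obtain ⟨kα, hkα⟩ := exists_rp cs R.nsys α
  obtain ⟨kβ, hkβ⟩ := exists_rp cs R.nsys β
  obtain ⟨kr, hkr⟩ := exists_rp cs R.nsys r
  obtain ⟨s, hs, hne⟩ := key kr hkr
  refine ⟨kα * s * kα⁻¹, conj_T' R hkα hs, ?_⟩
  rw [conj_eq R hTc hg ((hkα.mul hkr).mul hkβ) (conj_T' R hkα hs)]
  have e1 : (kα * kr * kβ)⁻¹ * (kα * s * kα⁻¹) * (kα * kr * kβ) = kβ⁻¹ * (kr⁻¹ * s * kr) * kβ := by group
  have e2 : th θ (kα * s * kα⁻¹) = th θ s := by
    have := th_conj_mem R hTc hy hθ hC (inv_mem hα) hkα.inv hs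
    rwa [inv_inv] at this
  rw [e1, th_conj_mem R hTc hy hθ hC hβ hkβ (conj_T R hkr hs), e2]
  exact hne

/-- **The characters of the degrees `|G : P_d|` and `|G : P_d| |X_d|`.** -/
theorem exists_E [Finite W] [Finite Y] (hG : GG cs h T X = ⊤) (hTc : ∀ a ∈ T, ∀ b ∈ T, a * b = b * a)
    (hy : IsRoot cs h y) (hθ : ∀ t (ht : t ∈ T), θ ⟨t, ht⟩ = 1 ↔ ∀ v ∈ X y, t * v = v * t)
    (hC : ∀ m ∈ MJ cs h X {d}, ∀ v ∈ X y, m * v = v * m) {e : I} (hI : ∀ k : I, k = d ∨ k = e)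
    (hM : M d e = 6) (hye : y = rep cs h (cs.simple e * cs.simple d) (sr e))
    {t₀ : Y} (ht₀ : t₀ ∈ T) (h0 : ∀ v ∈ X y, t₀ * v = v * t₀)
    (h1 : ∃ v ∈ X (rep cs h (cs.simple d) (sr e)), t₀ * v ≠ v * t₀) (h2 : ∃ v ∈ X (-sr e), t₀ * v ≠ v * t₀)
    {a : Y} (ha : a ∈ T) (hinv : (n e)⁻¹ * a * n e = a⁻¹)
    (hac : ∀ u ∈ X (rep cs h (cs.simple d * cs.simple e) (sr d)), a * u = u * a)
    (hac' : ∀ u ∈ X (-rep cs h (cs.simple d * cs.simple e) (sr d)), a * u = u * a)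
    (ha2 : ∃ v ∈ X y, a * a * v ≠ v * (a * a)) :
    ∃ χ₁ χ₂ : IrrCharacter Y, charDegree (χ₁ : Y → ℂ) = (PJ cs h T X {d}).index ∧
      charDegree (χ₂ : Y → ℂ) = (PJ cs h T X {d}).index * Nat.card (X (sr d)) := by
  classical
  have := Fintype.ofFinite Y
  obtain ⟨f, hfT, -, -⟩ := exists_ext_PJ R d θ (fun t ht htM => (hθ t ht).2 fun v hv => hC t htM v hv)
  have hfT' : ∀ (t : Y) (ht : t ∈ T), f ⟨t, T_le_PJ _ ht⟩ = th θ t := by
    intro t ht
    rw [hfT t ht, th_of θ ht]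
  refine exists_two (RGD.B cs h T X) (PJ cs h T X {d}) B_le_PJ f ?_ Nat.card_pos
    (fun x hx hxB => card_dsub_PJ R d hx hxB) (card_PJ R d)
  intro x hx
  obtain ⟨w, hc⟩ := (mem_GG R).1 (show x ∈ GG cs h T X by rw [hG]; exact Subgroup.mem_top x)
  have hw : w ∉ WJ cs {d} := fun hw => hx ((cell_mem_PJ_iff R hc).2 hw)
  obtain ⟨b₁, hb₁, g, hg, b₂, hb₂, rfl⟩ := hc
  obtain ⟨t, ht, hne⟩ := exists_ne R hTc hy hθ hC hI hM hye ht₀ h0 h1 h2 ha hinv hac hac' ha2 hw hg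
  have hgt := conj_T R hg ht
  have e1 : (b₁ * g * b₂)⁻¹ * (b₁ * t * b₁⁻¹) * (b₁ * g * b₂) = b₂⁻¹ * (g⁻¹ * t * g) * b₂ := by group
  have hB1 : b₁ * t * b₁⁻¹ ∈ RGD.B cs h T X := mul_mem (mul_mem hb₁ (RGD.T_le_B ht)) (inv_mem hb₁)
  have hB2 : b₂⁻¹ * (g⁻¹ * t * g) * b₂ ∈ RGD.B cs h T X := mul_mem (mul_mem (inv_mem hb₂) (RGD.T_le_B hgt)) hb₂
  refine ⟨⟨b₁ * t * b₁⁻¹, hB1⟩, by rw [e1]; exact hB2, ?_⟩
  have hcomm : ∀ (b s : Y) (hb : b ∈ RGD.B cs h T X) (hs : s ∈ RGD.B cs h T X) (hbs : b * s * b⁻¹ ∈ PJ cs h T X {d}),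
      f ⟨b * s * b⁻¹, hbs⟩ = f ⟨s, B_le_PJ hs⟩ := by
    intro b s hb hs hbs
    have e2 : (⟨b * s * b⁻¹, hbs⟩ : ↥(PJ cs h T X {d})) = ⟨b, B_le_PJ hb⟩ * ⟨s, B_le_PJ hs⟩ * ⟨b, B_le_PJ hb⟩⁻¹ :=
      Subtype.ext rfl
    rw [e2, map_mul, map_mul, map_inv, mul_comm (f ⟨b, B_le_PJ hb⟩), mul_assoc, mul_inv_cancel, mul_one]
  rw [hcomm b₁ t hb₁ (RGD.T_le_B ht)]
  have e3 : (⟨(b₁ * g * b₂)⁻¹ * (b₁ * t * b₁⁻¹) * (b₁ * g * b₂), B_le_PJ (by rw [e1]; exact hB2)⟩ :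
      ↥(PJ cs h T X {d})) = ⟨b₂⁻¹ * (g⁻¹ * t * g) * (b₂⁻¹)⁻¹, B_le_PJ (by rw [inv_inv]; exact hB2)⟩ :=
    Subtype.ext (by
      change (b₁ * g * b₂)⁻¹ * (b₁ * t * b₁⁻¹) * (b₁ * g * b₂) = b₂⁻¹ * (g⁻¹ * t * g) * (b₂⁻¹)⁻¹
      rw [e1, inv_inv])
  have e4 := hcomm b₂⁻¹ (g⁻¹ * t * g) (inv_mem hb₂) (RGD.T_le_B hgt) (B_le_PJ (by rw [inv_inv]; exact hB2))
  intro h3
  apply hne
  have h4 : f ⟨t, T_le_PJ _ ht⟩ = f ⟨g⁻¹ * t * g, T_le_PJ _ hgt⟩ := by
    refine h3.trans ?_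
    refine Eq.trans ?_ e4
    exact congrArg f e3
  rw [hfT' t ht, hfT' _ hgt] at h4
  exact h4.symm

end lin

end Cfsg.Agent.H115.HC.Two
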