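import Cfsg.Agent.H115.HC.TwoLin
import Cfsg.Agent.H115.HC.RankTwo
import Cfsg.Agent.H597.Base
import Cfsg.Agent.CharactersDeep.ExtUnique
import Cfsg.Agent.H40.GGRgd

/-!
# Root group data of type `G₂`: two degrees divisible by an odd prime divisor `ℓ` of `q - 1` (helper115)

`ψ` a cuspidal irreducible character of `L = LJ {i}` with trivial central character on `CT i`.  The Harish-Chandra
induced character `R(ψ)` is reducible, its constituents have no `U`-fixed vectors; for a suitable linear character `λ`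
of `L` the character `R(λψ)` is irreducible.
-/

set_option autoImplicit false

open scoped ComplexConjugate
open Cfsg

namespace Cfsg.Agent.H115.HC.Two

open CoxeterSystem Cfsg.Agent.ChevalleyStructure.CoxeterGeom Cfsg.Agent.Tits.Roots Cfsg.Agent.Tits.Core
  Cfsg.Agent.Tits.Exchange Cfsg.Agent.Nodes.Reps Cfsg.Agent.Nodes.BNOf Cfsg.Agent.Nodes.StabComb
  Cfsg.Agent.Nodes.Bruhat Cfsg.Agent.Nodes.OppDec Cfsg.Agent.Nodes.LeviDec Cfsg.Agent.H53.HC
  Cfsg.Agent.LieRecognition.RankOneAbstract Cfsg.Agent.Characters Cfsg.Agent.OddOrderCharacters.Clifford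
  Cfsg.Agent.Characters.Core

variable {I W Y : Type*} [Fintype I] [DecidableEq I] [Group W] [Group Y] {M : CoxeterMatrix I}
  {cs : CoxeterSystem M W} {A : I → I → ℤ} {h : IsCartan M A} {p : ℕ} {T : Subgroup Y} {n : I → Y}
  {X : (I → ℤ) → Subgroup Y}

/-- a sum over a subgroup vanishes if it vanishes over a smaller one -/
theorem sum_eq_zero_of_sub {G : Type*} [Group G] [Finite G] (K : Subgroup G) [Fintype K] {α : K → ℂ}
    (hα : IsCharacter K α) (Z : Subgroup G) (hZ : Z ≤ K)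
    (h : ∀ [Fintype Z], ∑ z : Z, α ⟨z, hZ z.2⟩ = 0) : ∑ k : K, α k = 0 := by
  classical
  have : Fintype Z := Fintype.ofFinite Z
  have h1 : classInner α 1 = 0 := by
    refine classInner_eq_zero_of_comp (Subgroup.inclusion hZ) hα isCharacter_one ?_
    rw [classInner_def]
    have h2 : ∑ z : Z, (α ∘ Subgroup.inclusion hZ) z * conj (((1 : K → ℂ) ∘ Subgroup.inclusion hZ) z) = 0 := by
      rw [← h]
      refine Finset.sum_congr rfl fun z _ => ?_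
      change α ⟨z, hZ z.2⟩ * conj (1 : ℂ) = _
      rw [map_one, mul_one]
    rw [h2, mul_zero]
  rw [classInner_def, mul_eq_zero] at h1
  rcases h1 with h1 | h1
  · exact absurd (inv_eq_zero.1 h1) card_ne_zero_complex
  · rw [← h1]
    refine Finset.sum_congr rfl fun k _ => ?_
    change _ = α k * conj (1 : ℂ)
    rw [map_one, mul_one]

theorem eq_zero_of_one {G : Type*} [Group G] {η : G → ℂ} (hη : IsCharacter G η) (h : η 1 = 0) : η = 0 := by
  obtain ⟨k, ρ, rfl⟩ := isCharacter_def.1 hη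
  have h1 : k = 0 := by
    rw [Representation.char_one] at h
    simpa using h
  subst h1
  funext g
  have h2 : ρ g = 0 := Subsingleton.elim _ _
  change LinearMap.trace ℂ _ (ρ g) = 0
  rw [h2, map_zero]

/-- a reducible character has a constituent of smaller degree -/
theorem exists_lt {G : Type*} [Group G] [Fintype G] {Θ : G → ℂ} (hΘ : IsCharacter G Θ) (h0 : Θ 1 ≠ 0)
    (h1 : classInner Θ Θ ≠ 1) :
    ∃ χ η : G → ℂ, IsIrrCharacter G χ ∧ IsCharacter G η ∧ Θ = χ + η ∧ η 1 ≠ 0 := by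
  obtain ⟨χ, hχ, h2, -⟩ := exists_common hΘ hΘ (by
    intro h3
    have h4 := classInner_self_eq_zero h3
    rw [h4] at h0
    exact h0 rfl)
  refine ⟨χ, Θ - χ, hχ, isCharacter_sub_irr hΘ hχ h2, by abel, fun h3 => ?_⟩
  have h4 := eq_zero_of_one (isCharacter_sub_irr hΘ hχ h2) h3
  have h5 : Θ = χ := sub_eq_zero.1 h4
  apply h1
  rw [h5]
  exact classInner_irr_self hχ

/-- the constituents of a character without fixed vectors have no fixed vectors -/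
theorem sum_eq_zero_of_add {G : Type*} [Group G] (U : Subgroup G) [Fintype U] {χ η : G → ℂ}
    (hχ : IsCharacter G χ) (hη : IsCharacter G η) (h : ∑ u : U, (χ + η) u = 0) : ∑ u : U, χ u = 0 := by
  classical
  obtain ⟨a, ha⟩ := classInner_isNat (isCharacter_comp U.subtype hχ) isCharacter_one
  obtain ⟨b, hb⟩ := classInner_isNat (isCharacter_comp U.subtype hη) isCharacter_one
  rw [classInner_def] at ha hb
  have hU : (Nat.card U : ℂ) ≠ 0 := card_ne_zero_complex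
  have e1 : ∑ u : U, (χ ∘ U.subtype) u * conj ((1 : U → ℂ) u) = ∑ u : U, χ u :=
    Finset.sum_congr rfl fun u _ => by
      change χ u * conj (1 : ℂ) = χ u
      rw [map_one, mul_one]
  have e2 : ∑ u : U, (η ∘ U.subtype) u * conj ((1 : U → ℂ) u) = ∑ u : U, η u :=
    Finset.sum_congr rfl fun u _ => by
      change η u * conj (1 : ℂ) = η u
      rw [map_one, mul_one]
  rw [e1] at ha
  rw [e2] at hb
  have h1 : ((a + b : ℕ) : ℂ) = 0 := by
    push_cast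
    rw [← ha, ← hb, ← mul_add, ← Finset.sum_add_distrib]
    have h2 : ∑ u : U, (χ u + η u) = 0 := h
    rw [h2, mul_zero]
  have h2 : a + b = 0 := by exact_mod_cast h1
  have h3 : a = 0 := by omega
  rw [h3, Nat.cast_zero] at ha
  exact (mul_eq_zero.1 ha).resolve_left (inv_ne_zero hU)

variable (R : RGD cs h p T n X)

include R

/-- the sum over `U` of the conjugates of a cuspidal character -/
theorem sum_ext_eq_zero [Finite W] [Finite Y] (i : I) [Fintype (RGD.Sup X (RGD.Pos cs h))]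
    {ψ : ↥(PJ cs h T X {i}) → ℂ} (hψ : IsCharacter _ ψ)
    (hc : ∀ [Fintype (X (sr i))], ∑ u : X (sr i), ψ ⟨u, LJ_le_PJ (X_le_LJ_single i u.2)⟩ = 0)
    {w : W} {g : Y} (hg : Rp cs R.nsys w g) (hw : 0 ≤ rep cs h w (sr i)) :
    ∑ u : RGD.Sup X (RGD.Pos cs h), extendByZero (PJ cs h T X {i}) ψ (g⁻¹ * u * g) = 0 := by
  classical
  let U := RGD.Sup X (RGD.Pos cs h)
  let K : Subgroup U := (PJ cs h T X {i}).comap ((MulAut.conj g⁻¹).toMonoidHom.comp U.subtype)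
  have hK : ∀ u : U, u ∈ K ↔ g⁻¹ * (u : Y) * g ∈ PJ cs h T X {i} := by
    intro u
    change (PJ cs h T X {i} : Set Y) _ ↔ _
    have : ((MulAut.conj g⁻¹).toMonoidHom.comp U.subtype) u = g⁻¹ * (u : Y) * g := by
      simp
    rw [this]
    exact Iff.rfl
  have : Fintype K := Fintype.ofFinite K
  rw [sum_eq_sum_subgroup K _ (fun u hu => by
    rw [ext_apply_not_mem]
    exact fun h => hu ((hK u).2 h))]
  let j : K →* ↥(PJ cs h T X {i}) :=
    { toFun := fun u => ⟨g⁻¹ * ((u : U) : Y) * g, (hK u).1 u.2⟩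
      map_one' := Subtype.ext (by simp)
      map_mul' := fun a b => Subtype.ext (by
        change g⁻¹ * (((a : U) : Y) * ((b : U) : Y)) * g = (g⁻¹ * ((a : U) : Y) * g) * (g⁻¹ * ((b : U) : Y) * g)
        group) }
  have h1 : ∀ u : K, extendByZero (PJ cs h T X {i}) ψ (g⁻¹ * ((u : U) : Y) * g) = (ψ ∘ j) u := by
    intro u
    rw [ext_apply_mem _ _ _ ((hK u).1 u.2)]
    rfl
  rw [Finset.sum_congr rfl fun u _ => h1 u]
  -- the root group
  have hroot : IsRoot cs h (rep cs h w (sr i)) := (isRoot_sr cs h i).act w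
  have hXU : X (rep cs h w (sr i)) ≤ U := RGD.le_Sup (S := RGD.Pos cs h) ⟨hroot, hw⟩
  let Z : Subgroup U := (X (rep cs h w (sr i))).subgroupOf U
  have hback : ∀ v ∈ X (rep cs h w (sr i)), g⁻¹ * v * g ∈ X (sr i) := by
    intro v hv
    have := R.conj_mem' hg hroot hv
    rwa [rep_inv_apply] at this
  have hZK : Z ≤ K := by
    intro u hu
    rw [Subgroup.mem_subgroupOf] at hu
    exact (hK u).2 (LJ_le_PJ (X_le_LJ_single i (hback _ hu)))
  refine sum_eq_zero_of_sub K (isCharacter_comp j hψ) Z hZK ?_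
  intro hf
  have hfX : Fintype (X (sr i)) := Fintype.ofFinite _
  rw [← hc]
  let e : Z ≃ X (sr i) :=
    { toFun := fun z => ⟨g⁻¹ * ((z : U) : Y) * g, hback _ (Subgroup.mem_subgroupOf.1 z.2)⟩
      invFun := fun x => ⟨⟨g * x * g⁻¹, hXU (R.conj_mem hg (isRoot_sr cs h i) x.2)⟩,
        Subgroup.mem_subgroupOf.2 (R.conj_mem hg (isRoot_sr cs h i) x.2)⟩
      left_inv := fun z => Subtype.ext (Subtype.ext (by
        change g * (g⁻¹ * ((z : U) : Y) * g) * g⁻¹ = _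
        group))
      right_inv := fun x => Subtype.ext (by
        change g⁻¹ * (g * x * g⁻¹) * g = _
        group) }
  exact Fintype.sum_equiv e _ _ fun z => rfl

/-- **The Harish-Chandra induced character of a cuspidal character has no `U`-fixed vectors.** -/
theorem sum_indFun_eq_zero [Finite W] [Fintype Y] (hG : GG cs h T X = ⊤) (i : I)
    [Fintype (RGD.Sup X (RGD.Pos cs h))] {ψ : ↥(PJ cs h T X {i}) → ℂ} (hψ : IsCharacter _ ψ)
    (hc : ∀ [Fintype (X (sr i))], ∑ u : X (sr i), ψ ⟨u, LJ_le_PJ (X_le_LJ_single i u.2)⟩ = 0) :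
    ∑ u : RGD.Sup X (RGD.Pos cs h), indFun (PJ cs h T X {i}) ψ (u : Y) = 0 := by
  classical
  have h1 : ∀ u : RGD.Sup X (RGD.Pos cs h), indFun (PJ cs h T X {i}) ψ (u : Y) =
      (Nat.card (PJ cs h T X {i}) : ℂ)⁻¹ * ∑ x : Y, extendByZero (PJ cs h T X {i}) ψ (x⁻¹ * (u : Y) * x) :=
    fun u => Cfsg.Agent.OddOrderCharacters.Clifford.indFun_apply _ _ _
  rw [Finset.sum_congr rfl fun u _ => h1 u, ← Finset.mul_sum, Finset.sum_comm]
  rw [Finset.sum_eq_zero, mul_zero]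
  intro x _
  obtain ⟨w, b₁, hb₁, g, hg, b₂, hb₂, rfl⟩ := (mem_GG R).1 (show x ∈ GG cs h T X by rw [hG]; exact Subgroup.mem_top x)
  have hcl := isCharacter_isClassFunction hψ
  have hn := R.B_le_normalizer_U hb₁
  -- remove `b₁` and `b₂`
  have h2 : ∑ u : RGD.Sup X (RGD.Pos cs h), extendByZero (PJ cs h T X {i}) ψ ((b₁ * g * b₂)⁻¹ * (u : Y) * (b₁ * g * b₂)) =
      ∑ u : RGD.Sup X (RGD.Pos cs h), extendByZero (PJ cs h T X {i}) ψ (g⁻¹ * (u : Y) * g) := by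
    refine (Fintype.sum_equiv (conjME _ hn).toEquiv _ _ fun u => ?_).symm
    change _ = extendByZero (PJ cs h T X {i}) ψ ((b₁ * g * b₂)⁻¹ * (b₁ * (u : Y) * b₁⁻¹) * (b₁ * g * b₂))
    have e : (b₁ * g * b₂)⁻¹ * (b₁ * (u : Y) * b₁⁻¹) * (b₁ * g * b₂) = b₂⁻¹ * (g⁻¹ * (u : Y) * g) * b₂ := by group
    rw [e, ext_conj hcl (B_le_PJ hb₂)]
  rw [h2]
  rcases ((isRoot_sr cs h i).act w).pos_or_neg with h3 | h3
  · exact sum_ext_eq_zero R i hψ hc hg h3
  · have h4 : 0 ≤ rep cs h (w * cs.simple i) (sr i) := by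
      rw [rep_mul_apply, rep_simple_sr, map_neg]
      exact neg_nonneg.2 h3
    rw [← sum_ext_eq_zero R i hψ hc (hg.mul (rp_simple cs R.nsys i)) h4]
    refine Finset.sum_congr rfl fun u _ => ?_
    have e : (g * n i)⁻¹ * (u : Y) * (g * n i) = (n i)⁻¹ * (g⁻¹ * (u : Y) * g) * n i := by group
    rw [e, ext_conj hcl (LJ_le_PJ (n_mem_LJ R (Set.mem_singleton i)))]

/-- the conjugate of `ψ` by an element centralising `⟨X_i, X_{-i}⟩` and mapping `V_i` to the opposite side -/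
theorem apply_conj_eq [Finite W] [Finite Y] (i : I)
    {ψ' : ↥(PJ cs h T X {i}) → ℂ} (hψ' : IsCharacter _ ψ')
    (hz : ∀ z (hz : z ∈ CT T X i), ψ' ⟨z, T_le_PJ _ (CT_le hz)⟩ = ψ' 1)
    {w : W} {g : Y} (hg : Rp cs R.nsys w g) (hgM : ∀ m ∈ MJ cs h X {i}, g * m = m * g)
    (hwN : ∀ x ∈ NotJ cs h {i}, rep cs h w⁻¹ x ∈ NotNJ cs h {i}) {t : Y} (ht : t ∈ PJ cs h T X {i})
    (htg : g⁻¹ * t * g ∈ PJ cs h T X {i}) : ψ' ⟨g⁻¹ * t * g, htg⟩ = ψ' ⟨t, ht⟩ := by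
  obtain ⟨l, hl, v, hv, rfl⟩ := (mem_PJ R).1 ht
  obtain ⟨s, hs, m, hm, rfl⟩ := (mem_LJ_iff_mul R _).1 hl
  have hgm : g⁻¹ * m * g = m := by
    rw [mul_assoc, ← hgM m hm]
    group
  have hsT := conj_T R hg hs
  -- the part in `V` is trivial
  have hv1 : v = 1 := by
    have h1 : g⁻¹ * v * g ∈ VNJ cs h X {i} := conj_mem_Sup' R hg (fun x hx => hx.1) hwN hv
    have h2 : g⁻¹ * v * g ∈ PJ cs h T X {i} := by
      have e : g⁻¹ * v * g = ((g⁻¹ * s * g) * (g⁻¹ * m * g))⁻¹ * (g⁻¹ * (s * m * v) * g) := by group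
      rw [e, hgm]
      exact mul_mem (inv_mem (mul_mem (T_le_PJ _ hsT) (LJ_le_PJ (MJ_le_LJ _ hm)))) htg
    have h3 := eq_one_of_mem_VNJ_of_mem_PJ R h1 h2
    have h4 : v = g * (g⁻¹ * v * g) * g⁻¹ := by group
    rw [h4, h3]
    group
  subst hv1
  -- the central part
  set z := s⁻¹ * (g⁻¹ * s * g) with hzdef
  have hzT : z ∈ T := mul_mem (inv_mem hs) hsT
  have hXM : ∀ x, x = sr i ∨ x = -sr i → ∀ u ∈ X x, z * u = u * z := by
    intro x hx u hu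
    have hMx : X x ≤ MJ cs h X {i} := by
      rw [MJ_single]
      rcases hx with rfl | rfl
      · exact le_sup_left
      · exact le_sup_right
    have hxr : IsRoot cs h x := by
      rcases hx with rfl | rfl
      · exact isRoot_sr cs h i
      · exact (isRoot_sr cs h i).neg
    have h2 : s * u * s⁻¹ ∈ X x := by
      have := conj_mem_cj (g := s) |>.2 hu
      rwa [R.tor _ hxr s hs] at this
    have h3 := hgM _ (hMx hu)
    have h4 := hgM _ (hMx h2)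
    calc z * u = s⁻¹ * g⁻¹ * s * (g * u) := by rw [hzdef]; group
      _ = s⁻¹ * g⁻¹ * s * (u * g) := by rw [h3]
      _ = s⁻¹ * g⁻¹ * ((s * u * s⁻¹) * g) * g⁻¹ * s * g := by group
      _ = s⁻¹ * g⁻¹ * (g * (s * u * s⁻¹)) * g⁻¹ * s * g := by rw [h4]
      _ = u * z := by rw [hzdef]; group
  have hzC : z ∈ CT T X i := mem_CT.2 ⟨hzT, hXM _ (Or.inl rfl), hXM _ (Or.inr rfl)⟩
  have hzm : z * m = m * z := by
    have h2 : MJ cs h X {i} ≤ Subgroup.centralizer {z} := by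
      rw [MJ_single]
      refine sup_le ?_ ?_
      · intro u hu
        rw [Subgroup.mem_centralizer_singleton_iff]
        exact (hXM _ (Or.inl rfl) u hu).symm
      · intro u hu
        rw [Subgroup.mem_centralizer_singleton_iff]
        exact (hXM _ (Or.inr rfl) u hu).symm
    exact (Subgroup.mem_centralizer_singleton_iff.1 (h2 hm)).symm
  have e1 : g⁻¹ * (s * m * 1) * g = (s * m * 1) * z := by
    calc g⁻¹ * (s * m * 1) * g = (g⁻¹ * s * g) * (g⁻¹ * m * g) := by group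
      _ = s * (z * m) := by rw [hgm, hzdef]; group
      _ = (s * m * 1) * z := by rw [hzm]; group
  have e2 : (⟨g⁻¹ * (s * m * 1) * g, htg⟩ : ↥(PJ cs h T X {i})) = ⟨s * m * 1, ht⟩ * ⟨z, T_le_PJ _ hzT⟩ :=
    Subtype.ext e1
  rw [e2]
  exact Cfsg.Agent.H597.Base.apply_mul_of_ker hψ' (hz z hzC) _

/-- **`R(ψ)` is reducible.** -/
theorem classInner_ne_one [Finite W] [Fintype Y] (i : I)
    {ψ' : ↥(PJ cs h T X {i}) → ℂ} (hψ' : IsIrrCharacter _ ψ')
    (hz : ∀ z (hz : z ∈ CT T X i), ψ' ⟨z, T_le_PJ _ (CT_le hz)⟩ = ψ' 1)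
    {w : W} {g : Y} (hg : Rp cs R.nsys w g) (hgM : ∀ m ∈ MJ cs h X {i}, g * m = m * g)
    (hwN : ∀ x ∈ NotJ cs h {i}, rep cs h w⁻¹ x ∈ NotNJ cs h {i}) (hgP : g ∉ PJ cs h T X {i}) :
    classInner (indFun (PJ cs h T X {i}) ψ') (indFun (PJ cs h T X {i}) ψ') ≠ 1 := by
  classical
  intro h1
  have : Fintype ↥(PJ cs h T X {i}) := Fintype.ofFinite _
  have hψc := isIrr_isCharacter hψ'
  choose N hN using fun x => twist_eq_nat (PJ cs h T X {i}) hψc hψc x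
  rw [classInner_indFun_indFun, Finset.sum_congr rfl fun x _ => hN x, ← Nat.cast_sum] at h1
  have hP : (Nat.card ↥(PJ cs h T X {i}) : ℂ) ≠ 0 := card_ne_zero'
  have h2 : ∑ x, N x = Nat.card ↥(PJ cs h T X {i}) * Nat.card ↥(PJ cs h T X {i}) := by
    have h3 : ((∑ x, N x : ℕ) : ℂ) = ((Nat.card ↥(PJ cs h T X {i}) * Nat.card ↥(PJ cs h T X {i}) : ℕ) : ℂ) := by
      push_cast
      push_cast at h1
      field_simp at h1
      linear_combination h1
    exact_mod_cast h3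
  have hin : ∀ x ∈ PJ cs h T X {i}, N x = Nat.card ↥(PJ cs h T X {i}) := by
    intro x hx
    have h3 := twist_of_mem (PJ cs h T X {i}) ψ' ψ' (isIrr_isClassFunction hψ') x hx
    rw [classInner_irr_self hψ', mul_one, hN] at h3
    exact_mod_cast h3
  -- the term of `g`
  have hNg : N g ≠ 0 := by
    intro h0
    have h3 := hN g
    rw [h0, Nat.cast_zero, twist_def] at h3
    have h4 : ∀ t : ↥(PJ cs h T X {i}), ψ' t * conj (extendByZero (PJ cs h T X {i}) ψ' (g⁻¹ * (t : Y) * g)) =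
        ((if g⁻¹ * (t : Y) * g ∈ PJ cs h T X {i} then Complex.normSq (ψ' t) else 0 : ℝ) : ℂ) := by
      intro t
      by_cases ht : g⁻¹ * (t : Y) * g ∈ PJ cs h T X {i}
      · rw [ext_apply_mem _ _ _ ht, if_pos ht,
          apply_conj_eq R i hψc hz hg hgM hwN t.2 ht, Complex.mul_conj]
      · rw [ext_apply_not_mem _ _ _ ht, if_neg ht, map_zero, mul_zero, Complex.ofReal_zero]
    rw [Finset.sum_congr rfl fun t _ => h4 t, ← Complex.ofReal_sum] at h3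
    have h5 : ∑ t : ↥(PJ cs h T X {i}), (if g⁻¹ * (t : Y) * g ∈ PJ cs h T X {i} then Complex.normSq (ψ' t) else 0) = 0 := by
      exact_mod_cast h3
    rw [Finset.sum_eq_zero_iff_of_nonneg (fun t _ => by
      split_ifs
      · exact Complex.normSq_nonneg _
      · exact le_rfl)] at h5
    have h6 := h5 1 (Finset.mem_univ _)
    rw [if_pos (by
      change g⁻¹ * (1 : Y) * g ∈ PJ cs h T X {i}
      rw [mul_one, inv_mul_cancel]
      exact one_mem _), Complex.normSq_eq_zero] at h6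
    exact isIrr_apply_one_ne_zero hψ' h6
  -- count
  have h3 : ∑ x ∈ insert g (Finset.univ.filter (fun x : Y => x ∈ PJ cs h T X {i})), N x ≤ ∑ x, N x :=
    Finset.sum_le_sum_of_subset (Finset.subset_univ _)
  rw [Finset.sum_insert (by
    rw [Finset.mem_filter]
    exact fun h => hgP h.2), h2] at h3
  have h4 : ∑ x ∈ Finset.univ.filter (fun x : Y => x ∈ PJ cs h T X {i}), N x =
      Nat.card ↥(PJ cs h T X {i}) * Nat.card ↥(PJ cs h T X {i}) := by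
    rw [Finset.sum_congr rfl fun x hx => hin x (Finset.mem_filter.1 hx).2, Finset.sum_const, smul_eq_mul]
    congr 1
    rw [Nat.card_eq_fintype_card, Fintype.card_subtype]
  rw [h4] at h3
  omega

/-- the elements of `T` of order dividing `ℓ` -/
theorem exists_Q (hTc : ∀ a ∈ T, ∀ b ∈ T, a * b = b * a) (ℓ : ℕ) :
    ∃ Q : Subgroup Y, Q ≤ T ∧ IsPGroup ℓ Q ∧ (∀ i, ∀ q ∈ Q, n i * q * (n i)⁻¹ ∈ Q) ∧ ∀ t ∈ T, t ^ ℓ = 1 → t ∈ Q := by
  refine ⟨{ carrier := {t | t ∈ T ∧ t ^ ℓ = 1}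
            one_mem' := ⟨one_mem _, one_pow _⟩
            mul_mem' := ?_
            inv_mem' := ?_ }, fun t ht => ht.1, ?_, ?_, fun t h1 h2 => ⟨h1, h2⟩⟩
  · rintro a b ⟨ha, ha'⟩ ⟨hb, hb'⟩
    refine ⟨mul_mem ha hb, ?_⟩
    have : Commute a b := hTc a ha b hb
    rw [this.mul_pow, ha', hb', one_mul]
  · rintro a ⟨ha, ha'⟩
    exact ⟨inv_mem ha, by rw [inv_pow, ha', inv_one]⟩
  · rintro ⟨t, ht, ht'⟩
    exact ⟨1, Subtype.ext (by simpa using ht')⟩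
  · rintro i t ⟨ht, ht'⟩
    refine ⟨conj_T' R (rp_simple cs R.nsys i) ht, ?_⟩
    rw [conj_pow, ht', mul_one, mul_inv_cancel]

/-- a character without `U`-fixed vectors has degree divisible by `ℓ` -/
theorem dvd_of_sum [Finite W] [Finite Y] (hTc : ∀ a ∈ T, ∀ b ∈ T, a * b = b * a) (hp : p.Prime) {ℓ : ℕ}
    (hℓ : ℓ.Prime) (hℓp : ℓ ≠ p)
    (hx : ∀ i, ∃ x ∈ T, x ^ ℓ = 1 ∧ ∀ u ∈ X (sr i), x * u = u * x → u = 1)
    [Fintype (RGD.Sup X (RGD.Pos cs h))] {χ : Y → ℂ} (hχ : IsIrrCharacter Y χ)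
    (h0 : ∑ u : RGD.Sup X (RGD.Pos cs h), χ (u : Y) = 0) : ℓ ∣ charDegree χ := by
  have := Fact.mk hℓ
  obtain ⟨Q, hQT, hQ, hQn, hQm⟩ := exists_Q R hTc ℓ
  refine Cfsg.Agent.H40.Fpf.dvd_degree Q (RGD.Sup X (RGD.Pos cs h)) hQ ?_ ?_ ?_ hχ h0
  · intro hd
    have := Fact.mk hp
    obtain ⟨k, hk⟩ := (IsPGroup.iff_card (p := p)).1 R.isPGroup_Upos
    rw [hk] at hd
    exact hℓp ((Nat.prime_dvd_prime_iff_eq hℓ hp).1 (hℓ.dvd_of_dvd_pow hd))
  · intro t ht v hv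
    exact (Subgroup.mem_normalizer_iff.1 (R.T_le_normalizer_U (hQT ht)) v).1 hv
  · refine Cfsg.Agent.H40.GGR.cent_U_of_simple R Q hQT hQn fun i u hu hc => ?_
    obtain ⟨x, hxT, hx1, hx2⟩ := hx i
    exact hx2 u hu (hc x (hQm x hxT hx1))

end Cfsg.Agent.H115.HC.Two

namespace Cfsg.Agent.H115.HC.Two

open CoxeterSystem Cfsg.Agent.ChevalleyStructure.CoxeterGeom Cfsg.Agent.Tits.Roots Cfsg.Agent.Tits.Core
  Cfsg.Agent.Tits.Exchange Cfsg.Agent.Nodes.Reps Cfsg.Agent.Nodes.BNOf Cfsg.Agent.Nodes.StabComb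
  Cfsg.Agent.Nodes.Bruhat Cfsg.Agent.Nodes.OppDec Cfsg.Agent.Nodes.LeviDec Cfsg.Agent.H53.HC
  Cfsg.Agent.LieRecognition.RankOneAbstract Cfsg.Agent.Characters Cfsg.Agent.OddOrderCharacters.Clifford
  Cfsg.Agent.Characters.Core

variable {W Y : Type*} [Group W] [Group Y] {M : CoxeterMatrix (Fin 2)}
  {cs : CoxeterSystem M W} {A : Fin 2 → Fin 2 → ℤ} {h : IsCartan M A} {p : ℕ} {T : Subgroup Y} {n : Fin 2 → Y}
  {X : (Fin 2 → ℤ) → Subgroup Y}

theorem vv_notJ (hA : A 0 1 * A 1 0 = 3) {x : Fin 2 → ℤ} (hx : x ∈ NotJ cs h {0}) :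
    rep cs h (vv cs)⁻¹ x ∈ NotNJ cs h {0} := by
  obtain ⟨hr, h0, k, hk, hk0⟩ := hx
  have hk1 : k = 1 := by
    fin_cases k
    · exact absurd rfl hk
    · rfl
  subst hk1
  have hvi : (vv cs)⁻¹ = vv cs := by
    unfold vv
    simp only [mul_inv_rev, cs.inv_simple, mul_assoc]
  rw [hvi]
  have h1 : rep cs h (vv cs) x 1 = -x 1 := by
    rw [rep_vv hA]
    rfl
  have hneg : 0 < (-rep cs h (vv cs) x) 1 := by
    rw [Pi.neg_apply, h1, _root_.neg_neg]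
    exact hk0
  exact ⟨(hr.act _).neg, nonneg_of_pos_apply (hr.act _).neg hneg, 1, hk, hneg⟩

theorem vv_not_mem [Finite W] (hA : A 0 1 * A 1 0 = 3) (h : IsCartan M A) : vv cs ∉ WJ cs ({0} : Set (Fin 2)) := by
  intro hv
  have h1 : rep cs h (vv cs) (sr 1) 1 = -1 := by
    rw [rep_vv hA, sr_one_eq]
    rfl
  rcases mem_WJ_single cs hv with h2 | h2
  · rw [h2, map_one, Module.End.one_apply, sr_self] at h1
    norm_num at h1
  · rw [h2, rep_zero, sr_one_eq] at h1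
    norm_num at h1

variable (R : RGD cs h p T n X)

include R

/-- **Two degrees divisible by `ℓ`.** -/
theorem exists_reg [Finite W] [Finite Y] (hG : GG cs h T X = ⊤) (hTc : ∀ a ∈ T, ∀ b ∈ T, a * b = b * a)
    (hp : p.Prime) (hA : A 0 1 * A 1 0 = 3) (hU : 2 ≤ Nat.card (X (sr 0))) {y : Fin 2 → ℤ}
    (hy : y = rep cs h (cs.simple 1 * cs.simple 0) (sr 1))
    (hC : ∀ m ∈ MJ cs h X {0}, ∀ v ∈ X y, m * v = v * m) (hC' : ∀ m ∈ MJ cs h X {0}, ∀ v ∈ X (-y), m * v = v * m)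
    {θ : T →* ℂˣ} (hθ : ∀ t (ht : t ∈ T), θ ⟨t, ht⟩ = 1 ↔ ∀ v ∈ X y, t * v = v * t)
    {a : Y} (ha : a ∈ T) (hinv : (n 1)⁻¹ * a * n 1 = a⁻¹) (hc : ∀ u ∈ X ![2, -A 1 0], a * u = u * a)
    (hc' : ∀ u ∈ X (-![2, -A 1 0]), a * u = u * a) (ha2 : ∃ v ∈ X (sr 1), a * a * v ≠ v * (a * a))
    {ℓ : ℕ} (hℓ : ℓ.Prime) (hℓp : ℓ ≠ p) {x₀ : Y} (hx₀ : x₀ ∈ T) (hx₀o : orderOf x₀ = ℓ)
    (hx₀f : ∀ u ∈ X (sr 0), x₀ * u = u * x₀ → u = 1)
    (hx₁ : ∃ x ∈ T, x ^ ℓ = 1 ∧ ∀ u ∈ X (sr 1), x * u = u * x → u = 1) :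
    ∃ χ χ' : IrrCharacter Y, ℓ ∣ charDegree (χ : Y → ℂ) ∧ ℓ ∣ charDegree (χ' : Y → ℂ) ∧
      charDegree (χ' : Y → ℂ) < charDegree (χ : Y → ℂ) := by
  classical
  have := Fintype.ofFinite Y
  have := Fintype.ofFinite (RGD.Sup X (RGD.Pos cs h))
  -- the element `z`
  have hm : Rp cs R.nsys (cs.simple 1 * cs.simple 0) (n 1 * n 0) :=
    (rp_simple cs R.nsys 1).mul (rp_simple cs R.nsys 0)
  have hconj : ∀ u, a * ((n 1 * n 0)⁻¹ * u * (n 1 * n 0)) = ((n 1 * n 0)⁻¹ * u * (n 1 * n 0)) * a →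
      (n 1 * n 0) * a * (n 1 * n 0)⁻¹ * u = u * ((n 1 * n 0) * a * (n 1 * n 0)⁻¹) := by
    intro u hu
    calc (n 1 * n 0) * a * (n 1 * n 0)⁻¹ * u =
          (n 1 * n 0) * (a * ((n 1 * n 0)⁻¹ * u * (n 1 * n 0))) * (n 1 * n 0)⁻¹ := by group
      _ = (n 1 * n 0) * (((n 1 * n 0)⁻¹ * u * (n 1 * n 0)) * a) * (n 1 * n 0)⁻¹ := by rw [hu]
      _ = _ := by group
  have hzT : (n 1 * n 0) * a * (n 1 * n 0)⁻¹ ∈ T := conj_T' R hm ha
  have hz : (n 1 * n 0) * a * (n 1 * n 0)⁻¹ ∈ CT T X 0 := by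
    refine mem_CT.2 ⟨hzT, fun u hu => hconj u (hc _ ?_), fun u hu => hconj u (hc' _ ?_)⟩
    · have := R.conj_mem' hm (isRoot_sr cs h 0) hu
      rwa [rep_inv_zero hA] at this
    · have := R.conj_mem' hm (isRoot_sr cs h 0).neg hu
      rwa [map_neg, rep_inv_zero hA] at this
  obtain ⟨z, hz0⟩ : ∃ z, z = (n 1 * n 0) * a * (n 1 * n 0)⁻¹ := ⟨_, rfl⟩
  rw [← hz0] at hz
  have hzi : ∀ g, Rp cs R.nsys (vv cs) g → g⁻¹ * z * g = z⁻¹ := by
    intro g hg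
    have hg1 : Rp cs R.nsys (vv cs) ((n 1 * n 0) * n 1 * (n 1 * n 0)⁻¹) :=
      (hm.mul (rp_simple cs R.nsys 1)).mul hm.inv
    rw [conj_eq R hTc hg hg1 (CT_le hz), hz0]
    calc ((n 1 * n 0) * n 1 * (n 1 * n 0)⁻¹)⁻¹ * ((n 1 * n 0) * a * (n 1 * n 0)⁻¹) *
          ((n 1 * n 0) * n 1 * (n 1 * n 0)⁻¹) = (n 1 * n 0) * ((n 1)⁻¹ * a * n 1) * (n 1 * n 0)⁻¹ := by group
      _ = _ := by rw [hinv]; group
  -- the linear character
  obtain ⟨f, hfT, hfM, -⟩ := exists_ext_PJ R 0 θ (fun t ht htM => (hθ t ht).2 fun v hv => hC t htM v hv)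
  let lam : ↥(LJ cs h T X {0}) →* ℂˣ := f.comp (Subgroup.inclusion LJ_le_PJ)
  have hlamT : ∀ (t : Y) (ht : t ∈ T), lam ⟨t, T_le_LJ ht⟩ = θ ⟨t, ht⟩ := hfT
  have hθz : θ ⟨z * z, mul_mem (CT_le hz) (CT_le hz)⟩ ≠ 1 := by
    intro h1
    rw [hθ] at h1
    obtain ⟨v, hv, hne⟩ := ha2
    apply hne
    have h2 : (n 1 * n 0) * v * (n 1 * n 0)⁻¹ ∈ X y := by
      rw [hy]
      exact R.conj_mem hm (isRoot_sr cs h 1) hv
    have h3 := h1 _ h2
    have e1 : (n 1 * n 0)⁻¹ * (z * z) * (n 1 * n 0) = a * a := by rw [hz0]; group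
    calc a * a * v = (n 1 * n 0)⁻¹ * ((z * z) * ((n 1 * n 0) * v * (n 1 * n 0)⁻¹)) * (n 1 * n 0) := by
          rw [← e1]; group
      _ = (n 1 * n 0)⁻¹ * (((n 1 * n 0) * v * (n 1 * n 0)⁻¹) * (z * z)) * (n 1 * n 0) := by rw [h3]
      _ = v * (a * a) := by rw [← e1]; group
  -- the cuspidal character
  obtain ⟨ψ, hψ, hψc, hψz⟩ := exists_psi R hTc 0 hU 1
  have hψz' : ∀ l (hl : l ∈ CT T X 0), ψ ⟨l, T_le_LJ (CT_le hl)⟩ = ψ 1 := by
    intro l hl
    rw [hψz l hl, MonoidHom.one_apply, Units.val_one, one_mul]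
  have hψl : IsIrrCharacter _ (fun l => ψ l * (lam l : ℂ)) :=
    Cfsg.Agent.CharactersDeep.ExtUnique.isIrr_mul_hom hψ lam
  have hXM : ∀ u ∈ X (sr 0), u ∈ MJ cs h X {0} := fun u hu => by
    rw [MJ_single]
    exact Subgroup.mem_sup_left hu
  -- the irreducible induced character
  obtain ⟨χ, hχ, hχ1⟩ := exists_chi_of_psi R hG 0 hψl (by
    intro hf
    rw [← hψc]
    refine Finset.sum_congr rfl fun u _ => ?_
    have h1 : lam (u : ↥(LJ cs h T X {0})) = 1 := hfM _ (hXM _ (Subgroup.mem_subgroupOf.1 u.2))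
    change ψ u * (lam u : ℂ) = ψ u
    rw [h1, Units.val_one, mul_one]) (by
    intro w g hg hw hwi
    have hwv := eq_vv hA hw hwi
    subst hwv
    refine ⟨CT T X 0, le_trans CT_le T_le_LJ, fun l hl => T_le_LJ (CT_le (conj_mem_CT R hg hwi hl)), ?_⟩
    intro hfin
    let g1 : CT T X 0 →* ℂˣ := θ.comp (Subgroup.inclusion CT_le)
    let g2 : CT T X 0 →* ℂˣ := θ.comp
      { toFun := fun z => ⟨g⁻¹ * z * g, CT_le (conj_mem_CT R hg hwi z.2)⟩
        map_one' := Subtype.ext (by simp)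
        map_mul' := fun a b => Subtype.ext (by
          change g⁻¹ * (a * b) * g = (g⁻¹ * a * g) * (g⁻¹ * b * g)
          group) }
    have h1 : ∀ l : CT T X 0, (fun l => ψ l * (lam l : ℂ)) (⟨l, T_le_LJ (CT_le l.2)⟩ : ↥(LJ cs h T X {0})) *
        conj ((fun l => ψ l * (lam l : ℂ)) (⟨g⁻¹ * l * g, T_le_LJ (CT_le (conj_mem_CT R hg hwi l.2))⟩ :
          ↥(LJ cs h T X {0}))) = (ψ 1 * conj (ψ 1)) * ((g1 l : ℂ) * conj (g2 l : ℂ)) := by
      intro l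
      simp only
      rw [hψz' l l.2, hψz' _ (conj_mem_CT R hg hwi l.2), hlamT _ (CT_le l.2),
        hlamT _ (CT_le (conj_mem_CT R hg hwi l.2)), map_mul]
      change ψ 1 * (g1 l : ℂ) * (conj (ψ 1) * conj (g2 l : ℂ)) = _
      ring
    rw [Finset.sum_congr rfl fun l _ => h1 l, ← Finset.mul_sum, sum_conj_hom g1 g2, mul_zero]
    refine ⟨⟨z, hz⟩, fun he => hθz ?_⟩
    have h2 : g2 ⟨z, hz⟩ = (θ ⟨z, CT_le hz⟩)⁻¹ := by
      rw [← map_inv]
      change θ ⟨g⁻¹ * z * g, _⟩ = _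
      congr 1
      exact Subtype.ext (hzi g hg)
    rw [h2] at he
    change θ ⟨z, CT_le hz⟩ = _ at he
    have h3 : θ ⟨z * z, mul_mem (CT_le hz) (CT_le hz)⟩ = θ ⟨z, CT_le hz⟩ * θ ⟨z, CT_le hz⟩ := by
      rw [← map_mul]
      rfl
    rw [h3]
    exact mul_eq_one_iff_eq_inv.2 he)
  have hlam1 : ((1 : ↥(LJ cs h T X {0})) : Y) = 1 := rfl
  have hχ1' : χ 1 = (PJ cs h T X {0}).index * ψ 1 := by
    rw [hχ1]
    simp only [map_one, Units.val_one, mul_one]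
  -- the reducible induced character
  obtain ⟨ψ', hψ', hψL, hψV⟩ := exists_infl R ({0} : Set (Fin 2)) hψ
  have hψ'1 : ψ' 1 = ψ 1 := hψL 1 (one_mem _)
  have hcz : ∀ z (hz : z ∈ CT T X 0), ψ' ⟨z, T_le_PJ _ (CT_le hz)⟩ = ψ' 1 := by
    intro l hl
    rw [hψL l (T_le_LJ (CT_le hl)), hψz' l hl, hψ'1]
  have hcX : ∀ [Fintype (X (sr 0))], ∑ u : X (sr 0), ψ' ⟨u, LJ_le_PJ (X_le_LJ_single 0 u.2)⟩ = 0 := by
    intro hf
    have hf' : Fintype ((X (sr 0)).subgroupOf (LJ cs h T X {0})) := Fintype.ofFinite _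
    rw [← hψc]
    refine Fintype.sum_equiv (Subgroup.subgroupOfEquivOfLe (X_le_LJ_single (T := T) (0 : Fin 2))).symm.toEquiv _ _
      fun u => ?_
    rw [hψL _ (X_le_LJ_single 0 u.2)]
    rfl
  set Θ := indFun (PJ cs h T X {0}) ψ' with hΘ
  have hΘc : IsCharacter Y Θ := Cfsg.Agent.S0148.result _ _ (isIrr_isCharacter hψ')
  have hΘ1 : Θ 1 = χ 1 := by
    rw [hχ1', hΘ, Cfsg.Agent.H53.HC.indFun_one, hψ'1]
  obtain ⟨k₁, hk₁, hk₁r⟩ := exists_rp_mem R 1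
  have hg1 : Rp cs R.nsys (vv cs) ((n 1 * n 0) * k₁ * (n 1 * n 0)⁻¹) := (hm.mul hk₁r).mul hm.inv
  have hgM : ∀ m ∈ MJ cs h X {0}, ((n 1 * n 0) * k₁ * (n 1 * n 0)⁻¹) * m = m * ((n 1 * n 0) * k₁ * (n 1 * n 0)⁻¹) := by
    intro m hmM
    have h2 : MJ cs h X {1} ≤ Subgroup.centralizer {(n 1 * n 0)⁻¹ * m * (n 1 * n 0)} := by
      rw [MJ_single]
      refine sup_le ?_ ?_
      · intro u hu
        rw [Subgroup.mem_centralizer_singleton_iff]
        have h3 := hC m hmM _ (by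
          rw [hy]
          exact R.conj_mem hm (isRoot_sr cs h 1) hu)
        calc u * ((n 1 * n 0)⁻¹ * m * (n 1 * n 0)) =
              (n 1 * n 0)⁻¹ * (((n 1 * n 0) * u * (n 1 * n 0)⁻¹) * m) * (n 1 * n 0) := by group
          _ = (n 1 * n 0)⁻¹ * (m * ((n 1 * n 0) * u * (n 1 * n 0)⁻¹)) * (n 1 * n 0) := by rw [h3]
          _ = _ := by group
      · intro u hu
        rw [Subgroup.mem_centralizer_singleton_iff]
        have h4 := R.conj_mem hm (isRoot_sr cs h 1).neg hu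
        rw [map_neg, ← hy] at h4
        have h3 := hC' m hmM _ h4
        calc u * ((n 1 * n 0)⁻¹ * m * (n 1 * n 0)) =
              (n 1 * n 0)⁻¹ * (((n 1 * n 0) * u * (n 1 * n 0)⁻¹) * m) * (n 1 * n 0) := by group
          _ = (n 1 * n 0)⁻¹ * (m * ((n 1 * n 0) * u * (n 1 * n 0)⁻¹)) * (n 1 * n 0) := by rw [h3]
          _ = _ := by group
    have h3 := Subgroup.mem_centralizer_singleton_iff.1 (h2 hk₁)
    calc ((n 1 * n 0) * k₁ * (n 1 * n 0)⁻¹) * m =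
          (n 1 * n 0) * (k₁ * ((n 1 * n 0)⁻¹ * m * (n 1 * n 0))) * (n 1 * n 0)⁻¹ := by group
      _ = (n 1 * n 0) * (((n 1 * n 0)⁻¹ * m * (n 1 * n 0)) * k₁) * (n 1 * n 0)⁻¹ := by rw [h3]
      _ = _ := by group
  have hgP : (n 1 * n 0) * k₁ * (n 1 * n 0)⁻¹ ∉ PJ cs h T X {0} := by
    rw [cell_mem_PJ_iff R (cell_of_rp hg1)]
    exact vv_not_mem hA h
  have hne := classInner_ne_one R 0 hψ' hcz hg1 hgM (fun x hx => vv_notJ hA hx) hgP
  obtain ⟨χ', η, hχ', hη, hsum, hη1⟩ := exists_lt hΘc (by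
    rw [hΘ1]
    exact isIrr_apply_one_ne_zero hχ) hne
  have hU0 := sum_indFun_eq_zero R hG 0 (isIrr_isCharacter hψ') hcX
  rw [← hΘ, hsum] at hU0
  have hχ'U := sum_eq_zero_of_add (RGD.Sup X (RGD.Pos cs h)) (isIrr_isCharacter hχ') hη hU0
  have hdχ' : ℓ ∣ charDegree χ' := dvd_of_sum R hTc hp hℓ hℓp (by
    intro i
    fin_cases i
    · exact ⟨x₀, hx₀, by rw [← hx₀o]; exact pow_orderOf_eq_one x₀, hx₀f⟩
    · exact hx₁) hχ' hχ'U
  have hd : χ 1 = (charDegree χ : ℂ) := Cfsg.Agent.Blocks.Basic.irr_one_eq_charDegree hχ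
  have hd' : χ' 1 = (charDegree χ' : ℂ) := Cfsg.Agent.Blocks.Basic.irr_one_eq_charDegree hχ'
  have hdψ : ψ 1 = (charDegree ψ : ℂ) := Cfsg.Agent.Blocks.Basic.irr_one_eq_charDegree hψ
  refine ⟨⟨χ, hχ⟩, ⟨χ', hχ'⟩, ?_, hdχ', ?_⟩
  · obtain ⟨m, hm⟩ := dvd_of_regular R hψ hψc hx₀ hℓ hx₀o hx₀f
    have h1 : charDegree χ = (PJ cs h T X {0}).index * (ℓ * m) := by
      rw [hm, hd] at hχ1'
      exact_mod_cast hχ1'
    change ℓ ∣ charDegree χ
    rw [h1]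
    exact Dvd.dvd.mul_left (Dvd.intro m rfl) _
  · obtain ⟨k, hk⟩ := isCharacter_apply_one hη
    have h1 : charDegree χ = charDegree χ' + k := by
      have h2 : Θ 1 = χ' 1 + η 1 := congrFun hsum 1
      rw [hΘ1, hd, hd', hk] at h2
      exact_mod_cast h2
    have h2 : k ≠ 0 := by
      rintro rfl
      exact hη1 (by rw [hk, Nat.cast_zero])
    change charDegree χ' < charDegree χ
    omega

end Cfsg.Agent.H115.HC.Two
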