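import Cfsg.Agent.H115.HC.TwoHecke
import Cfsg.Agent.H115.HC.TwoReg

/-!
# The sign character of a parabolic subgroup with root groups of order two (helper115)

`R : RGD cs h p T n X` of type `G₂` with `|X_{α_0}| = 2`: the sign character of `P = PJ {0}` induces a character with two
constituents `χ`, `χ'`; `χ(1)` divides `b χ'(1)` and conversely, where `b` is a power of two.
-/

set_option autoImplicit false

open scoped ComplexConjugate
open Cfsg

namespace Cfsg.Agent.H115.HC.Two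

open CoxeterSystem Cfsg.Agent.ChevalleyStructure.CoxeterGeom Cfsg.Agent.Tits.Roots Cfsg.Agent.Tits.Core
  Cfsg.Agent.Tits.Exchange Cfsg.Agent.Nodes.Reps Cfsg.Agent.Nodes.BNOf Cfsg.Agent.Nodes.StabComb
  Cfsg.Agent.Nodes.Bruhat Cfsg.Agent.Nodes.OppDec Cfsg.Agent.Nodes.LeviDec Cfsg.Agent.H53.HC
  Cfsg.Agent.LieRecognition.RankOneAbstract Cfsg.Agent.Characters Cfsg.Agent.OddOrderCharacters.Clifford

theorem eq_of_card_two {Y : Type*} [Group Y] {X : Subgroup Y} (h2 : Nat.card X = 2) {a b : Y} (ha : a ∈ X)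
    (hb : b ∈ X) (ha1 : a ≠ 1) (hb1 : b ≠ 1) : a = b := by
  obtain ⟨x, y, hxy, hu⟩ := Nat.card_eq_two_iff.1 h2
  have key : ∀ z : X, z = x ∨ z = y := fun z => by
    have : z ∈ ({x, y} : Set X) := by rw [hu]; trivial
    exact this
  have h1 : (⟨a, ha⟩ : X) ≠ 1 := fun h => ha1 (congrArg Subtype.val h)
  have h2 : (⟨b, hb⟩ : X) ≠ 1 := fun h => hb1 (congrArg Subtype.val h)
  have h3 : (⟨a, ha⟩ : X) = ⟨b, hb⟩ := by
    rcases key 1 with h | h <;> rcases key ⟨a, ha⟩ with h4 | h4 <;> rcases key ⟨b, hb⟩ with h5 | h5 <;> simp_all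
  exact congrArg Subtype.val h3

section general

variable {I W Y : Type*} [Fintype I] [DecidableEq I] [Group W] [Group Y] {M : CoxeterMatrix I}
  {cs : CoxeterSystem M W} {A : I → I → ℤ} {h : IsCartan M A} {p : ℕ} {T : Subgroup Y} {n : I → Y}
  {X : (I → ℤ) → Subgroup Y} (R : RGD cs h p T n X)

include R

theorem card_neg (i : I) : Nat.card (X (-sr i)) = Nat.card (X (sr i)) := by
  rw [← rep_simple_sr (cs := cs) (h := h), ← R.conj i _ (isRoot_sr cs h i)]
  unfold cj
  exact Nat.card_congr ((X (sr i)).equivMapOfInjective _ (MulAut.conj (n i)).injective).toEquiv.symm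

/-- a root group of order two is centralised by the torus -/
theorem T_comm_of_card {x : I → ℤ} (hx : IsRoot cs h x) (h2 : Nat.card (X x) = 2) {t u : Y} (ht : t ∈ T)
    (hu : u ∈ X x) : t * u = u * t := by
  by_cases hu1 : u = 1
  · rw [hu1, mul_one, one_mul]
  · have h1 : t * u * t⁻¹ ∈ X x := by
      rw [← R.tor x hx t ht]
      exact conj_mem_cj.2 hu
    have h3 : t * u * t⁻¹ ≠ 1 := fun h => hu1 (by
      have := mul_inv_eq_one.1 h
      exact mul_eq_left.1 this)
    have h4 := eq_of_card_two h2 h1 hu h3 hu1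
    exact mul_inv_eq_iff_eq_mul.1 h4

/-- **The sign character of the Levi subgroup.** -/
theorem exists_sign [Finite Y] (hTc : ∀ a ∈ T, ∀ b ∈ T, a * b = b * a) (i : I)
    (h2 : Nat.card (X (sr i)) = 2) :
    ∃ f : ↥(LJ cs h T X {i}) →* ℂˣ, (∀ (t : Y) (ht : t ∈ T), f ⟨t, T_le_LJ ht⟩ = 1) ∧
      (∀ (u : Y) (hu : u ∈ X (sr i)), u ≠ 1 → f ⟨u, X_le_LJ (PosJ_subset _ (sr_mem_PosJ (Set.mem_singleton i))) hu⟩ = -1) ∧
      (∀ (u : Y) (hu : u ∈ X (-sr i)), u ≠ 1 → f ⟨u, X_le_LJ (RootsJ.neg (PosJ_subset _ (sr_mem_PosJ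
        (Set.mem_singleton i)))) hu⟩ = -1) := by
  classical
  have hri : (sr i : I → ℤ) ∈ RootsJ cs h ({i} : Set I) := PosJ_subset _ (sr_mem_PosJ (Set.mem_singleton i))
  have h2' : Nat.card (X (-sr i)) = 2 := by rw [card_neg R, h2]
  obtain ⟨u, hu, hu1⟩ := exists_ne_one R i
  obtain ⟨v, hv, hv1⟩ : ∃ v ∈ X (-sr i), v ≠ 1 := by
    have : Nontrivial (X (-sr i)) := by
      rw [← Finite.one_lt_card_iff_nontrivial, h2']
      norm_num
    obtain ⟨v, hv⟩ := _root_.exists_ne (1 : X (-sr i))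
    exact ⟨v, v.2, fun h => hv (Subtype.ext h)⟩
  have huu : u * u = 1 := by
    have h3 : u * u ∈ X (sr i) := mul_mem hu hu
    by_contra h4
    exact hu1 (mul_eq_left.1 (eq_of_card_two h2 h3 hu h4 hu1))
  have hvv : v * v = 1 := by
    have h3 : v * v ∈ X (-sr i) := mul_mem hv hv
    by_contra h4
    exact hv1 (mul_eq_left.1 (eq_of_card_two h2' h3 hv h4 hv1))
  have hui : u⁻¹ = u := inv_eq_of_mul_eq_one_left huu
  have hvi : v⁻¹ = v := inv_eq_of_mul_eq_one_left hvv
  have hTu : ∀ t ∈ T, t * u = u * t := fun t ht => T_comm_of_card R (isRoot_sr cs h i) h2 ht hu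
  have hTv : ∀ t ∈ T, t * v = v * t := fun t ht => T_comm_of_card R (isRoot_sr cs h i).neg h2' ht hv
  -- the subgroup
  obtain ⟨H, hH⟩ : ∃ H : Subgroup Y, H = T ⊔ Subgroup.zpowers (u * v) := ⟨_, rfl⟩
  have hTH : T ≤ H := by rw [hH]; exact le_sup_left
  have huvH : u * v ∈ H := by rw [hH]; exact Subgroup.mem_sup_right (Subgroup.mem_zpowers _)
  have hnu : ∀ x ∈ H, u * x * u ∈ H := by
    have h3 : H ≤ H.comap (MulAut.conj u).toMonoidHom := by
      conv_lhs => rw [hH]
      refine sup_le (fun t ht => ?_) ?_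
      · rw [Subgroup.mem_comap]
        change u * t * u⁻¹ ∈ H
        rw [← hTu t ht, mul_inv_cancel_right]
        exact hTH ht
      · rw [Subgroup.zpowers_le, Subgroup.mem_comap]
        change u * (u * v) * u⁻¹ ∈ H
        have e : u * (u * v) * u⁻¹ = (u * v)⁻¹ := by
          rw [mul_inv_rev, hui, hvi, ← mul_assoc, huu, one_mul]
        rw [e]
        exact inv_mem huvH
    intro x hx
    have := h3 hx
    rw [Subgroup.mem_comap] at this
    change u * x * u⁻¹ ∈ H at this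
    rwa [hui] at this
  have hHc : H ≤ Subgroup.centralizer (H : Set Y) := by
    have hT : T ≤ Subgroup.centralizer (H : Set Y) := by
      rw [Subgroup.le_centralizer_iff]
      conv_lhs => rw [hH]
      refine sup_le ?_ ?_
      · intro t ht
        rw [Subgroup.mem_centralizer_iff]
        exact fun s hs => hTc s hs t ht
      · rw [Subgroup.zpowers_le, Subgroup.mem_centralizer_iff]
        intro s hs
        rw [← mul_assoc, hTu s hs, mul_assoc, hTv s hs, ← mul_assoc]
    conv_lhs => rw [hH]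
    refine sup_le hT ?_
    rw [Subgroup.zpowers_le, Subgroup.mem_centralizer_iff]
    have h3 : H ≤ Subgroup.centralizer {u * v} := by
      conv_lhs => rw [hH]
      refine sup_le ?_ ?_
      · intro t ht
        rw [Subgroup.mem_centralizer_singleton_iff, ← mul_assoc, hTu t ht, mul_assoc, hTv t ht, ← mul_assoc]
      · rw [Subgroup.zpowers_le, Subgroup.mem_centralizer_singleton_iff]
    intro x hx
    exact Subgroup.mem_centralizer_singleton_iff.1 (h3 hx)
  have huH : u ∉ H := by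
    intro h3
    have hvH : v ∈ H := by
      have := mul_mem (inv_mem h3) huvH
      rwa [inv_mul_cancel_left] at this
    apply R.notp i
    refine IsPGroup.to_sup_of_normal_right' (R.pgrp i) ?_ ?_
    · rw [← rep_simple_sr (cs := cs) (h := h), ← R.conj i _ (isRoot_sr cs h i)]
      unfold cj
      exact (R.pgrp i).map _
    · intro x hx
      have hxH : x ∈ H := by
        by_cases hx1 : x = 1
        · rw [hx1]
          exact one_mem _
        · rw [eq_of_card_two h2 hx hu hx1 hu1]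
          exact h3
      have hXH : X (-sr i) ≤ Subgroup.centralizer {x} := by
        intro y hy
        rw [Subgroup.mem_centralizer_singleton_iff]
        by_cases hy1 : y = 1
        · rw [hy1, one_mul, mul_one]
        · rw [eq_of_card_two h2' hy hv hy1 hv1]
          exact (Subgroup.mem_centralizer_iff.1 (hHc hvH) x hxH).symm
      refine Subgroup.centralizer_le_normalizer _ ?_
      rw [Subgroup.mem_centralizer_iff]
      intro y hy
      exact Subgroup.mem_centralizer_singleton_iff.1 (hXH hy)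
  have hvH : v ∉ H := fun h3 => huH (by
    have := mul_mem huvH (inv_mem h3)
    rwa [mul_inv_cancel_right] at this)
  have hmul : ∀ x y, x * u ∈ H → y * u ∈ H → x * y ∈ H := by
    intro x y hx hy
    have h3 := mul_mem hx (hnu _ hy)
    have e : x * u * (u * (y * u) * u) = x * y := by
      calc x * u * (u * (y * u) * u) = x * (u * u) * y * (u * u) := by group
        _ = x * y := by rw [huu, mul_one, mul_one]
    rwa [e] at h3
  let S : Subgroup Y :=
    { carrier := {x | x ∈ H ∨ x * u ∈ H}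
      mul_mem' := by
        rintro x y (hx | hx) (hy | hy)
        · exact Or.inl (mul_mem hx hy)
        · refine Or.inr ?_
          rw [mul_assoc]
          exact mul_mem hx hy
        · refine Or.inr ?_
          have h3 := mul_mem hx (hnu _ hy)
          have e : x * u * (u * y * u) = x * y * u := by
            calc x * u * (u * y * u) = x * (u * u) * y * u := by group
              _ = x * y * u := by rw [huu, mul_one]
          rwa [e] at h3
        · exact Or.inl (hmul x y hx hy)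
      one_mem' := Or.inl (one_mem _)
      inv_mem' := by
        rintro x (hx | hx)
        · exact Or.inl (inv_mem hx)
        · refine Or.inr ?_
          have h3 := hnu _ (inv_mem hx)
          have e : u * (x * u)⁻¹ * u = x⁻¹ * u := by
            rw [mul_inv_rev, hui, ← mul_assoc, huu, one_mul]
          rwa [e] at h3 }
  have hL : ∀ x ∈ LJ cs h T X {i}, x ∈ H ∨ x * u ∈ H := by
    have hle : LJ cs h T X {i} ≤ S := by
      rw [LJ_eq, MJ_single]
      refine sup_le (fun t ht => Or.inl (hTH ht)) (sup_le ?_ ?_)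
      · intro x hx
        by_cases hx1 : x = 1
        · rw [hx1]
          exact one_mem _
        · rw [eq_of_card_two h2 hx hu hx1 hu1]
          refine Or.inr ?_
          rw [huu]
          exact one_mem _
      · intro x hx
        by_cases hx1 : x = 1
        · rw [hx1]
          exact one_mem _
        · rw [eq_of_card_two h2' hx hv hx1 hv1]
          refine Or.inr ?_
          have e : v * u = (u * v)⁻¹ := by rw [mul_inv_rev, hui, hvi]
          rw [e]
          exact inv_mem huvH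
    exact fun x hx => hle hx
  refine ⟨MonoidHom.mk' (fun x => if (x : Y) ∈ H then (1 : ℂˣ) else -1) ?_, ?_, ?_, ?_⟩
  · rintro ⟨x, hx⟩ ⟨y, hy⟩
    change (if x * y ∈ H then (1 : ℂˣ) else -1) = (if x ∈ H then (1 : ℂˣ) else -1) * (if y ∈ H then (1 : ℂˣ) else -1)
    by_cases h3 : x ∈ H
    · by_cases h4 : y ∈ H
      · rw [if_pos h3, if_pos h4, if_pos (mul_mem h3 h4), one_mul]
      · rw [if_pos h3, if_neg h4, if_neg, one_mul]
        intro h5
        apply h4
        have := mul_mem (inv_mem h3) h5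
        rwa [inv_mul_cancel_left] at this
    · by_cases h4 : y ∈ H
      · rw [if_neg h3, if_pos h4, if_neg, mul_one]
        intro h5
        apply h3
        have := mul_mem h5 (inv_mem h4)
        rwa [mul_inv_cancel_right] at this
      · rw [if_neg h3, if_neg h4, if_pos, neg_mul_neg, one_mul]
        exact hmul x y ((hL x hx).resolve_left h3) ((hL y hy).resolve_left h4)
  · intro t ht
    change (if t ∈ H then (1 : ℂˣ) else -1) = 1
    rw [if_pos (hTH ht)]
  · intro x hx hx1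
    change (if x ∈ H then (1 : ℂˣ) else -1) = -1
    rw [if_neg]
    rw [eq_of_card_two h2 hx hu hx1 hu1]
    exact huH
  · intro x hx hx1
    change (if x ∈ H then (1 : ℂˣ) else -1) = -1
    rw [if_neg]
    rw [eq_of_card_two h2' hx hv hx1 hv1]
    exact hvH

/-- the order of `P_J` -/
theorem card_PJ_mul [Finite W] [Finite Y] (J : Set I) :
    Nat.card (PJ cs h T X J) = Nat.card (LJ cs h T X J) * Nat.card (VJ cs h X J) := by
  rw [← Nat.card_prod]
  symm
  refine Nat.card_congr (Equiv.ofBijective (fun z : ↥(LJ cs h T X J) × ↥(VJ cs h X J) =>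
    (⟨(z.1 : Y) * z.2, mul_mem (LJ_le_PJ z.1.2) (VJ_le_PJ z.2.2)⟩ : ↥(PJ cs h T X J))) ⟨?_, ?_⟩)
  · rintro ⟨l, v⟩ ⟨l', v'⟩ h1
    have h2 : (l : Y) * v = l' * v' := congrArg Subtype.val h1
    have h3 : (l' : Y)⁻¹ * l = v' * (v : Y)⁻¹ := by
      rw [eq_mul_inv_iff_mul_eq, mul_assoc, h2, inv_mul_cancel_left]
    have h4 : (l' : Y)⁻¹ * l = 1 := eq_one_of_mem_LJ_of_mem_VJ R (mul_mem (inv_mem l'.2) l.2)
      (by rw [h3]; exact mul_mem v'.2 (inv_mem v.2))
    have h5 : l = l' := Subtype.ext (inv_mul_eq_one.1 h4).symm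
    have h6 : v = v' := Subtype.ext (by
      rw [h4] at h3
      exact (mul_inv_eq_one.1 h3.symm).symm)
    rw [h5, h6]
  · rintro ⟨g, hg⟩
    obtain ⟨l, hl, v, hv, rfl⟩ := (mem_PJ R).1 hg
    exact ⟨(⟨l, hl⟩, ⟨v, hv⟩), rfl⟩

end general

section gtwo

variable {W Y : Type*} [Group W] [Group Y] {M : CoxeterMatrix (Fin 2)} {cs : CoxeterSystem M W}
  {A : Fin 2 → Fin 2 → ℤ} {h : IsCartan M A} {p : ℕ} {T : Subgroup Y} {n : Fin 2 → Y} {X : (Fin 2 → ℤ) → Subgroup Y}
  (R : RGD cs h p T n X)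

include R

/-- **The two constituents of the character induced by the sign character of `P_0`.** -/
theorem exists_pair_sign [Finite W] [Finite Y] (hG : GG cs h T X = ⊤) (hTc : ∀ a ∈ T, ∀ b ∈ T, a * b = b * a)
    (hp : p.Prime) (hA : A 0 1 * A 1 0 = 3) (h2 : Nat.card (X (sr 0)) = 2) :
    ∃ (k : ℕ) (χ χ' : IrrCharacter Y),
      charDegree (χ : Y → ℂ) + charDegree (χ' : Y → ℂ) = (PJ cs h T X {0}).index ∧
      charDegree (χ : Y → ℂ) ∣ p ^ k * charDegree (χ' : Y → ℂ) ∧
      charDegree (χ' : Y → ℂ) ∣ p ^ k * charDegree (χ : Y → ℂ) := by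
  classical
  have := Fintype.ofFinite Y
  have hpf := Fact.mk hp
  obtain ⟨f₀, hfT, hfX, hfX'⟩ := exists_sign R hTc 0 h2
  obtain ⟨π, hπL, hπV⟩ := exists_projL R ({0} : Set (Fin 2))
  let f : ↥(PJ cs h T X {0}) →* ℂˣ := f₀.comp π
  have hfL : ∀ (l : Y) (hl : l ∈ LJ cs h T X {0}), f ⟨l, LJ_le_PJ hl⟩ = f₀ ⟨l, hl⟩ := fun l hl =>
    congrArg f₀ (hπL l hl)
  have hfV : ∀ (v : Y) (hv : v ∈ VJ cs h X {0}), f ⟨v, VJ_le_PJ hv⟩ = 1 := fun v hv => by
    have h1 := congrArg f₀ (hπV v hv)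
    rw [map_one] at h1
    exact h1
  obtain ⟨g, hg0⟩ : ∃ g, g = (n 1 * n 0) * n 1 * (n 1 * n 0)⁻¹ := ⟨_, rfl⟩
  have hg : Rp cs R.nsys (vv cs) g := by
    rw [hg0]
    exact (((rp_simple cs R.nsys 1).mul (rp_simple cs R.nsys 0)).mul (rp_simple cs R.nsys 1)).mul
      ((rp_simple cs R.nsys 1).mul (rp_simple cs R.nsys 0)).inv
  have hvv : rep cs h (vv cs) (sr 0) = sr 0 := by
    rw [rep_vv hA, sr_zero_eq]
    exact vec_ext (by simp) (by simp)
  have hvi : (vv cs)⁻¹ = vv cs := by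
    unfold vv
    simp only [mul_inv_rev, cs.inv_simple, mul_assoc]
  have hgP : g ∉ PJ cs h T X {0} := by
    rw [cell_mem_PJ_iff R ⟨1, one_mem _, g, hg, 1, one_mem _, by rw [one_mul, mul_one]⟩]
    exact vv_not_mem hA h
  -- conjugation by `g` normalises `L` and fixes the sign character
  have hconjL : ∀ l, l ∈ LJ cs h T X {0} → ∃ hl' : g⁻¹ * l * g ∈ LJ cs h T X {0}, ∀ hl : l ∈ LJ cs h T X {0},
      f₀ ⟨g⁻¹ * l * g, hl'⟩ = f₀ ⟨l, hl⟩ := by
    have hgT : ∀ t ∈ T, g⁻¹ * t * g ∈ T := fun t ht => conj_T R hg ht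
    have hgX : ∀ u ∈ X (sr 0), g⁻¹ * u * g ∈ X (sr 0) := by
      intro u hu
      have := R.conj_mem' hg (isRoot_sr cs h 0) hu
      rwa [hvi, hvv] at this
    have hgX' : ∀ u ∈ X (-sr 0), g⁻¹ * u * g ∈ X (-sr 0) := by
      intro u hu
      have := R.conj_mem' hg (isRoot_sr cs h 0).neg hu
      rwa [map_neg, hvi, hvv] at this
    have hXL : X (sr 0) ≤ LJ cs h T X {0} := X_le_LJ (PosJ_subset _ (sr_mem_PosJ (Set.mem_singleton 0)))
    have hXL' : X (-sr 0) ≤ LJ cs h T X {0} :=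
      X_le_LJ (RootsJ.neg (PosJ_subset _ (sr_mem_PosJ (Set.mem_singleton 0))))
    have hne : ∀ u : Y, u ≠ 1 → g⁻¹ * u * g ≠ 1 := by
      intro u hu1 h1
      apply hu1
      have h3 : u = g * (g⁻¹ * u * g) * g⁻¹ := by group
      rw [h3, h1, mul_one, mul_inv_cancel]
    let S : Subgroup Y :=
      { carrier := {l | ∃ (hl : l ∈ LJ cs h T X {0}) (hl' : g⁻¹ * l * g ∈ LJ cs h T X {0}),
          f₀ ⟨g⁻¹ * l * g, hl'⟩ = f₀ ⟨l, hl⟩}
        mul_mem' := by
          rintro a b ⟨ha, ha', h1⟩ ⟨hb, hb', h3⟩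
          have e : g⁻¹ * (a * b) * g = (g⁻¹ * a * g) * (g⁻¹ * b * g) := by group
          refine ⟨mul_mem ha hb, by rw [e]; exact mul_mem ha' hb', ?_⟩
          have e1 : (⟨g⁻¹ * (a * b) * g, by rw [e]; exact mul_mem ha' hb'⟩ : ↥(LJ cs h T X {0})) =
              ⟨g⁻¹ * a * g, ha'⟩ * ⟨g⁻¹ * b * g, hb'⟩ := Subtype.ext e
          have e2 : (⟨a * b, mul_mem ha hb⟩ : ↥(LJ cs h T X {0})) = ⟨a, ha⟩ * ⟨b, hb⟩ := rfl
          rw [e1, e2, map_mul, map_mul, h1, h3]
        one_mem' := by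
          refine ⟨one_mem _, by rw [mul_one, inv_mul_cancel]; exact one_mem _, ?_⟩
          congr 1
          exact Subtype.ext (by group)
        inv_mem' := by
          rintro a ⟨ha, ha', h1⟩
          have e : g⁻¹ * a⁻¹ * g = (g⁻¹ * a * g)⁻¹ := by group
          refine ⟨inv_mem ha, by rw [e]; exact inv_mem ha', ?_⟩
          have e1 : (⟨g⁻¹ * a⁻¹ * g, by rw [e]; exact inv_mem ha'⟩ : ↥(LJ cs h T X {0})) =
              (⟨g⁻¹ * a * g, ha'⟩ : ↥(LJ cs h T X {0}))⁻¹ := Subtype.ext e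
          have e2 : (⟨a⁻¹, inv_mem ha⟩ : ↥(LJ cs h T X {0})) = (⟨a, ha⟩ : ↥(LJ cs h T X {0}))⁻¹ := rfl
          rw [e1, e2, map_inv, map_inv, h1] }
    have hS : LJ cs h T X {0} ≤ S := by
      conv_lhs => rw [LJ_eq, MJ_single]
      refine sup_le ?_ (sup_le ?_ ?_)
      · intro t ht
        exact ⟨T_le_LJ ht, T_le_LJ (hgT t ht), by rw [hfT t ht, hfT _ (hgT t ht)]⟩
      · intro u hu
        refine ⟨hXL hu, hXL (hgX u hu), ?_⟩
        by_cases hu1 : u = 1
        · subst hu1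
          congr 1
          exact Subtype.ext (by group)
        · exact (hfX _ (hgX u hu) (hne u hu1)).trans (hfX u hu hu1).symm
      · intro u hu
        refine ⟨hXL' hu, hXL' (hgX' u hu), ?_⟩
        by_cases hu1 : u = 1
        · subst hu1
          congr 1
          exact Subtype.ext (by group)
        · exact (hfX' _ (hgX' u hu) (hne u hu1)).trans (hfX' u hu hu1).symm
    intro l hl
    obtain ⟨hl1, hl', h1⟩ := hS hl
    exact ⟨hl', fun _ => h1⟩
  -- the intersection is `L`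
  have hint : ∀ t, t ∈ PJ cs h T X {0} → g⁻¹ * t * g ∈ PJ cs h T X {0} → t ∈ LJ cs h T X {0} := by
    intro t ht ht'
    obtain ⟨l, hl, v, hv, rfl⟩ := (mem_PJ R).1 ht
    obtain ⟨hl', -⟩ := hconjL l hl
    have h1 : g⁻¹ * v * g ∈ VNJ cs h X {0} :=
      conj_mem_Sup' R hg (fun x hx => hx.1) (fun x hx => vv_notJ hA hx) hv
    have h3 : g⁻¹ * v * g ∈ PJ cs h T X {0} := by
      have h4 := mul_mem (inv_mem (LJ_le_PJ hl')) ht'
      have e : (g⁻¹ * l * g)⁻¹ * (g⁻¹ * (l * v) * g) = g⁻¹ * v * g := by group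
      rwa [e] at h4
    have h4 := eq_one_of_mem_VNJ_of_mem_PJ R h1 h3
    have h5 : v = 1 := by
      have h6 : v = g * (g⁻¹ * v * g) * g⁻¹ := by group
      rw [h6, h4, mul_one, mul_inv_cancel]
    rw [h5, mul_one]
    exact hl
  obtain ⟨χ, χ', hsum, hd, hd'⟩ := exists_pair (PJ cs h T X {0}) f (g := g) hgP
    (by
      rintro ⟨t, ht⟩ ht'
      have htL := hint t ht ht'
      obtain ⟨hl', h1⟩ := hconjL t htL
      exact (hfL t htL).trans ((h1 htL).symm.trans (hfL _ hl').symm))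
    (by
      intro x hx hxD
      obtain ⟨a, ha, b, hb, w, k, hk, e, hwJ, hw1, hw2⟩ := exists_min_rep R hG {0} hx
      by_cases hw : rep cs h w (sr 0) = sr 0
      · exfalso
        apply hxD
        have hwv := eq_vv hA hwJ hw
        subst hwv
        have ht := hg.unique hk
        refine ⟨a, ha, g⁻¹ * k * b, mul_mem (T_le_PJ _ ht) hb, ?_⟩
        rw [e]
        group
      · obtain ⟨u, hu, hu1⟩ := exists_ne_one R 0
        have hroot := (isRoot_sr cs h 0).act (w := w)
        have hβ : rep cs h w (sr 0) ∈ NotJ cs h ({0} : Set (Fin 2)) := by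
          have h0 := hw2 0 (Set.mem_singleton 0)
          refine ⟨hroot, h0, ?_⟩
          by_contra hcon
          push Not at hcon
          exact hw (hroot.eq_sr h0 0 fun k hk => le_antisymm (hcon k hk) (h0 k))
        have hv : k * u * k⁻¹ ∈ VJ cs h X {0} := RGD.le_Sup hβ (R.conj_mem hk (isRoot_sr cs h 0) hu)
        have ht : a * (k * u * k⁻¹) * a⁻¹ ∈ PJ cs h T X {0} := mul_mem (mul_mem ha (VJ_le_PJ hv)) (inv_mem ha)
        have huP : u ∈ PJ cs h T X {0} :=
          LJ_le_PJ (X_le_LJ (PosJ_subset _ (sr_mem_PosJ (Set.mem_singleton 0))) hu)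
        have e1 : x⁻¹ * (a * (k * u * k⁻¹) * a⁻¹) * x = b⁻¹ * u * b := by
          rw [e]
          group
        have hx' : x⁻¹ * (a * (k * u * k⁻¹) * a⁻¹) * x ∈ PJ cs h T X {0} := by
          rw [e1]
          exact mul_mem (mul_mem (inv_mem hb) huP) hb
        refine ⟨⟨_, ht⟩, hx', ?_⟩
        have h1 : f ⟨a * (k * u * k⁻¹) * a⁻¹, ht⟩ = 1 := by
          have e2 : (⟨a * (k * u * k⁻¹) * a⁻¹, ht⟩ : ↥(PJ cs h T X {0})) =
              ⟨a, ha⟩ * ⟨k * u * k⁻¹, VJ_le_PJ hv⟩ * ⟨a, ha⟩⁻¹ := rfl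
          rw [e2, map_mul, map_mul, hfV _ hv, mul_one, map_inv, mul_inv_cancel]
        have h3 : f ⟨x⁻¹ * (a * (k * u * k⁻¹) * a⁻¹) * x, hx'⟩ = -1 := by
          have e2 : (⟨x⁻¹ * (a * (k * u * k⁻¹) * a⁻¹) * x, hx'⟩ : ↥(PJ cs h T X {0})) =
              ⟨b, hb⟩⁻¹ * ⟨u, huP⟩ * ⟨b, hb⟩ := Subtype.ext e1
          rw [e2, map_mul, map_mul, map_inv, mul_comm (f ⟨b, hb⟩)⁻¹, mul_assoc, inv_mul_cancel, mul_one]
          exact (hfL u _).trans (hfX u hu hu1)
        rw [h1, h3]
        intro h4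
        have h5 := congrArg Units.val h4
        rw [Units.val_one, Units.val_neg, Units.val_one] at h5
        norm_num at h5)
  -- the index
  obtain ⟨k, hk⟩ := ((RGD.isPGroup_Upos R).to_le (VJ_le_U ({0} : Set (Fin 2)))).exists_card_eq
  have hb : (dsub (PJ cs h T X {0}) g).index ∣ p ^ k := by
    rw [← hk]
    have h1 : (LJ cs h T X {0}).subgroupOf (PJ cs h T X {0}) ≤ dsub (PJ cs h T X {0}) g := by
      intro l hl
      rw [mem_dsub]
      obtain ⟨hl', -⟩ := hconjL l hl
      exact LJ_le_PJ hl'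
    obtain ⟨j, hj⟩ := Subgroup.card_dvd_of_le h1
    have h3 := Subgroup.card_mul_index (dsub (PJ cs h T X {0}) g)
    rw [card_PJ_mul R, hj, Nat.card_congr (Subgroup.subgroupOfEquivOfLe LJ_le_PJ).toEquiv, mul_assoc] at h3
    exact ⟨j, by rw [← Nat.eq_of_mul_eq_mul_left Nat.card_pos h3, mul_comm]⟩
  exact ⟨k, χ, χ', hsum, hd.trans (Nat.mul_dvd_mul_right hb _), hd'.trans (Nat.mul_dvd_mul_right hb _)⟩

end gtwo

end Cfsg.Agent.H115.HC.Two
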