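import Cfsg.Agent.H115.HC.TwoDFour
import Cfsg.Agent.H115.HC.TwoSign
import Cfsg.Agent.H115.HC.Rows
import Cfsg.Agent.H596.OneFacts
import Cfsg.Agent.H996.Deg.GThree

/-!
# The rows `G₂(q)` and `³D₄(q)` of `FactTwo` (helper115)

Two irreducible characters of different degrees divisible by `p`.
-/

set_option autoImplicit false

open Cfsg Cfsg.Lie

namespace Cfsg.Agent.H115.HC.TwoRows

open Cfsg.Agent.H53.HC Cfsg.Agent.Nodes.RGDChev Cfsg.Agent.Characters.Core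

/-- two different degrees divisible by `p` -/
def TwoDeg (p : ℕ) (H : Type*) [Group H] : Prop :=
  ∃ χ χ' : IrrCharacter H, p ∣ charDegree (χ : H → ℂ) ∧ p ∣ charDegree (χ' : H → ℂ) ∧
    charDegree (χ : H → ℂ) ≠ charDegree (χ' : H → ℂ)

theorem TwoDeg.two {p : ℕ} {S H : Type*} [Group S] [Group H] (e : S ≃* H) (h : TwoDeg p H) :
    H596.OneFacts.Two p S := by
  obtain ⟨χ, χ', h1, h2, h3⟩ := h
  have key : ∀ ξ : IrrCharacter H, ∃ η : IrrCharacter S, charDegree (η : S → ℂ) = charDegree (ξ : H → ℂ) := by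
    intro ξ
    refine ⟨⟨(ξ : H → ℂ) ∘ e.toMonoidHom, isIrr_comp e.toMonoidHom e.surjective ξ.2⟩, ?_⟩
    change charDegree ((ξ : H → ℂ) ∘ e.toMonoidHom) = _
    unfold charDegree
    rw [Function.comp_apply, map_one]
  obtain ⟨η, hη⟩ := key χ
  obtain ⟨η', hη'⟩ := key χ'
  exact H596.OneFacts.two_of_degree_ne η η' (by rw [hη]; exact h1) (by rw [hη']; exact h2) (by rw [hη, hη']; exact h3)

/-- the Steinberg character -/
theorem exists_st {p : ℕ} (hp : p.Prime) {G : Type*} [Group G] [Finite G] (hG : HasRGD p G) (hd : p ∣ Nat.card G) :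
    ∃ (χ : IrrCharacter G) (a : ℕ), a ≠ 0 ∧ charDegree (χ : G → ℂ) = p ^ a := by
  have := Fact.mk hp
  obtain ⟨χ, hχ, h1⟩ := H167.SteinbergRGD.steinberg_of_hasRGD hG
  have Q : Sylow p G := default
  obtain ⟨a, ha⟩ := Q.2.exists_card_eq
  refine ⟨⟨χ, hχ⟩, a, ?_, ?_⟩
  · rintro rfl
    have h2 := Q.dvd_card_of_dvd_card hd
    rw [ha, pow_zero, Nat.dvd_one] at h2
    exact hp.one_lt.ne' h2
  · have h2 : χ 1 = (charDegree χ : ℂ) := Cfsg.Agent.Blocks.Basic.irr_one_eq_charDegree hχ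
    have h3 := (h1 Q).1
    rw [h2, ha] at h3
    exact_mod_cast h3

/-- the two characters of degrees `E`, `E q` and the Steinberg character -/
theorem of_E {G : Type*} [Group G] [Finite G] {q r f E : ℕ} (hr : r.Prime) (hf : 0 < f) (hq : q = r ^ f)
    (hR : HasRGD r G) (hrG : r ∣ Nat.card G) (hE1 : 1 < E) (hE : ∀ ℓ : ℕ, ℓ.Prime → ℓ ∣ q → ¬ ℓ ∣ E)
    (h : ∃ χ₁ χ₂ : IrrCharacter G, charDegree (χ₁ : G → ℂ) = E ∧ charDegree (χ₂ : G → ℂ) = E * q)
    {p : ℕ} (hp : p.Prime) (hpE : p ∣ E ∨ p ∣ q) : TwoDeg p G := by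
  obtain ⟨χ₁, χ₂, h1, h2⟩ := h
  have hq2 : 2 ≤ q := by
    rw [hq]
    exact hr.two_le.trans (Nat.le_self_pow hf.ne' r)
  rcases hpE with h3 | h3
  · refine ⟨χ₁, χ₂, by rw [h1]; exact h3, by rw [h2]; exact h3.mul_right _, ?_⟩
    rw [h1, h2]
    intro h4
    nlinarith
  · have hpr : p = r := by
      rw [hq] at h3
      exact (Nat.prime_dvd_prime_iff_eq hp hr).1 (hp.dvd_of_dvd_pow h3)
    subst hpr
    obtain ⟨χ, a, ha, h4⟩ := exists_st hr hR hrG
    refine ⟨χ, χ₂, by rw [h4]; exact dvd_pow_self _ ha, by rw [h2]; exact h3.mul_left _, ?_⟩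
    rw [h2, h4]
    intro h5
    have h6 : E ∣ p ^ a := by
      rw [h5]
      exact Dvd.intro q rfl
    obtain ⟨j, -, hj⟩ := (Nat.dvd_prime_pow hr).1 h6
    have hj0 : j ≠ 0 := by
      rintro rfl
      rw [pow_zero] at hj
      omega
    exact hE p hr h3 (by rw [hj]; exact dvd_pow_self _ hj0)

/-! ### `G₂(q)` -/

/-- `G₂(q)`, `q ≥ 4` -/
theorem two_group_four (F : Type) [Field F] [Fintype F] (h4 : 4 ≤ Fintype.card F) {p : ℕ} (hp : p.Prime)
    (hd : p ∣ Nat.card ↥(chevG2.group F)) : TwoDeg p ↥(chevG2.group F) := by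
  obtain ⟨r, f, hr, hch, hf, hcard⟩ := Rows.exists_char F
  have hN : Nat.card ↥(chevG2.group F) = (Fintype.card F) ^ 6 * ((Fintype.card F) ^ 2 - 1) * ((Fintype.card F) ^ 6 - 1) :=
    Cfsg.Agent.S1059.result rfl
  have hrG : r ∣ Nat.card ↥(chevG2.group F) := by
    rw [hN, hcard]
    exact ((dvd_pow (dvd_pow_self r hf.ne') (by norm_num)).mul_right _).mul_right _
  have hE : ∀ ℓ : ℕ, ℓ.Prime → ℓ ∣ Fintype.card F →
      ¬ ℓ ∣ (Fintype.card F + 1) * (Fintype.card F ^ 4 + Fintype.card F ^ 2 + 1) := by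
    intro ℓ hℓ h1 h2
    rcases hℓ.dvd_mul.1 h2 with h3 | h3
    · exact hℓ.one_lt.ne' (Nat.dvd_one.1 ((Nat.dvd_add_right h1).1 h3))
    · have h5 : ℓ ∣ Fintype.card F ^ 4 + Fintype.card F ^ 2 := dvd_add (dvd_pow h1 (by norm_num)) (dvd_pow h1 (by norm_num))
      exact hℓ.one_lt.ne' (Nat.dvd_one.1 ((Nat.dvd_add_right h5).1 h3))
  have hE1 : 1 < (Fintype.card F + 1) * (Fintype.card F ^ 4 + Fintype.card F ^ 2 + 1) := by
    have h1 : 0 < Fintype.card F ^ 4 + Fintype.card F ^ 2 := by positivity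
    nlinarith
  by_cases hc : p ∣ (Fintype.card F + 1) * (Fintype.card F ^ 4 + Fintype.card F ^ 2 + 1) ∨ p ∣ Fintype.card F
  · exact of_E hr hf hcard (hasRGD_G2 F r) hrG hE1 hE (GTwo.exists_E h4) hp hc
  · push Not at hc
    rw [hN] at hd
    rcases GTwo.arith (by omega) hp hd hc.2 with h1 | ⟨h2, h1⟩
    · exact absurd h1 hc.1
    · have h3 : p ≠ 3 := by
        rintro rfl
        apply hc.1
        obtain ⟨k, hk⟩ := h1
        have e : Fintype.card F = 3 * k + 1 := by omega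
        rw [e]
        exact Dvd.dvd.mul_left ⟨27 * k ^ 4 + 36 * k ^ 3 + 21 * k ^ 2 + 6 * k + 1, by ring⟩ _
      have h5 : 5 ≤ p := by
        have := hp.two_le
        have h44 : p ≠ 4 := by
          rintro rfl
          exact absurd hp (by norm_num)
        omega
      obtain ⟨χ, χ', a1, a2, a3⟩ := GTwo.exists_reg hp h5 h1
      exact ⟨χ, χ', a1, a2, a3.ne'⟩

/-- `G₂(3)` -/
theorem two_group_three (F : Type) [Field F] [Fintype F] (h3 : Fintype.card F = 3) {p : ℕ} (hp : p.Prime)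
    (hd : p ∣ Nat.card ↥(chevG2.group F)) : TwoDeg p ↥(chevG2.group F) := by
  obtain ⟨r, f, hr, hch, hf, hcard⟩ := Rows.exists_char F
  have hr3 : r = 3 := by
    have h1 : r ∣ 3 := by
      rw [← h3, hcard]
      exact dvd_pow_self r hf.ne'
    exact (Nat.prime_dvd_prime_iff_eq hr Nat.prime_three).1 h1
  subst hr3
  obtain ⟨d, hd0, hdeg⟩ := H996.Deg.GThree.degrees_G2 (K := F) (by rw [Nat.card_eq_fintype_card]; exact h3)
  obtain ⟨χ1, h1⟩ := hdeg 104 (by decide)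
  obtain ⟨χ2, h2⟩ := hdeg 168 (by decide)
  obtain ⟨χ3, h4⟩ := hdeg 91 (by decide)
  have hN : Nat.card ↥(chevG2.group F) = (Fintype.card F) ^ 6 * ((Fintype.card F) ^ 2 - 1) * ((Fintype.card F) ^ 6 - 1) :=
    Cfsg.Agent.S1059.result rfl
  rw [h3] at hN
  have hpc : p = 3 ∨ p = 2 ∨ p = 7 ∨ p = 13 := by
    have e : Nat.card ↥(chevG2.group F) = 3 ^ 6 * (2 ^ 6 * (7 * 13)) := by
      rw [hN]
      norm_num
    rw [e, hp.dvd_mul, hp.dvd_mul, hp.dvd_mul] at hd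
    rcases hd with h | h | h | h
    · exact Or.inl ((Nat.prime_dvd_prime_iff_eq hp Nat.prime_three).1 (hp.dvd_of_dvd_pow h))
    · exact Or.inr (Or.inl ((Nat.prime_dvd_prime_iff_eq hp Nat.prime_two).1 (hp.dvd_of_dvd_pow h)))
    · exact Or.inr (Or.inr (Or.inl ((Nat.prime_dvd_prime_iff_eq hp (by norm_num)).1 h)))
    · exact Or.inr (Or.inr (Or.inr ((Nat.prime_dvd_prime_iff_eq hp (by norm_num)).1 h)))
  rcases hpc with rfl | rfl | rfl | rfl
  · obtain ⟨χ, a, ha, h5⟩ := exists_st Nat.prime_three (hasRGD_G2 F 3) hd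
    refine ⟨χ, χ2, by rw [h5]; exact dvd_pow_self _ ha, by rw [h2]; exact ⟨56 * d, by ring⟩, ?_⟩
    rw [h5, h2]
    intro h6
    have h7 : 2 ∣ 3 ^ a := by
      rw [h6]
      exact ⟨84 * d, by ring⟩
    have := (Nat.prime_dvd_prime_iff_eq Nat.prime_two Nat.prime_three).1 (Nat.prime_two.dvd_of_dvd_pow h7)
    omega
  · refine ⟨χ1, χ2, by rw [h1]; exact ⟨52 * d, by ring⟩, by rw [h2]; exact ⟨84 * d, by ring⟩, ?_⟩
    rw [h1, h2]
    omega
  · refine ⟨χ2, χ3, by rw [h2]; exact ⟨24 * d, by ring⟩, by rw [h4]; exact ⟨13 * d, by ring⟩, ?_⟩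
    rw [h2, h4]
    omega
  · refine ⟨χ1, χ3, by rw [h1]; exact ⟨8 * d, by ring⟩, by rw [h4]; exact ⟨7 * d, by ring⟩, ?_⟩
    rw [h1, h4]
    omega

/-- **`FactTwo` for `G₂(q)`.** -/
theorem two_G2 (S : Type*) [Group S] [Finite S] (h : Lie.IsoChevG2 S) (_hs : IsSimpleGroup S) {p : ℕ} (hp : p.Prime)
    (hd : p ∣ Nat.card S) : H596.OneFacts.Two p S := by
  obtain ⟨F, _, _, h3, ⟨e⟩⟩ := h
  rw [Nat.card_congr e.toEquiv] at hd
  rcases Nat.eq_or_lt_of_le h3 with h4 | h4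
  · exact (two_group_three F h4.symm hp hd).two e
  · exact (two_group_four F h4 hp hd).two e

/-! ### `³D₄(q)` -/

theorem ratio {d d' k : ℕ} (hsum : d + d' = 2457) (h1 : d ∣ 2 ^ k * d') (h2 : d' ∣ 2 ^ k * d) :
    273 ∣ d ∧ 273 ∣ d' ∧ (2 ∣ d ∨ 2 ∣ d') := by
  have key : ∀ {d d' k : ℕ}, d + d' = 2457 → d ∣ 2 ^ k * d' → d' ∣ 2 ^ k * d → ¬ 2 ∣ d →
      273 ∣ d ∧ 273 ∣ d' ∧ 2 ∣ d' := by
    intro d d' k hsum h1 h2 hodd
    have hc : Nat.Coprime d (2 ^ k) := ((Nat.Prime.coprime_iff_not_dvd Nat.prime_two).2 hodd).symm.pow_right k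
    obtain ⟨c, rfl⟩ := hc.dvd_of_dvd_mul_left h1
    have hd0 : 0 < d := by
      rcases Nat.eq_zero_or_pos d with h | h
      · exact absurd (by rw [h]; exact dvd_zero 2) hodd
      · exact h
    rw [mul_comm d c] at h2
    obtain ⟨j, -, rfl⟩ := (Nat.dvd_prime_pow Nat.prime_two).1 (Nat.dvd_of_mul_dvd_mul_right hd0 h2)
    have hj : j < 12 := by
      by_contra hj
      push Not at hj
      have h3 : 2 ^ 12 ≤ 2 ^ j := Nat.pow_le_pow_right (by norm_num) hj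
      nlinarith
    interval_cases j
    · omega
    · have : d = 819 := by omega
      subst this
      exact ⟨by norm_num, by norm_num, by norm_num⟩
    · omega
    · have : d = 273 := by omega
      subst this
      exact ⟨by norm_num, by norm_num, by norm_num⟩
    all_goals omega
  by_cases hodd : 2 ∣ d
  · have h3 : ¬ 2 ∣ d' := by
      intro h4
      have := dvd_add hodd h4
      rw [hsum] at this
      omega
    obtain ⟨a, b, c⟩ := key (by rw [add_comm]; exact hsum) h2 h1 h3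
    exact ⟨b, a, Or.inl c⟩
  · obtain ⟨a, b, c⟩ := key hsum h1 h2 hodd
    exact ⟨a, b, Or.inr c⟩

open Cfsg.Agent.Nodes.LeviDec Cfsg.Agent.Nodes.StabComb Cfsg.Agent.BiChar.TwDFour in
/-- `³D₄(2)` -/
theorem two_twisted_two {K : Type} [Field K] [Fintype K] (hK : Fintype.card K = 2 ^ 3) {p : ℕ} (hp : p.Prime)
    (hd : p ∣ Nat.card ↥(twistedD4 K 2)) : TwoDeg p ↥(twistedD4 K 2) := by
  classical
  have hq : IsPrimePow 2 := Nat.prime_two.isPrimePow
  obtain ⟨r, hch⟩ := CharP.exists K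
  have hrp : r.Prime := CharP.char_is_prime K r
  have : Fact r.Prime := ⟨hrp⟩
  have hr2 : r = 2 := by
    obtain ⟨m, -, hm⟩ := FiniteField.card K r
    have h1 : r ∣ 2 ^ 3 := by
      rw [← hK, hm]
      exact dvd_pow_self _ m.ne_zero
    exact (Nat.prime_dvd_prime_iff_eq hrp Nat.prime_two).1 (hrp.dvd_of_dvd_pow h1)
  subst hr2
  obtain ⟨φ, hφ⟩ := ChevalleyStructure.D4Fixed.exists_frob hq hK
  have hle := ChevalleyStructure.D4Fixed.twisted_le_fix hK hφ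
  have : Finite CoxeterMatrix.G₂.Group := Nodes.RGDChev.finite_W Cfsg.Agent.BiChar.GTwo.isType
    Cfsg.Agent.BiChar.TwDFour.cs
  have Rg := Nodes.RGDTwD4.rgd (K := K) Cfsg.Agent.BiChar.TwDFour.cs hK hφ 2
  obtain ⟨k, χ, χ', hsum, h1, h2⟩ := Two.exists_pair_sign Rg (TwDFour.GG_top hφ hK) TwDFour.T_comm Nat.prime_two
    (by decide) (TwDFour.card_X0 hφ hle (by norm_num) hK)
  rw [TwDFour.index_eq' (p := 2) hφ hle hq hK] at hsum
  have hsum' : charDegree (χ : ↥(twistedD4 K 2) → ℂ) + charDegree (χ' : ↥(twistedD4 K 2) → ℂ) = 2457 := by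
    rw [hsum]
    norm_num
  obtain ⟨a1, a2, a3⟩ := ratio hsum' h1 h2
  have hne : charDegree (χ : ↥(twistedD4 K 2) → ℂ) ≠ charDegree (χ' : ↥(twistedD4 K 2) → ℂ) := by omega
  have hN := Cfsg.Agent.S1067.result hq hK
  have hpc : p = 2 ∨ p ∣ 273 := by
    have e : Nat.card ↥(twistedD4 K 2) = 2 ^ 12 * (3 ^ 4 * (7 ^ 2 * 13)) := by
      rw [hN]
      norm_num
    rw [e, hp.dvd_mul, hp.dvd_mul, hp.dvd_mul] at hd
    rcases hd with h | h | h | h
    · exact Or.inl ((Nat.prime_dvd_prime_iff_eq hp Nat.prime_two).1 (hp.dvd_of_dvd_pow h))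
    · exact Or.inr ((hp.dvd_of_dvd_pow h).trans (by norm_num))
    · exact Or.inr ((hp.dvd_of_dvd_pow h).trans (by norm_num))
    · exact Or.inr (h.trans (by norm_num))
  rcases hpc with rfl | hp3
  · obtain ⟨ξ, a, ha, h5⟩ := exists_st Nat.prime_two (Cfsg.Agent.Nodes.RGDTwD4.hasRGD hq hK 2) hd
    have hnot : ∀ e : ℕ, 273 ∣ e → (2 ^ a : ℕ) ≠ e := by
      intro e he h6
      have h7 : 3 ∣ 2 ^ a := by
        rw [h6]
        exact Dvd.dvd.trans (by norm_num) he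
      have := (Nat.prime_dvd_prime_iff_eq Nat.prime_three Nat.prime_two).1 (Nat.prime_three.dvd_of_dvd_pow h7)
      omega
    rcases a3 with h6 | h6
    · exact ⟨ξ, χ, by rw [h5]; exact dvd_pow_self _ ha, h6, by rw [h5]; exact hnot _ a1⟩
    · exact ⟨ξ, χ', by rw [h5]; exact dvd_pow_self _ ha, h6, by rw [h5]; exact hnot _ a2⟩
  · exact ⟨χ, χ', hp3.trans a1, hp3.trans a2, hne⟩

/-- `³D₄(q)`, `q ≥ 3` -/
theorem two_twisted_three {K : Type} [Field K] [Fintype K] {q : ℕ} (hq : IsPrimePow q) (h3 : 3 ≤ q)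
    (hK : Fintype.card K = q ^ 3) {p : ℕ} (hp : p.Prime)
    (hd : p ∣ Nat.card ↥(twistedD4 K q)) : TwoDeg p ↥(twistedD4 K q) := by
  obtain ⟨r, fK, hr, hch, hfK, hcard⟩ := Rows.exists_char K
  obtain ⟨r', f, hr', hf, hqf⟩ := id hq
  have hrr : r' = r := by
    have h1 : r' ∣ r ^ fK := by
      rw [← hcard, hK, ← hqf]
      exact dvd_pow (dvd_pow_self r' hf.ne') (by norm_num)
    exact (Nat.prime_dvd_prime_iff_eq hr'.nat_prime hr).1 (hr'.nat_prime.dvd_of_dvd_pow h1)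
  subst hrr
  have hN := Cfsg.Agent.S1067.result hq hK
  have hrq : r' ∣ q := by
    rw [← hqf]
    exact dvd_pow_self r' hf.ne'
  have hrG : r' ∣ Nat.card ↥(twistedD4 K q) := by
    rw [hN]
    exact (((dvd_pow hrq (by norm_num)).mul_right _).mul_right _).mul_right _
  have hE : ∀ ℓ : ℕ, ℓ.Prime → ℓ ∣ q → ¬ ℓ ∣ (q ^ 3 + 1) * (q ^ 8 + q ^ 4 + 1) := by
    intro ℓ hℓ h1 h2
    rcases hℓ.dvd_mul.1 h2 with h3 | h3
    · exact hℓ.one_lt.ne' (Nat.dvd_one.1 ((Nat.dvd_add_right (dvd_pow h1 (by norm_num))).1 h3))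
    · have h5 : ℓ ∣ q ^ 8 + q ^ 4 := dvd_add (dvd_pow h1 (by norm_num)) (dvd_pow h1 (by norm_num))
      exact hℓ.one_lt.ne' (Nat.dvd_one.1 ((Nat.dvd_add_right h5).1 h3))
  have hE1 : 1 < (q ^ 3 + 1) * (q ^ 8 + q ^ 4 + 1) := by
    have h1 : 0 < q ^ 3 := by positivity
    have h2 : 0 < q ^ 8 + q ^ 4 := by positivity
    nlinarith
  by_cases hc : p ∣ (q ^ 3 + 1) * (q ^ 8 + q ^ 4 + 1) ∨ p ∣ q
  · exact of_E hr'.nat_prime hf hqf.symm (Cfsg.Agent.Nodes.RGDTwD4.hasRGD hq hK r') hrG hE1 hE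
      (TwDFour.exists_E hq h3 hK) hp hc
  · push Not at hc
    rw [hN] at hd
    rcases TwDFour.arith (by omega) hp hd hc.2 with h1 | ⟨h2, h1⟩
    · exact absurd h1 hc.1
    · have h3 : p ≠ 3 := by
        rintro rfl
        apply hc.1
        obtain ⟨k, hk⟩ := h1
        have e : q = 3 * k + 1 := by omega
        have h5 : (q ^ 8 + q ^ 4 + 1) % 3 = 0 := by
          have h6 : q % 3 = 1 := by omega
          rw [Nat.add_mod, Nat.add_mod (q ^ 8), Nat.pow_mod, Nat.pow_mod q 4, h6]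
        exact Dvd.dvd.mul_left (Nat.dvd_of_mod_eq_zero h5) _
      have h5 : 5 ≤ p := by
        have := hp.two_le
        have h44 : p ≠ 4 := by
          rintro rfl
          exact absurd hp (by norm_num)
        omega
      obtain ⟨χ, χ', a1, a2, a3⟩ := TwDFour.exists_reg hq hK hp h5 h1
      exact ⟨χ, χ', a1, a2, a3.ne'⟩

/-- **`FactTwo` for `³D₄(q)`.** -/
theorem two_3D4 (S : Type*) [Group S] [Finite S] (h : Lie.Iso3D4 S) (_hs : IsSimpleGroup S) {p : ℕ} (hp : p.Prime)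
    (hd : p ∣ Nat.card S) : H596.OneFacts.Two p S := by
  obtain ⟨K, _, _, q, hq, hK, ⟨e⟩⟩ := h
  rw [Nat.card_congr e.toEquiv] at hd
  rcases Nat.eq_or_lt_of_le hq.two_le with h4 | h4
  · subst h4
    exact (two_twisted_two hK hp hd).two e
  · exact (two_twisted_three hq h4 hK hp hd).two e

end Cfsg.Agent.H115.HC.TwoRows
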